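import Groth.Agent.Lib.CurveH1Min27.Compl
import Groth.Agent.Lib.CurveCoh17.Pairing
import Groth.Agent.Lib.DMon9.Mod
import Groth.Agent.Lib.VB17.Pair
import Groth.Agent.Lib.CohMop.HomCoh

/-!
# Adjunction for subcurves of a reduced curve with a trace
-/

set_option autoImplicit false
set_option linter.style.haveILetI false
set_option linter.unusedSectionVars false
set_option backward.isDefEq.respectTransparency false

universe u

open CategoryTheory CategoryTheory.Limits AlgebraicGeometry TopologicalSpace Opposite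

namespace Groth.Agent.CurveH1Min27

open Groth.Agent.M1 Groth.Agent.CurveCoh17
open TFOne27 (GenClosed)

variable {X : Scheme.{u}} {k : Type u} [Field k] [X.Over (Spec (CommRingCat.of k))]

variable (k) in
/-- `t` represents `H¹` by maps to `ω`. -/
def IsTrace (ω : X.Modules) (t : Coh.HH X ω 1 →ₗ[k] k) : Prop :=
  ∀ F : X.Modules, Coh.IsCoh F → ∀ ψ : Coh.HH X F 1 →ₗ[k] k, ∃! φ : F ⟶ ω, ∀ x, ψ x = t (hmap k φ 1 x)

theorem IsTrace.ext {ω : X.Modules} {t : Coh.HH X ω 1 →ₗ[k] k} (ht : IsTrace k ω t) {F : X.Modules}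
    (hF : Coh.IsCoh F) {φ φ' : F ⟶ ω} (h : ∀ x, t (hmap k φ 1 x) = t (hmap k φ' 1 x)) : φ = φ' :=
  (ht F hF (t ∘ₗ hmap k φ' 1)).unique (fun x => (h x).symm) fun _ => rfl

theorem secHom_comp_app {M N : X.Modules} (s : Γ(M, (⊤ : X.Opens))) (a : M ⟶ N) :
    secHom (a.app ⊤ s) = secHom s ≫ a :=
  unit_hom_ext ((secHom_app_one _).trans (congrArg (a.app ⊤) (secHom_app_one s)).symm)

theorem eq_secHom {M : X.Modules} (φ : Coh.structureModule X ⟶ M) : secHom (φ.app ⊤ (one ⊤)) = φ :=
  unit_hom_ext (secHom_app_one _)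

/-- `J' ⊗ ω → ω`. -/
noncomputable abbrev inc (J : X.IdealSheafData) (ω : X.Modules) : CohB1.tensorMod (ClSub.idealMod J) ω ⟶ ω :=
  M2.tensorMap (ClSub.idealModι J) (𝟙 ω) ≫ (M2.tensorLUnit ω).hom

theorem mono_inc (J : X.IdealSheafData) {ω : X.Modules} (hω : PicF.IsInvertible ω) : Mono (inc J ω) := by
  haveI : Mono (ClSub.idealModι J) := inferInstanceAs (Mono (kernel.ι (ClSub.toSubscheme J)))
  haveI := VB17.mono_tensorMap (ClSub.idealModι J) hω
  exact mono_comp _ _

theorem hmap_zero_injective {M N : X.Modules} (φ : M ⟶ N) [Mono φ] : Function.Injective (hmap k φ 0) :=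
  hmap_f_injective k (S := ShortComplex.mk φ (cokernel.π φ) (cokernel.condition φ)) { exact := ShortComplex.exact_of_g_is_cokernel _ (cokernelIsCokernel φ) }

theorem app_top_injective {M N : X.Modules} (φ : M ⟶ N) [Mono φ] : Function.Injective (φ.app ⊤) := fun a b h =>
  M1.section_ext _ _ fun x hx => (mono_iff_stalk φ).1 inferInstance x
    ((germ_naturality φ ⊤ x hx a).trans ((congrArg _ h).trans (germ_naturality φ ⊤ x hx b).symm))

theorem stalk_germ {M N : X.Modules} (φ : M ⟶ N) {U : X.Opens} {x : X} (hx : x ∈ U) (s : Γ(M, U)) :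
    stalkLin φ x (M.presheaf.germ U x hx s) = N.presheaf.germ U x hx (φ.app U s) := germ_naturality φ U x hx s

theorem hom_zero_app {M N : X.Modules} (U : X.Opens) (a : Γ(M, U)) : (0 : M ⟶ N).app U a = 0 := rfl

variable [IsProper (X ↘ Spec (CommRingCat.of k))] [AlgebraicGeometry.IsReduced X] [IsLocallyNoetherian X]

theorem ideal_comp_eq_zero {ω : X.Modules} (hω : PicF.IsInvertible ω) {T T' : Set X} (hT : IsClosed T)
    (hT' : IsClosed T') (h : IsComplSub T T') {M : X.Modules}
    (f : ClSub.idealMod (vI T hT) ⟶ CohB1.tensorMod (ClSub.idealMod (vI T' hT')) ω) (g : _ ⟶ M)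
    (hMc : Coh.IsCoh M) (hMt : TorSh.IsTorsionFree M) : f ≫ g = 0 := by
  refine TFOne27.hom_eq_zero hMc hMt _ fun η hη a => ?_
  rw [stalkLin_comp]
  by_cases hηT : η ∈ T
  · haveI := mono_idealModι (vI T hT)
    have ha : a = 0 := (mono_iff_stalk (ClSub.idealModι (vI T hT))).1 inferInstance η
      ((stalk_idealModι_eq_zero_of_mem hT hη hηT a).trans (map_zero _).symm)
    rw [ha, map_zero, map_zero]
  · haveI := mono_idealModι (vI T' hT')
    have hs : ∀ b : (ClSub.idealMod (vI T' hT')).presheaf.stalk η, b = 0 := fun b =>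
      (mono_iff_stalk (ClSub.idealModι (vI T' hT'))).1 inferInstance η
        ((stalk_idealModι_eq_zero_of_mem hT' hη ((h.2.2 η hη).2 hηT) b).trans (map_zero _).symm)
    obtain ⟨e⟩ := nonempty_twEquiv (ClSub.idealMod (vI T' hT')) hω η
    rw [e.injective ((hs (e (stalkLin f η a))).trans (map_zero e).symm), map_zero]

theorem h0_inc_le {ω : X.Modules} (hω : PicF.IsInvertible ω) {t : Coh.HH X ω 1 →ₗ[k] k}
    (ht : IsTrace k ω t) (hd : topologicalKrullDim X ≤ 1) {T T' : Set X} (hT : IsClosed T)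
    (hT' : IsClosed T') (h : IsComplSub T T') :
    Module.finrank k (Coh.HH X (CohB1.tensorMod (ClSub.idealMod (vI T' hT')) ω) 0) ≤
      Module.finrank k (Coh.HH X (TFOne27.OT T hT) 1) := by
  have hX := CurveAmple18.curveLike k X hd
  haveI := hX.noetherian
  have h1 := (M2.isInvertible_iff_isFinLocFreeOfRank_one ω).1 hω
  have hωc := CurveCoh17.isCoh_of_ofRank h1
  have hωt : TorSh.IsTorsionFree ω := fun x => by
    obtain ⟨e⟩ := CurveCoh17.nonempty_stalk_equiv h1 x
    haveI := (TFOne27.isTF1_structureModule (X := X)).2.1 x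
    obtain ⟨e'⟩ := CurveCoh17.nonempty_stalk_equiv_structureModule x
    exact Function.Injective.moduleIsTorsionFree
      (e ≪≫ₗ e'.symm) (LinearEquiv.injective _) (map_smul _)
  haveI := mono_inc (vI T' hT') hω
  haveI := hX.fin _ (CurveCoh17.isCoh_structureModule (X := X)) 1
  let a := inc (vI T' hT') ω
  let W : Submodule k (Coh.HH X (Coh.structureModule X) 1) :=
    LinearMap.range (hmap k (ClSub.idealModι (vI T hT)) 1)
  let Φ : Coh.HH X (CohB1.tensorMod (ClSub.idealMod (vI T' hT')) ω) 0 →ₗ[k]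
      Module.Dual k (Coh.HH X (Coh.structureModule X) 1) :=
    ((LinearMap.compRight k t).comp (cupH1 k ω)).comp (hmap k a 0)
  have hΦ : ∀ z, Φ z ∈ W.dualAnnihilator := fun z => (Submodule.mem_dualAnnihilator _).2 fun w hw => by
    obtain ⟨y, rfl⟩ := hw
    show t (hmap k (secHom (hh0 ω (hmap k a 0 z))) 1 (hmap k (ClSub.idealModι (vI T hT)) 1 y)) = 0
    rw [← hmap_comp, hh0_hmap, secHom_comp_app, ← Category.assoc,
      ideal_comp_eq_zero hω hT hT' h _ a hωc hωt]
    exact (congrArg t (CurveCoh17.hmap_zero k 1 y)).trans (map_zero t)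
  have hinj : Function.Injective (Φ.codRestrict W.dualAnnihilator hΦ) := (injective_iff_map_eq_zero _).2 fun z hz => by
    have hz' : Φ z = 0 := congrArg Subtype.val hz
    have h0 : secHom (hh0 ω (hmap k a 0 z)) = 0 := ht.ext CurveCoh17.isCoh_structureModule fun x =>
      (LinearMap.congr_fun hz' x).trans ((congrArg t (CurveCoh17.hmap_zero k 1 x)).trans (map_zero t)).symm
    refine hmap_zero_injective (k := k) a ((hh0 ω).injective ?_)
    rw [map_zero, map_zero, ← secHom_app_one (hh0 ω (hmap k a 0 z)), h0]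
    rfl
  refine (LinearMap.finrank_le_finrank_of_injective hinj).trans ?_
  have hS := M2.shortExact_idealMod (vI T hT)
  have e : Module.finrank k W + Module.finrank k (Coh.HH X (TFOne27.OT T hT) 1) =
      Module.finrank k (Coh.HH X (Coh.structureModule X) 1) := by
    haveI := (hX.adm (isCoh_idealMod (vI T hT))).vanish 0
    have ex := exact_hmap_hmap k hS 1
    have hsurj : LinearMap.range (hmap k (ClSub.toSubscheme (vI T hT)) 1) = ⊤ :=
      LinearMap.range_eq_top.2 fun x => (exact_hmap_hdelta k hS 1 x).1 (Subsingleton.elim _ _)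
    have hr := LinearMap.finrank_range_add_finrank_ker (hmap k (ClSub.toSubscheme (vI T hT)) 1)
    rw [ex.linearMap_ker_eq, hsurj, finrank_top] at hr
    exact (add_comm _ _).trans hr
  have e2 := Subspace.finrank_add_finrank_dualAnnihilator_eq W
  omega

theorem h0_OT_le {ω : X.Modules} (hω : PicF.IsInvertible ω) {t : Coh.HH X ω 1 →ₗ[k] k}
    (ht : IsTrace k ω t) (hd : topologicalKrullDim X ≤ 1) {T T' : Set X} (hT : IsClosed T)
    (hT' : IsClosed T') (h : IsComplSub T T') :
    Module.finrank k (Coh.HH X (TFOne27.OT T hT) 0) ≤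
      Module.finrank k (Coh.HH X (CohB1.tensorMod (ClSub.idealMod (vI T' hT')) ω) 1) := by
  have hX := CurveAmple18.curveLike k X hd
  haveI := hX.noetherian
  have h1 := (M2.isInvertible_iff_isFinLocFreeOfRank_one ω).1 hω
  have hωc := CurveCoh17.isCoh_of_ofRank h1
  have hωt : TorSh.IsTorsionFree ω := fun x => by
    obtain ⟨e⟩ := CurveCoh17.nonempty_stalk_equiv h1 x
    haveI := (TFOne27.isTF1_structureModule (X := X)).2.1 x
    obtain ⟨e'⟩ := CurveCoh17.nonempty_stalk_equiv_structureModule x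
    exact Function.Injective.moduleIsTorsionFree
      (e ≪≫ₗ e'.symm) (LinearEquiv.injective _) (map_smul _)
  let B := CohB1.tensorMod (ClSub.idealMod (vI T' hT')) ω
  have hB : Coh.IsCoh B := CurveCoh17.isCoh_tensor (isCoh_idealMod _) hωc
  let a : B ⟶ ω := inc (vI T' hT') ω
  let q : Coh.structureModule X ⟶ TFOne27.OT T hT := ClSub.toSubscheme (vI T hT)
  have hS := M2.shortExact_idealMod (vI T hT)
  haveI : Epi q := M2.epi_toSubscheme _
  haveI := hS.epi_g
  have hkill : M2.tensorMap (ClSub.idealModι (vI T hT)) (𝟙 B) ≫ ((M2.tensorLUnit B).hom ≫ a) = 0 := by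
    rw [← Category.assoc]
    refine TFOne27.hom_eq_zero hωc hωt _ fun η hη c => ?_
    rw [stalkLin_comp]
    have hz : ∀ c', c' = (0 : (CohB1.tensorMod (ClSub.idealMod (vI T hT)) B).presheaf.stalk η) ∨
        ∀ b : B.presheaf.stalk η, b = 0 := fun c' => by
      by_cases hηT : η ∈ T
      · left
        haveI := mono_idealModι (vI T hT)
        haveI : Subsingleton ((ClSub.idealMod (vI T hT)).presheaf.stalk η) :=
          subsingleton_of_forall_eq 0 fun b => (mono_iff_stalk (ClSub.idealModι (vI T hT))).1 inferInstance η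
            ((stalk_idealModι_eq_zero_of_mem hT hη hηT b).trans (map_zero _).symm)
        exact (M2.stalkEquiv (ClSub.idealMod (vI T hT)) B η).injective (Subsingleton.elim _ _)
      · right
        intro b
        haveI := mono_idealModι (vI T' hT')
        obtain ⟨e⟩ := nonempty_twEquiv (ClSub.idealMod (vI T' hT')) hω η
        exact e.injective (((mono_iff_stalk (ClSub.idealModι (vI T' hT'))).1 inferInstance η
          ((stalk_idealModι_eq_zero_of_mem hT' hη ((h.2.2 η hη).2 hηT) _).trans (map_zero _).symm)).trans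
          (map_zero e).symm)
    rcases hz c with hc | hb
    · rw [hc, map_zero, map_zero]
    · rw [hb (stalkLin (M2.tensorMap (ClSub.idealModι (vI T hT)) (𝟙 B) ≫ (M2.tensorLUnit B).hom) η c), map_zero]
  have hex := hS.exact.map_of_epi_of_preservesCokernel (CohMop.tenR B) inferInstance inferInstance
  haveI : Epi (((ShortComplex.mk (ClSub.idealModι (vI T hT)) q (kernel.condition _)).map (CohMop.tenR B)).g) :=
    inferInstanceAs (Epi ((CohMop.tenR B).map q))
  let e : CohB1.tensorMod (TFOne27.OT T hT) B ⟶ ω := hex.desc ((M2.tensorLUnit B).hom ≫ a) hkill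
  have he : M2.tensorMap q (𝟙 B) ≫ e = (M2.tensorLUnit B).hom ≫ a := hex.g_desc _ _
  have hs : ∀ s : Γ(TFOne27.OT T hT, (⊤ : X.Opens)), M2.tensorMap (secHom s) (𝟙 B) ≫ e = 0 → s = 0 := by
    intro s hs
    have h0 : secHom s = 0 := by
      refine TFOne27.hom_eq_zero (TFOne27.isCoh_OT (X := X) T hT)
        (TFOne27.isTorsionFree_push T hT h.1 TFOne27.isTF1_structureModule.1 TFOne27.isTF1_structureModule.2.1)
        _ fun η hη c => ?_
      by_cases hηT : η ∈ T
      swap
      · haveI : Subsingleton ((TFOne27.OT T hT).presheaf.stalk η) :=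
          TFOne27.subsingleton_of_not_mem_support (F := TFOne27.OT T hT) (x := η)
            ((TFOne27.support_OT (X := X) T hT).symm ▸ hηT)
        exact Subsingleton.elim _ _
      -- a local lift of the value and a local frame
      obtain ⟨c', hc'⟩ := TFOne27.surjective_stalkLin q η (stalkLin (secHom s) η c)
      obtain ⟨f⟩ := CurveCoh17.nonempty_stalk_equiv h1 η
      let f1 := f ≪≫ₗ LinearEquiv.funUnique (Fin 1) (X.presheaf.stalk η) (X.presheaf.stalk η)
      obtain ⟨j', hj'⟩ := surjective_stalk_idealModι_of_not_mem hT' (fun hh => (h.2.2 η hη).1 hh hηT)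
        ((Coh.structureModule X).presheaf.germ ⊤ η trivial (one ⊤))
      obtain ⟨W₁, hW₁, j₀, rfl⟩ := TopCat.Presheaf.exists_germ_eq (ClSub.idealMod (vI T' hT')).presheaf j'
      obtain ⟨W₂, hW₂, w₀, hw₀⟩ := TopCat.Presheaf.exists_germ_eq ω.presheaf (f1.symm 1)
      let U₀ : X.Opens := W₁ ⊓ W₂
      have hU₀ : η ∈ U₀ := ⟨hW₁, hW₂⟩
      let jU := (ClSub.idealMod (vI T' hT')).presheaf.map (homOfLE (inf_le_left : U₀ ≤ W₁)).op j₀
      let wU := ω.presheaf.map (homOfLE (inf_le_right : U₀ ≤ W₂)).op w₀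
      let b₀ : Γ(B, U₀) := M2.tsec (ClSub.idealMod (vI T' hT')) ω jU wU
      have hb : stalkLin a η (B.presheaf.germ U₀ η hU₀ b₀) =
          (ω.presheaf.germ U₀ η hU₀ ((show Γ(X, U₀) from (ClSub.idealModι (vI T' hT')).app U₀ jU) • (show Γ(ω, U₀) from wU))) := by
        rw [stalk_germ]
        refine congrArg _ ?_
        simp only [a, b₀, Scheme.Modules.Hom.comp_app, ConcreteCategory.comp_apply]
        erw [M2.tensorMap_tsec, DMon9.tensorLUnit_tsec]
        rfl
      obtain ⟨U₁, hU₁, c₀, rfl⟩ := TopCat.Presheaf.exists_germ_eq (Coh.structureModule X).presheaf c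
      obtain ⟨U₂, hU₂, r₀, rfl⟩ := TopCat.Presheaf.exists_germ_eq (Coh.structureModule X).presheaf c'
      rw [stalk_germ, stalk_germ] at hc'
      obtain ⟨U₃, hU₃, i₂, i₁, hres⟩ := TopCat.Presheaf.germ_eq (TFOne27.OT T hT).presheaf η hU₂ hU₁ _ _ hc'
      let V := U₃ ⊓ U₀
      have hV : η ∈ V := ⟨hU₃, hU₀⟩
      have j₁ : V ≤ U₁ := inf_le_left.trans i₁.le
      have j₂ : V ≤ U₂ := inf_le_left.trans i₂.le
      let cV : Γ(Coh.structureModule X, V) := (Coh.structureModule X).presheaf.map (homOfLE j₁).op c₀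
      let rV : Γ(Coh.structureModule X, V) := (Coh.structureModule X).presheaf.map (homOfLE j₂).op r₀
      let bV : Γ(B, V) := B.presheaf.map (homOfLE (inf_le_right : V ≤ U₀)).op b₀
      have hres' : q.app V rV = (secHom s).app V cV := by
        refine (app_mres q j₂ r₀).trans (Eq.trans ?_ (app_mres (secHom s) j₁ c₀).symm)
        have := congrArg ((TFOne27.OT T hT).presheaf.map (homOfLE (inf_le_left : V ≤ U₃)).op) hres
        exact ((mres_mres _ _ _ _).symm.trans this).trans (mres_mres _ _ _ _)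
      have k1 := congrArg (fun φ => φ.app V (M2.tsec _ B cV bV)) hs
      simp only [Scheme.Modules.Hom.comp_app, ConcreteCategory.comp_apply, M2.tensorMap_tsec, hom_zero_app] at k1
      rw [← hres', show (𝟙 B : B ⟶ B).app V bV = bV from rfl] at k1
      have k2 := congrArg (fun φ => φ.app V (M2.tsec _ B rV bV)) he
      simp only [Scheme.Modules.Hom.comp_app, ConcreteCategory.comp_apply, M2.tensorMap_tsec] at k2
      rw [show (𝟙 B : B ⟶ B).app V bV = bV from rfl, k1, DMon9.tensorLUnit_tsec] at k2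
      have hb1 : stalkLin a η (B.presheaf.germ V η hV bV) = f1.symm 1 := by
        rw [show B.presheaf.germ V η hV bV = B.presheaf.germ U₀ η hU₀ b₀ from
          TopCat.Presheaf.germ_res_apply _ _ _ _ _, hb, germ_smul]
        have e1 : ω.presheaf.germ U₀ η hU₀ wU = f1.symm 1 :=
          (TopCat.Presheaf.germ_res_apply _ _ _ _ _).trans hw₀
        have e2 : (Coh.structureModule X).presheaf.germ U₀ η hU₀ ((ClSub.idealModι (vI T' hT')).app U₀ jU) =
            (Coh.structureModule X).presheaf.germ ⊤ η trivial (one ⊤) := by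
          rw [← stalk_germ, show (ClSub.idealMod (vI T' hT')).presheaf.germ U₀ η hU₀ jU = _ from
            TopCat.Presheaf.germ_res_apply _ _ _ _ _, hj']
        have e3 : X.presheaf.germ U₀ η hU₀ (show Γ(X, U₀) from (ClSub.idealModι (vI T' hT')).app U₀ jU) = 1 := by
          obtain ⟨W', hW', i, i', hh⟩ := TopCat.Presheaf.germ_eq (Coh.structureModule X).presheaf η hU₀ _ _ _ e2
          have hh' : X.presheaf.map i.op (show Γ(X, U₀) from (ClSub.idealModι (vI T' hT')).app U₀ jU) =
              X.presheaf.map i'.op (1 : Γ(X, (⊤ : X.Opens))) := hh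
          have := congrArg (X.presheaf.germ W' η hW') hh'
          rwa [TopCat.Presheaf.germ_res_apply, TopCat.Presheaf.germ_res_apply, map_one] at this
        rw [e3, one_smul]
        exact e1
      have k3 := congrArg (ω.presheaf.germ V η hV) k2.symm
      rw [map_zero, ← stalk_germ, germ_smul, map_smul, hb1] at k3
      have k4 := congrArg f1 k3
      rw [map_smul, map_zero, LinearEquiv.apply_symm_apply, smul_eq_mul, mul_one] at k4
      have hr0 : (Coh.structureModule X).presheaf.germ U₂ η hU₂ r₀ = 0 := by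
        rw [← TopCat.Presheaf.germ_res_apply (Coh.structureModule X).presheaf (homOfLE j₂) η hV r₀]
        rw [show (Coh.structureModule X).presheaf.map (homOfLE j₂).op r₀ =
          (show Γ(X, V) from rV) • (one V : Γ(Coh.structureModule X, V)) from (mul_one (show Γ(X, V) from rV)).symm,
          germ_smul, k4, zero_smul]
      rw [stalk_germ, ← hc', ← stalk_germ, hr0, map_zero]
    rw [← secHom_app_one s, h0]
    rfl
  obtain ⟨hinv⟩ : Nonempty (Module.Finite k (Coh.HH X B 1)) := ⟨hX.fin B hB 1⟩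
  let Θ : Coh.HH X (TFOne27.OT T hT) 0 →ₗ[k] Module.Dual k (Coh.HH X B 1) :=
    LinearMap.mk₂ k (fun z x => t (hmap k e 1 (mulPair k (TFOne27.OT T hT) B 1 z (hmap k (M2.tensorLUnit B).inv 1 x))))
      (fun z w x => by rw [map_add, LinearMap.add_apply, map_add, map_add])
      (fun c z x => by rw [map_smul, LinearMap.smul_apply, map_smul, map_smul])
      (fun z x y => by rw [map_add, map_add, map_add, map_add])
      (fun c z x => by rw [map_smul, map_smul, map_smul, map_smul])
  refine (LinearMap.finrank_le_finrank_of_injective (f := Θ) ((injective_iff_map_eq_zero Θ).2 fun z hz => ?_)).trans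
    Subspace.dual_finrank_eq.le
  have h1 : (M2.tensorLUnit B).inv ≫ M2.tensorMap (secHom (hh0 _ z)) (𝟙 B) ≫ e = 0 := ht.ext hB fun x => by
    refine Eq.trans ?_ ((congrArg t (CurveCoh17.hmap_zero k 1 x)).trans (map_zero t)).symm
    refine Eq.trans (congrArg t ?_) (LinearMap.congr_fun hz x)
    rw [hmap_comp, hmap_comp]
    rfl
  have h2 : M2.tensorMap (secHom (hh0 _ z)) (𝟙 B) ≫ e = 0 := by
    rw [← cancel_epi (M2.tensorLUnit B).inv, h1, comp_zero]
  exact (hh0 (TFOne27.OT T hT)).injective ((hs _ h2).trans (map_zero _).symm)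

theorem euler_trace {ω : X.Modules} (hω : PicF.IsInvertible ω) {t : Coh.HH X ω 1 →ₗ[k] k}
    (ht : IsTrace k ω t) (hd : topologicalKrullDim X ≤ 1) :
    Curv2.euler k X ω = - Curv2.euler k X (Coh.structureModule X) := by
  have hX := CurveAmple18.curveLike k X hd
  haveI := hX.noetherian
  have h1 := (M2.isInvertible_iff_isFinLocFreeOfRank_one ω).1 hω
  have hωc := CurveCoh17.isCoh_of_ofRank h1
  have hOc := CurveCoh17.isCoh_structureModule (X := X)
  have a₀ := hX.adm hωc
  have a₁ := hX.adm hOc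
  haveI := hX.fin _ hωc 0; haveI := hX.fin _ hωc 1; haveI := hX.fin _ hOc 0; haveI := hX.fin _ hOc 1
  let A : Coh.HH X ω 0 →ₗ[k] Module.Dual k (Coh.HH X (Coh.structureModule X) 1) :=
    (LinearMap.compRight k t).comp (cupH1 k ω)
  have hA : Function.Bijective A := by
    refine ⟨fun z w hzw => (hh0 ω).injective ?_, fun ψ => ?_⟩
    · have h0 : secHom (hh0 ω z) = secHom (hh0 ω w) := ht.ext hOc fun x => LinearMap.congr_fun hzw x
      rw [← secHom_app_one (hh0 ω z), h0, secHom_app_one]
    · obtain ⟨φ, hφ, -⟩ := ht _ hOc ψ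
      refine ⟨(hh0 ω).symm (φ.app ⊤ (one ⊤)), LinearMap.ext fun x => ?_⟩
      show t (hmap k (secHom (hh0 ω _)) 1 x) = ψ x
      rw [AddEquiv.apply_symm_apply, eq_secHom, hφ x]
  have e0 : Module.finrank k (Coh.HH X ω 0) = Module.finrank k (Coh.HH X (Coh.structureModule X) 1) :=
    (LinearEquiv.ofBijective A hA).finrank_eq.trans Subspace.dual_finrank_eq
  let e := (M2.tensorLUnit ω).hom
  let B : Coh.HH X (Coh.structureModule X) 0 →ₗ[k] Module.Dual k (Coh.HH X ω 1) :=
    LinearMap.mk₂ k (fun z x => t (hmap k e 1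
        (mulPair k (Coh.structureModule X) ω 1 z (hmap k (M2.tensorLUnit ω).inv 1 x))))
      (fun z w x => by rw [map_add, LinearMap.add_apply, map_add, map_add])
      (fun c z x => by rw [map_smul, LinearMap.smul_apply, map_smul, map_smul])
      (fun z x y => by rw [map_add, map_add, map_add, map_add])
      (fun c z x => by rw [map_smul, map_smul, map_smul, map_smul])
  have hB' : ∀ z x, B z x = t (hmap k ((M2.tensorLUnit ω).inv ≫ M2.tensorMap (secHom (hh0 _ z)) (𝟙 ω) ≫ e) 1 x) :=
    fun z x => by rw [hmap_comp, hmap_comp]; rfl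
  have hB : Function.Bijective B := by
    refine ⟨fun z w hzw => (hh0 _).injective ?_, fun ψ => ?_⟩
    · have h0 : (M2.tensorLUnit ω).inv ≫ M2.tensorMap (secHom (hh0 _ z)) (𝟙 ω) ≫ e =
          (M2.tensorLUnit ω).inv ≫ M2.tensorMap (secHom (hh0 _ w)) (𝟙 ω) ≫ e := ht.ext hωc fun x => by
        rw [← hB', ← hB', hzw]
      have h2 := (cancel_mono e).1 ((cancel_epi _).1 h0)
      haveI := VB17.isEquivalence_tensorR hω
      have h3 : secHom (hh0 _ z) = secHom (hh0 _ w) := (M2.tensorR ω).map_injective h2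
      rw [← secHom_app_one (hh0 _ z), h3, secHom_app_one]
    · obtain ⟨φ, hφ, -⟩ := ht _ hωc ψ
      haveI := VB17.isEquivalence_tensorR hω
      obtain ⟨f, hf⟩ := (M2.tensorR ω).map_surjective
        (X := Coh.structureModule X) (Y := Coh.structureModule X) (e ≫ φ ≫ (M2.tensorLUnit ω).inv)
      refine ⟨(hh0 _).symm (f.app ⊤ (one ⊤)), LinearMap.ext fun x => ?_⟩
      rw [hB', AddEquiv.apply_symm_apply, eq_secHom, show M2.tensorMap f (𝟙 ω) = _ from hf, hφ x]
      simp only [e, Category.assoc, Iso.inv_hom_id, Category.comp_id, Iso.inv_hom_id_assoc]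
  have e1 : Module.finrank k (Coh.HH X (Coh.structureModule X) 0) = Module.finrank k (Coh.HH X ω 1) :=
    (LinearEquiv.ofBijective B hB).finrank_eq.trans Subspace.dual_finrank_eq
  rw [a₀.euler_eq, a₁.euler_eq, e0, e1]
  omega

/-- Adjunction for a subcurve. -/
theorem adjunction {ω : X.Modules} (hω : PicF.IsInvertible ω) {t : Coh.HH X ω 1 →ₗ[k] k}
    (ht : IsTrace k ω t) (hd : topologicalKrullDim X ≤ 1) {T T' : Set X} (hT : IsClosed T)
    (hT' : IsClosed T') (h : IsComplSub T T') :
    TFOne27.delta k ω 1 (TFOne27.OT T hT) =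
      -2 * Curv2.euler k X (TFOne27.OT T hT) + meet k T T' hT hT' := by
  have hX := CurveAmple18.curveLike k X hd
  haveI := hX.noetherian
  have hωc := CurveCoh17.isCoh_of_ofRank ((M2.isInvertible_iff_isFinLocFreeOfRank_one ω).1 hω)
  have key : ∀ (A A' : Set X) (hA : IsClosed A) (hA' : IsClosed A'), IsComplSub A A' →
      TFOne27.delta k ω 1 (TFOne27.OT A hA) ≤ -2 * Curv2.euler k X (TFOne27.OT A hA) + meet k A A' hA hA' := by
    intro A A' hA hA' hAA
    obtain ⟨c1, -, c3⟩ := euler_compl (k := k) hd hA hA' hAA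
    have c := (c3 ω hω).1
    have p1 := h0_inc_le hω ht hd hA hA' hAA
    have p2 := h0_OT_le hω ht hd hA hA' hAA
    rw [(hX.adm (CurveCoh17.isCoh_tensor (isCoh_idealMod (vI A' hA')) hωc)).euler_eq] at c
    have hTe := (hX.adm (TFOne27.isCoh_OT (X := X) A hA)).euler_eq (k := k)
    omega
  obtain ⟨c1, c2, c3⟩ := euler_compl (k := k) hd hT hT' h
  have c := (c3 ω hω).2
  have eω := euler_trace hω ht hd
  have k1 := key T T' hT hT' h
  have k2 := key T' T hT' hT h.symm
  rw [meet_comm] at k2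
  simp only [Curv2.deg, Nat.cast_one, one_mul] at c
  omega

end Groth.Agent.CurveH1Min27
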