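import Groth.Agent.Lib.CurveH1Min27.Points

/-!
# Pointed semistable reduced Gorenstein curves
-/

set_option autoImplicit false
set_option linter.style.haveILetI false
set_option linter.unusedSectionVars false
set_option backward.isDefEq.respectTransparency false

universe u

open CategoryTheory CategoryTheory.Limits AlgebraicGeometry TopologicalSpace Opposite

namespace Groth.Agent.CurveH1Min27

open Groth.Agent.M1 Groth.Agent.CurveCoh17
open TFOne27 (GenClosed)

variable {X : Scheme.{u}} {k : Type u} [Field k] [IsAlgClosed k] [X.Over (Spec (CommRingCat.of k))]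
  [IsProper (X ↘ Spec (CommRingCat.of k))] [AlgebraicGeometry.IsReduced X] [ConnectedSpace X]
  {ω : X.Modules} (hω : PicF.IsInvertible ω) {t : Coh.HH X ω 1 →ₗ[k] k} (ht : IsTrace k ω t)
  (hd : topologicalKrullDim X = 1) {n : ℕ} (p : Fin n → X) (hpinj : Function.Injective p)
  (hpcl : ∀ i, IsClosed ({p i} : Set X)) {N : X.Modules}
  (hN : ClSub.IsInverseOf N (ClSub.idealMod
    (Scheme.IdealSheafData.vanishingIdeal ⟨⋃ i, ({p i} : Set X), isClosed_iUnion_of_finite hpcl⟩)))

include hω ht hd hpinj hN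

/-- The degree of `ω(P)` on a connected subcurve. -/
theorem deg_pointed_ge (T : Set X) (hT : IsClosed T) (hc : ConnectedSpace (vI T hT).subscheme)
    (h1 : topologicalKrullDim (vI T hT).subscheme = 1) :
    PicF.IsInvertible N ∧ ∃ m : ℕ,
      2 * (genusOn k (vI T hT) : ℤ) - 2 + m + (p ⁻¹' T).ncard ≤
        TFOne27.delta k (CohB1.tensorMod ω N) 1 (TFOne27.OT T hT) ∧
      (T ∩ closure Tᶜ).ncard ≤ m ∧
      (m = 0 → 2 * (Curv2.genus k X : ℤ) - 2 + n ≤
        TFOne27.delta k (CohB1.tensorMod ω N) 1 (TFOne27.OT T hT) ∧ genusOn k (vI T hT) = Curv2.genus k X) := by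
  haveI := CohFound.isNoetherian_of_isProper (X ↘ Spec (CommRingCat.of k))
  let P : Set X := ⋃ i, ({p i} : Set X)
  let Z : X.IdealSheafData := Scheme.IdealSheafData.vanishingIdeal ⟨P, isClosed_iUnion_of_finite hpcl⟩
  have hZs : (Z.support : Set X) = P := Scheme.IdealSheafData.coe_support_vanishingIdeal _
  have hgenZ : ∀ g ∈ genericPoints (X : Type u), g ∉ (Z.support : Set X) := fun g hg hgZ => by
    rw [hZs] at hgZ
    obtain ⟨i, hi⟩ := Set.mem_iUnion.mp hgZ
    exact not_closed_of_generic (k := k) hd hg (by rw [Set.mem_singleton_iff.mp hi]; exact hpcl i)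
  have hg := genClosed_of_dim_one hd.le hT hc h1
  obtain ⟨hNi, hle⟩ := ncard_le_delta_inverse (k := k) hd.le Z hgenZ hN hT hg
  have hr : AlgebraicGeometry.IsReduced (vI T hT).subscheme :=
    inferInstanceAs (AlgebraicGeometry.IsReduced (VecSt.subsch X T hT))
  obtain ⟨a, b⟩ := gor_data hω ht hd.le (vI T hT) hr hc h1
  have hsupp : ((vI T hT).support : Set X) = T := Scheme.IdealSheafData.coe_support_vanishingIdeal _
  have hsum := delta_tensor (k := k) hω hNi hd.le hT
  have hdω := delta_eq_degOn (k := k) hω hT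
  have hPimg : T ∩ P = p '' (p ⁻¹' T) := by
    ext x
    simp only [P, Set.mem_inter_iff, Set.mem_iUnion, Set.mem_singleton_iff, Set.mem_image, Set.mem_preimage]
    constructor
    · rintro ⟨hx, i, rfl⟩; exact ⟨i, hx, rfl⟩
    · rintro ⟨i, hi, rfl⟩; exact ⟨hi, i, rfl⟩
  rw [hZs, hPimg, Set.ncard_image_of_injective _ hpinj] at hle
  refine ⟨hNi, meetJ k (vI T hT), by linarith, ?_, fun h0 => ?_⟩
  · refine ncard_le_quot (k := k) hd.le _ (hT.inter isClosed_closure) (fun x hx => ?_) fun g hg' hmem => ?_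
    · rw [Scheme.IdealSheafData.support_sup]
      refine ⟨hsupp.ge hx.1, (Scheme.IdealSheafData.coe_support_vanishingIdeal _).ge ?_⟩
      show x ∈ closure (((vI T hT).support : Set X))ᶜ
      rw [hsupp]; exact hx.2
    · rw [Scheme.IdealSheafData.support_sup] at hmem
      have h2 : g ∈ closure (((vI T hT).support : Set X))ᶜ :=
        (Scheme.IdealSheafData.coe_support_vanishingIdeal _).le hmem.2
      rw [hsupp] at h2
      exact ((isComplSub_closure hT hg).2.2 g hg').1 h2 (hsupp.le hmem.1)
  · have eω : degOn k (vI T hT) ω = 2 * (Curv2.genus k X : ℤ) - 2 := (b h0 ω hω).trans (gor_total hω ht hd.le)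
    have eN : degOn k (vI T hT) N = Curv2.deg k X N 1 := b h0 N hNi
    have hgU : GenClosed (Set.univ : Set X) := fun x _ => by
      obtain ⟨η, hη, hgen⟩ := TFOne27.exists_generic_of_component (irreducibleComponent_mem_irreducibleComponents x)
      exact ⟨η, hη, trivial, hgen.specializes mem_irreducibleComponent⟩
    have hu := (ncard_le_delta_inverse (k := k) hd.le Z hgenZ hN isClosed_univ hgU).2
    rw [TFOne27.delta_univ, hZs, show Set.univ ∩ P = p '' Set.univ from by
      rw [Set.univ_inter, Set.image_univ]; exact Set.iUnion_singleton_eq_range p,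
      Set.ncard_image_of_injective _ hpinj, Set.ncard_univ, Nat.card_fin] at hu
    have hdN := delta_eq_degOn (k := k) hNi hT
    refine ⟨by linarith, ?_⟩
    have : (genusOn k (vI T hT) : ℤ) = Curv2.genus k X := by rw [h0] at a; omega
    exact_mod_cast this

omit ht hpinj hN in
theorem deg_pointed_nonneg (hgn : 0 < 2 * (Curv2.genus k X : ℤ) - 2 + n)
    (ht : IsTrace k ω t) (hpinj : Function.Injective p)
    (hN : ClSub.IsInverseOf N (ClSub.idealMod
      (Scheme.IdealSheafData.vanishingIdeal ⟨⋃ i, ({p i} : Set X), isClosed_iUnion_of_finite hpcl⟩)))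
    (hss : ∀ (E : Set X) (hE : E ∈ irreducibleComponents (X : Type u)),
      Subsingleton (Coh.HH (Scheme.IdealSheafData.vanishingIdeal ⟨E, isClosed_of_mem_irreducibleComponents E hE⟩).subscheme
        (Coh.structureModule (Scheme.IdealSheafData.vanishingIdeal ⟨E, isClosed_of_mem_irreducibleComponents E hE⟩).subscheme) 1) →
        2 ≤ (E ∩ closure Eᶜ).ncard + (p ⁻¹' E).ncard)
    (hNi : PicF.IsInvertible N) (T : Set X) (hT : IsClosed T) :
    0 ≤ TFOne27.delta k (CohB1.tensorMod ω N) 1 (TFOne27.OT T hT) := by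
  haveI := CohFound.isNoetherian_of_isProper (X ↘ Spec (CommRingCat.of k))
  refine delta_nonneg_of_comp hd.le (M2.isInvertible_tensor hω hNi) (fun C hC hC1 => ?_) T hT
  obtain ⟨E, hE, rfl⟩ : ∃ (E : Set X) (hE : IsClosed E), C = vI E hE := ⟨_, _, eq_vI C⟩
  have hsupp : ((vI E hE).support : Set X) = E := Scheme.IdealSheafData.coe_support_vanishingIdeal _
  have h1 : topologicalKrullDim (vI E hE).subscheme = 1 :=
    (AmpleFin18.dim_subscheme _ hsupp).trans (by rw [← hsupp]; exact hC1)
  have hc : ConnectedSpace (vI E hE).subscheme := inferInstance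
  have hirr : IsIrreducible E := by
    have := (IrreducibleSpace.isIrreducible_univ (vI E hE).subscheme).image (vI E hE).subschemeι
      (vI E hE).subschemeι.continuous.continuousOn
    rwa [Set.image_univ, show Set.range (vI E hE).subschemeι = E from TFOne27.range_sub E hE] at this
  have hEc : E ∈ irreducibleComponents (X : Type u) := by
    obtain ⟨x, hx⟩ := hirr.nonempty
    obtain ⟨η, hη, hηE, -⟩ := genClosed_of_dim_one hd.le hE hc h1 x hx
    obtain ⟨Cc, hCc, hgen⟩ : ∃ Cc ∈ irreducibleComponents (X : Type u), IsGenericPoint η Cc :=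
      ⟨closure {η}, hη, isGenericPoint_closure⟩
    have hsub : Cc ⊆ E := hgen.def ▸ closure_minimal (Set.singleton_subset_iff.mpr hηE) hE
    rwa [show E = Cc from (hCc.eq_of_le hirr hsub).symm ▸ rfl]
  obtain ⟨-, m, hle, hm, hm0⟩ := deg_pointed_ge hω ht hd p hpinj hpcl hN E hE hc h1
  show 0 ≤ degOn k (vI E hE) (CohB1.tensorMod ω N)
  rw [← delta_eq_degOn (M2.isInvertible_tensor hω hNi) hE]
  rcases Nat.eq_zero_or_pos m with h0 | h0
  · have := (hm0 h0).1; linarith
  rcases Nat.eq_zero_or_pos (genusOn k (vI E hE)) with hg0 | hg0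
  · letI : (vI E hE).subscheme.Over (Spec (CommRingCat.of k)) :=
      ⟨(vI E hE).subschemeι ≫ (X ↘ Spec (CommRingCat.of k))⟩
    haveI : IsProper ((vI E hE).subscheme ↘ Spec (CommRingCat.of k)) :=
      inferInstanceAs (IsProper ((vI E hE).subschemeι ≫ (X ↘ Spec (CommRingCat.of k))))
    haveI := (CurveAmple18.curveLike k (vI E hE).subscheme h1.le).fin _
      (CurveCoh17.isCoh_structureModule (X := (vI E hE).subscheme)) 1
    have h2 := hss E hEc (Module.finrank_zero_iff.mp (show Module.finrank k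
      (Coh.HH (vI E hE).subscheme (Coh.structureModule (vI E hE).subscheme) 1) = 0 from hg0))
    omega
  · omega

theorem pointed_pow (hgn : 0 < 2 * (Curv2.genus k X : ℤ) - 2 + n)
    (hss : ∀ (E : Set X) (hE : E ∈ irreducibleComponents (X : Type u)),
      Subsingleton (Coh.HH (Scheme.IdealSheafData.vanishingIdeal ⟨E, isClosed_of_mem_irreducibleComponents E hE⟩).subscheme
        (Coh.structureModule (Scheme.IdealSheafData.vanishingIdeal ⟨E, isClosed_of_mem_irreducibleComponents E hE⟩).subscheme) 1) →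
        2 ≤ (E ∩ closure Eᶜ).ncard + (p ⁻¹' E).ncard)
    (M : X.Modules) (hM : Nonempty (M ≅ CohB1.tensorMod ω N)) (i : ℕ) (hi : 2 ≤ i) :
    Subsingleton (Coh.HH X (CohB1.tensorPow M i) 1) ∧ Curv2.IsGloballyGenerated (CohB1.tensorPow M i) := by
  haveI := CohFound.isNoetherian_of_isProper (X ↘ Spec (CommRingCat.of k))
  obtain ⟨eM⟩ := hM
  have hNi : PicF.IsInvertible N := by
    obtain ⟨eN⟩ := hN
    exact M2.isInvertible_of_tensor_iso_unit N _ eN
  have hωN := M2.isInvertible_tensor hω hNi
  have hMi : PicF.IsInvertible M := M2.isInvertible_of_iso eM.symm hωN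
  have hi' : (2 : ℤ) ≤ i := by exact_mod_cast hi
  have key : ∀ (T : Set X) (hT : IsClosed T), ConnectedSpace (vI T hT).subscheme →
      topologicalKrullDim (vI T hT).subscheme = 1 →
      2 * (genusOn k (vI T hT) : ℤ) ≤ TFOne27.delta k (CohB1.tensorPow M i) 1 (TFOne27.OT T hT) ∧
      ¬ TFOne27.delta k (CohB1.tensorPow M i) 1 (TFOne27.OT T hT) ≤ 2 * (genusOn k (vI T hT) : ℤ) - 2 := by
    intro T hT hc h1
    obtain ⟨-, m, hle, -, hm0⟩ := deg_pointed_ge hω ht hd p hpinj hpcl hN T hT hc h1
    have h0 := deg_pointed_nonneg hω hd p hpcl hgn ht hpinj hN hss hNi T hT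
    rw [degOn_pow hMi hd.le hT, delta_congr eM hT]
    have hmul := mul_nonneg (by linarith : (0 : ℤ) ≤ (i : ℤ) - 2) h0
    rcases Nat.eq_zero_or_pos m with hm | hm
    · obtain ⟨h2, h3⟩ := hm0 hm
      rw [h3]
      have : 2 * (Curv2.genus k X : ℤ) ≤ 2 * (2 * (Curv2.genus k X : ℤ) - 2 + n) := by omega
      constructor <;> nlinarith
    · rcases h0.lt_or_eq with hp | hz
      · constructor <;> nlinarith
      · rw [← hz] at hle ⊢
        simp only [mul_zero]
        omega
  refine ⟨subsingleton_h1 hω ht hd (M2.isInvertible_tensorPow hMi i) fun T hT hc h1 hle => (key T hT hc h1).2 hle,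
    globallyGenerated_of_degBig (k := k) hd (M2.isInvertible_tensorPow hMi i) fun T hT _ hc h1 => (key T hT hc h1).1⟩

end Groth.Agent.CurveH1Min27
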