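import Groth.Agent.Lib.CurveH1Min27.AnyField
import Groth.Agent.Lib.CurveH1Min27.Pointed

/-!
# Nodal curves without rational tails, over an arbitrary field
-/

set_option autoImplicit false
set_option linter.style.haveILetI false
set_option linter.unusedSectionVars false
set_option backward.isDefEq.respectTransparency false

universe u

open CategoryTheory CategoryTheory.Limits AlgebraicGeometry TopologicalSpace Opposite

namespace Groth.Agent.CurveH1Min27

open Groth.Agent.M1 Groth.Agent.CurveCoh17
open TFOne27 (GenClosed)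

variable {X : Scheme.{u}} {k : Type u} [Field k] [X.Over (Spec (CommRingCat.of k))]
  [IsProper (X ↘ Spec (CommRingCat.of k))] [AlgebraicGeometry.IsReduced X] [ConnectedSpace X]

variable (k) in
include k in
/-- An integral closed curve in a curve is a component. -/
theorem component_of_integral (hd : topologicalKrullDim X = 1) (C : X.IdealSheafData) (hC : IsIntegral C.subscheme)
    (hC1 : topologicalKrullDim (C.support : Set X) = 1) :
    ∃ (E : Set X) (hE : E ∈ irreducibleComponents (X : Type u)),
      C = vI E (isClosed_of_mem_irreducibleComponents E hE) ∧ topologicalKrullDim C.subscheme = 1 := by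
  haveI := CohFound.isNoetherian_of_isProper (X ↘ Spec (CommRingCat.of k))
  obtain ⟨E, hE, rfl⟩ : ∃ (E : Set X) (hE : IsClosed E), C = vI E hE := ⟨_, _, eq_vI C⟩
  have hsupp : ((vI E hE).support : Set X) = E := Scheme.IdealSheafData.coe_support_vanishingIdeal _
  have h1 : topologicalKrullDim (vI E hE).subscheme = 1 :=
    (AmpleFin18.dim_subscheme _ hsupp).trans (by rw [← hsupp]; exact hC1)
  have hc : ConnectedSpace (vI E hE).subscheme := inferInstance
  have hirr : IsIrreducible E := by
    have := (IrreducibleSpace.isIrreducible_univ (vI E hE).subscheme).image (vI E hE).subschemeι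
      (vI E hE).subschemeι.continuous.continuousOn
    rwa [Set.image_univ, show Set.range (vI E hE).subschemeι = E from TFOne27.range_sub E hE] at this
  obtain ⟨x, hx⟩ := hirr.nonempty
  obtain ⟨η, hη, hηE, -⟩ := genClosed_of_dim_one hd.le hE hc h1 x hx
  have hsub : closure {η} ⊆ E := closure_minimal (Set.singleton_subset_iff.mpr hηE) hE
  have hEq : E = closure {η} := (hη.eq_of_le hirr hsub).symm
  exact ⟨E, hEq ▸ hη, rfl, h1⟩

variable {ω : X.Modules} (hω : PicF.IsInvertible ω) {t : Coh.HH X ω 1 →ₗ[k] k} (ht : IsTrace k ω t)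
  (hd : topologicalKrullDim X = 1)
  (hnt : ∀ (C : Set X) (hC : C ∈ irreducibleComponents (X : Type u)), ¬ Curv2.IsRationalTail X C hC)

include hω ht hd hnt

theorem comp_deg (E : Set X) (hE : E ∈ irreducibleComponents (X : Type u)) (hne : E ≠ Set.univ) :
    0 ≤ TFOne27.delta k ω 1 (TFOne27.OT E (isClosed_of_mem_irreducibleComponents E hE)) ∧
      (TFOne27.delta k ω 1 (TFOne27.OT E (isClosed_of_mem_irreducibleComponents E hE)) = 0 →
        Curv2.IsRationalBridge k X E hE) := by
  haveI := CohFound.isNoetherian_of_isProper (X ↘ Spec (CommRingCat.of k))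
  have hEc := isClosed_of_mem_irreducibleComponents E hE
  haveI : IrreducibleSpace (vI E hEc).subscheme := irreducibleSpace_of_range (vI E hEc).subschemeι (by
    rw [show Set.range (vI E hEc).subschemeι = E from TFOne27.range_sub E hEc]; exact hE.1)
  have hc : ConnectedSpace (vI E hEc).subscheme := inferInstance
  have h1 : topologicalKrullDim (vI E hEc).subscheme = 1 := by
    refine (AmpleFin18.dim_subscheme _ (Scheme.IdealSheafData.coe_support_vanishingIdeal _)).trans ?_
    obtain ⟨η, hη, hgen⟩ := TFOne27.exists_generic_of_component hE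
    obtain ⟨z, hz, hzc⟩ := hEc.exists_closed_singleton hE.1.nonempty
    have hzne : z ≠ η := fun e => not_closed_of_generic (k := k) hd hη (e ▸ hzc)
    exact le_antisymm (Topology.IsInducing.subtypeVal.topologicalKrullDim_le.trans hd.le)
      (one_le_dim_of_specializes (a := (⟨η, hgen.mem⟩ : E)) (b := ⟨z, hz⟩)
        (Topology.IsInducing.subtypeVal.specializes_iff.mp (hgen.specializes hz))
        fun e => hzne (congrArg Subtype.val e))
  obtain ⟨d, a, m, hd0, hdd, ha, hm, hdeg, had, hdvd, hpos⟩ := sub_data_any k hω ht hd E hEc hc h1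
  have hm0 := hpos hne
  rcases had with ha0 | ha0
  · have hmd : m ≠ d := fun e => hnt E hE (isRationalTail_of_eq hd E hE hne hc (ha.symm.trans ha0) (by rw [← hm, e, hdd]))
    obtain ⟨c, hc'⟩ := hdvd
    have hc2 : 2 ≤ c := by
      rcases c with _ | _ | c
      · simp at hc'; omega
      · simp at hc'; exact absurd hc' hmd
      · omega
    have h2 : 2 * d ≤ m := by rw [hc', mul_comm 2 d]; exact Nat.mul_le_mul_left d hc2
    refine ⟨by omega, fun h0 => ?_⟩
    have hm2 : m = 2 * d := by omega
    have hker : (Scheme.Opens.ι (⟨Eᶜ, hEc.isOpen_compl⟩ : X.Opens)).ker = vI (closure Eᶜ) isClosed_closure := by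
      rw [SchImage.ker_eq_vanishingIdeal, vI]
      congr 1
      exact Closeds.ext (by
        show closure (Set.range (Scheme.Opens.ι (⟨Eᶜ, hEc.isOpen_compl⟩ : X.Opens))) = closure Eᶜ
        rw [Scheme.Opens.range_ι]; rfl)
    letI : (vI E hEc).subscheme.Over (Spec (CommRingCat.of k)) :=
      ⟨(vI E hEc).subschemeι ≫ (X ↘ Spec (CommRingCat.of k))⟩
    haveI : (Coh.structureModule (vI E hEc).subscheme).IsQuasicoherent := M1.isQCoh_structureModule _
    suffices key : ∀ I : X.IdealSheafData, I = vI (closure Eᶜ) isClosed_closure →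
        (I.support : Set X).Nonempty ∧
        Module.finrank k (Coh.HH X (ClSub.quotMod (vI E hEc ⊔ I)) 0) =
          2 * Module.finrank k (Coh.HH X (ClSub.quotMod (vI E hEc)) 0) ∧
        Subsingleton (Coh.HH (vI E hEc).subscheme (Coh.structureModule (vI E hEc).subscheme) 1) from key _ hker
    rintro I rfl
    haveI : IsProper ((vI E hEc).subscheme ↘ Spec (CommRingCat.of k)) :=
      inferInstanceAs (IsProper ((vI E hEc).subschemeι ≫ (X ↘ Spec (CommRingCat.of k))))
    haveI := (CurveAmple18.curveLike k (vI E hEc).subscheme h1.le).fin _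
      (CurveCoh17.isCoh_structureModule (X := (vI E hEc).subscheme)) 1
    refine ⟨?_, ?_, Module.finrank_zero_iff.mp (show
      Module.finrank k (Coh.HH (vI E hEc).subscheme (Coh.structureModule _) 1) = 0 from ha.symm.trans ha0)⟩
    · rw [Scheme.IdealSheafData.coe_support_vanishingIdeal]
      exact (Set.nonempty_compl.mpr hne).mono subset_closure
    · rw [← hm, hm2, hdd]
      congr 1
      exact ((CurveCoh17.nonempty_hequiv_push k (vI E hEc).subschemeι rfl
        (Coh.structureModule (vI E hEc).subscheme) 0).some.finrank_eq).symm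
  · exact ⟨by omega, fun h0 => by omega⟩

theorem nef_proper (hu : ∀ E ∈ irreducibleComponents (X : Type u), E ≠ Set.univ) (T : Set X) (hT : IsClosed T) :
    0 ≤ TFOne27.delta k ω 1 (TFOne27.OT T hT) := by
  haveI := CohFound.isNoetherian_of_isProper (X ↘ Spec (CommRingCat.of k))
  refine delta_nonneg_of_comp hd.le hω (fun C hC hC1 => ?_) T hT
  obtain ⟨E, hE, rfl, -⟩ := component_of_integral k hd C hC hC1
  show 0 ≤ degOn k _ ω
  rw [← delta_eq_degOn hω]
  exact (comp_deg hω ht hd hnt E hE (hu E hE)).1

omit hω ht hnt in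
include k in
theorem component_ne_univ {T : Set X} (hT : IsClosed T) (hne : T ≠ Set.univ)
    (hc : ConnectedSpace (vI T hT).subscheme) (h1 : topologicalKrullDim (vI T hT).subscheme = 1)
    (E : Set X) (hE : E ∈ irreducibleComponents (X : Type u)) : E ≠ Set.univ := by
  rintro rfl
  haveI := CohFound.isNoetherian_of_isProper (X ↘ Spec (CommRingCat.of k))
  obtain ⟨y⟩ := (hc.toNonempty : Nonempty (vI T hT).subscheme)
  obtain ⟨η, hη, hηT, -⟩ := genClosed_of_dim_one hd.le hT hc h1 _ ((TFOne27.range_sub T hT).le ⟨y, rfl⟩)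
  have h : closure ({η} : Set X) = Set.univ :=
    Set.eq_univ_of_univ_subset (hη.le_of_ge hE.1 (Set.subset_univ _))
  exact hne (Set.eq_univ_of_univ_subset (h ▸ closure_minimal (Set.singleton_subset_iff.mpr hηT) hT))

theorem deg_ge_h1 (T : Set X) (hT : IsClosed T) (hne : T ≠ Set.univ) (hc : ConnectedSpace (vI T hT).subscheme)
    (h1 : topologicalKrullDim (vI T hT).subscheme = 1) :
    (genusOn k (vI T hT) : ℤ) ≤ TFOne27.delta k ω 1 (TFOne27.OT T hT) := by
  haveI := CohFound.isNoetherian_of_isProper (X ↘ Spec (CommRingCat.of k))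
  have hn := nef_proper hω ht hd hnt (component_ne_univ (k := k) hd hT hne hc h1) T hT
  obtain ⟨d, a, m, hd0, -, rfl, -, hdeg, had, hdvd, hpos⟩ := sub_data_any k hω ht hd T hT hc h1
  have hm0 := hpos hne
  have hdm : d ≤ m := Nat.le_of_dvd hm0 hdvd
  rcases had with ha0 | ha0
  · omega
  · omega

omit hnt in
theorem deg_univ (h0 : Module.finrank k (Coh.HH X (Coh.structureModule X) 0) = 1) :
    Curv2.deg k X ω 1 = 2 * (Curv2.genus k X : ℤ) - 2 := by
  have hX := CurveAmple18.curveLike k X hd.le
  haveI := hX.noetherian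
  rw [Curv2.deg, euler_trace hω ht hd.le, (hX.adm CurveCoh17.isCoh_structureModule).euler_eq, h0, Curv2.genus]
  push_cast
  ring

theorem pow_globallyGenerated (h0 : Module.finrank k (Coh.HH X (Coh.structureModule X) 0) = 1)
    (hg : 2 ≤ Curv2.genus k X) (i : ℕ) (hi : 2 ≤ i) : Curv2.IsGloballyGenerated (CohB1.tensorPow ω i) := by
  haveI := CohFound.isNoetherian_of_isProper (X ↘ Spec (CommRingCat.of k))
  refine globallyGenerated_of_degBig (k := k) hd (M2.isInvertible_tensorPow hω i) fun T hT _ hc h1 => ?_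
  rw [degOn_pow hω hd.le hT]
  show 2 * (genusOn k (vI T hT) : ℤ) ≤ _
  have hi' : (2 : ℤ) ≤ i := by exact_mod_cast hi
  by_cases hne : T = Set.univ
  · have hb : genusOn k (vI T hT) ≤ Curv2.genus k X := h1_OT_le (k := k) hd.le T hT
    subst hne
    rw [TFOne27.delta_univ, deg_univ hω ht hd h0]
    have hg' : (2 : ℤ) ≤ Curv2.genus k X := by exact_mod_cast hg
    have hb' : (genusOn k (vI (Set.univ : Set X) hT) : ℤ) ≤ Curv2.genus k X := by exact_mod_cast hb
    nlinarith
  · have h2 := deg_ge_h1 hω ht hd hnt T hT hne hc h1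
    have h3 : 0 ≤ TFOne27.delta k ω 1 (TFOne27.OT T hT) := (Int.natCast_nonneg _).trans h2
    nlinarith

theorem isAmple_dualizing (h0 : Module.finrank k (Coh.HH X (Coh.structureModule X) 0) = 1)
    (hg : 2 ≤ Curv2.genus k X)
    (hnb : ∀ (C : Set X) (hC : C ∈ irreducibleComponents (X : Type u)), ¬ Curv2.IsRationalBridge k X C hC) :
    CohB1.IsAmple ω := by
  haveI := CohFound.isNoetherian_of_isProper (X ↘ Spec (CommRingCat.of k))
  refine (AmpleFin18.isAmple_iff_deg_pos k hd.le hω).2 fun Z hZ _ => ?_
  show 0 < degOn k (vI (Z : Set X) Z.isClosed) ω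
  rw [← delta_eq_degOn hω]
  by_cases hne : (Z : Set X) = Set.univ
  · obtain rfl : Z = ⊤ := Closeds.ext hne
    show 0 < TFOne27.delta k ω 1 (TFOne27.OT Set.univ isClosed_univ)
    rw [TFOne27.delta_univ, deg_univ hω ht hd h0]
    omega
  · obtain ⟨h, h'⟩ := comp_deg hω ht hd hnt (Z : Set X) hZ hne
    exact h.lt_of_ne fun e => hnb _ hZ (h' e.symm)

end Groth.Agent.CurveH1Min27
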