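import Groth.Agent.Lib.CurveH1Min27.GorAmple
import Groth.Agent.Lib.SchImage.ReducedKer

/-!
# Subcurves of Gorenstein curves over an arbitrary field
-/

set_option autoImplicit false
set_option linter.style.haveILetI false
set_option linter.unusedSectionVars false
set_option backward.isDefEq.respectTransparency false

universe u

open CategoryTheory CategoryTheory.Limits AlgebraicGeometry TopologicalSpace Opposite

namespace Groth.Agent.CurveH1Min27

open Groth.Agent.M1 Groth.Agent.CurveCoh17
open TFOne27 (GenClosed)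

/-- A finite dimensional algebra over a field extension has dimension a multiple of the degree. -/
theorem dvd_of_field_hom {k K A : Type u} [Field k] [CommRing K] [Nontrivial K] [CommRing A]
    (hK : ∀ x : K, x ≠ 0 → IsUnit x) (a : k →+* K) (f : K →+* A) :
    letI := a.toAlgebra; letI := (f.comp a).toAlgebra
    Module.finrank k K ∣ Module.finrank k A := by
  letI : Field K := (show IsField K from ⟨exists_pair_ne K, mul_comm,
    fun {x} hx => ⟨_, (hK x hx).mul_val_inv⟩⟩).toField
  letI := a.toAlgebra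
  letI := (f.comp a).toAlgebra
  letI := f.toAlgebra
  haveI : IsScalarTower k K A := IsScalarTower.of_algebraMap_eq' rfl
  exact Dvd.intro _ (Module.finrank_mul_finrank k K A)

section gamma

variable {Y : Scheme.{u}} {k : Type u} [Field k] [Y.Over (Spec (CommRingCat.of k))]

/-- The constants among the global functions. -/
noncomputable abbrev cst (k : Type u) [Field k] (Y : Scheme.{u}) [Y.Over (Spec (CommRingCat.of k))] :
    k →+* Γ(Y, (⊤ : Y.Opens)) := Coh.toGlobal (Y ↘ Spec (CommRingCat.of k))

/-- Global functions as `H⁰`. -/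
noncomputable def gammaAdd : Coh.HH Y (Coh.structureModule Y) 0 ≃+ Γ(Y, (⊤ : Y.Opens)) := hh0 (Coh.structureModule Y)
theorem gammaAdd_smul (c : k) (x : Coh.HH Y (Coh.structureModule Y) 0) :
    gammaAdd (c • x) = cst k Y c * gammaAdd x := hh0_smul (M := Coh.structureModule Y) _ x
theorem finrank_gamma : letI := (cst k Y).toAlgebra
    Module.finrank k Γ(Y, (⊤ : Y.Opens)) = Module.finrank k (Coh.HH Y (Coh.structureModule Y) 0) := by
  letI := (cst k Y).toAlgebra
  exact ((gammaAdd (Y := Y)).toLinearEquiv (R := k) fun c x => (gammaAdd_smul c x).trans (Algebra.smul_def _ _).symm).finrank_eq.symm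
theorem finite_gamma (h : Module.Finite k (Coh.HH Y (Coh.structureModule Y) 0)) : letI := (cst k Y).toAlgebra
    Module.Finite k Γ(Y, (⊤ : Y.Opens)) := by
  letI := (cst k Y).toAlgebra
  exact Module.Finite.equiv ((gammaAdd (Y := Y)).toLinearEquiv (R := k) fun c x => (gammaAdd_smul c x).trans (Algebra.smul_def _ _).symm)

theorem h0_le_h1_of_field (hfin : Module.Finite k (Coh.HH Y (Coh.structureModule Y) 1))
    (hK : ∀ x : Γ(Y, (⊤ : Y.Opens)), x ≠ 0 → IsUnit x) (h : Nontrivial (Coh.HH Y (Coh.structureModule Y) 1)) :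
    Module.finrank k (Coh.HH Y (Coh.structureModule Y) 0) ≤ Module.finrank k (Coh.HH Y (Coh.structureModule Y) 1) := by
  haveI := hfin
  obtain ⟨η, hη⟩ := exists_ne (0 : Coh.HH Y (Coh.structureModule Y) 1)
  let Φ := (cupH1 k (Coh.structureModule Y)).flip η
  refine LinearMap.finrank_le_finrank_of_injective (f := Φ) ((injective_iff_map_eq_zero Φ).2 fun z hz => ?_)
  by_contra hne
  obtain ⟨u, hu⟩ := hK (hh0 (Coh.structureModule Y) z) fun e => hne ((hh0 _).injective (e.trans (map_zero _).symm))
  have h1 : secHom (hh0 (Coh.structureModule Y) z) ≫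
      secHom (show Γ(Coh.structureModule Y, (⊤ : Y.Opens)) from ((u⁻¹ : Γ(Y, (⊤ : Y.Opens))ˣ) : Γ(Y, (⊤ : Y.Opens)))) = 𝟙 _ := by
    refine unit_hom_ext ?_
    rw [Scheme.Modules.Hom.comp_app, ConcreteCategory.comp_apply, secHom_app_one]
    show (secHom _).app ⊤ (hh0 (Coh.structureModule Y) z) = one ⊤
    have : hh0 (Coh.structureModule Y) z =
        (show Γ(Y, (⊤ : Y.Opens)) from (u : Γ(Y, (⊤ : Y.Opens)))) • (one ⊤ : Γ(Coh.structureModule Y, (⊤ : Y.Opens))) :=
      hu.symm.trans (mul_one (u : Γ(Y, (⊤ : Y.Opens)))).symm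
    rw [this, Scheme.Modules.Hom.app_smul, secHom_app_one]
    exact u.mul_inv
  refine hη ?_
  have h2 : hmap k (secHom (hh0 (Coh.structureModule Y) z)) 1 η = 0 := hz
  have h3 := hmap_comp k (secHom (hh0 (Coh.structureModule Y) z))
    (secHom (show Γ(Coh.structureModule Y, (⊤ : Y.Opens)) from ((u⁻¹ : Γ(Y, (⊤ : Y.Opens))ˣ) : Γ(Y, (⊤ : Y.Opens))))) 1 η
  rw [h1, h2, map_zero] at h3
  exact (hmap_id k (Coh.structureModule Y) 1 η).symm.trans h3

theorem subsingleton_of_field_gamma [DiscreteTopology Y] [Finite Y]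
    (hK : ∀ x : Γ(Y, (⊤ : Y.Opens)), x ≠ 0 → IsUnit x) : Subsingleton Y := by
  classical
  refine ⟨fun a b => ?_⟩
  by_contra hne
  haveI := Fintype.ofFinite Y
  have hs : SuppIn (Coh.structureModule Y) (Finset.univ : Finset Y) :=
    ⟨fun x _ => isClosed_discrete _, fun x hx => absurd (Finset.mem_univ x) hx⟩
  obtain ⟨s, hs'⟩ := hs.exists_section ⊤ fun x => if x = a then (Coh.structureModule Y).presheaf.germ ⊤ x trivial (one ⊤) else 0
  have ha := hs' a (Finset.mem_univ _) trivial
  have hb := hs' b (Finset.mem_univ _) trivial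
  rw [if_pos rfl] at ha
  rw [if_neg (Ne.symm hne)] at hb
  have hone : ∀ x : Y, (Coh.structureModule Y).presheaf.germ ⊤ x trivial (one ⊤) ≠ 0 := fun x h0 => by
    obtain ⟨W, hW, i, i', hh⟩ := TopCat.Presheaf.germ_eq (Coh.structureModule Y).presheaf x (show x ∈ (⊤ : Y.Opens) from trivial) (show x ∈ (⊤ : Y.Opens) from trivial) _ _
      (h0.trans (map_zero ((Coh.structureModule Y).presheaf.germ ⊤ x trivial).hom).symm)
    haveI : Nontrivial Γ(Y, W) := (Y.presheaf.germ W x hW).hom.domain_nontrivial
    have hh' : Y.presheaf.map i.op (1 : Γ(Y, (⊤ : Y.Opens))) = Y.presheaf.map i'.op 0 := hh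
    rw [map_one, map_zero] at hh'
    exact one_ne_zero hh'
  by_cases h0 : s = 0
  · rw [h0, map_zero] at ha
    exact hone a ha.symm
  · obtain ⟨u, hu⟩ := hK s h0
    refine hone b ?_
    have : (one ⊤ : Γ(Coh.structureModule Y, (⊤ : Y.Opens))) =
        (show Γ(Y, (⊤ : Y.Opens)) from ((u⁻¹ : Γ(Y, (⊤ : Y.Opens))ˣ) : Γ(Y, (⊤ : Y.Opens)))) • s := by
      show (1 : Γ(Y, (⊤ : Y.Opens))) = _ * (show Γ(Y, (⊤ : Y.Opens)) from s)
      rw [← hu]
      exact u.inv_mul.symm
    rw [this, germ_smul, hb, smul_zero]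

end gamma

variable {X : Scheme.{u}} {k : Type u} [Field k] [X.Over (Spec (CommRingCat.of k))]
  [IsProper (X ↘ Spec (CommRingCat.of k))] [AlgebraicGeometry.IsReduced X] [ConnectedSpace X]

theorem vI_univ : vI (Set.univ : Set X) isClosed_univ = ⊥ := by
  rw [vI, show (⟨Set.univ, isClosed_univ⟩ : Closeds X) = ⊤ from rfl, Scheme.IdealSheafData.vanishingIdeal_top]
  exact Scheme.nilradical_eq_bot

variable (k) in
/-- The numerical data of a connected subcurve, over any field. -/
theorem sub_data_any {ω : X.Modules} (hω : PicF.IsInvertible ω) {t : Coh.HH X ω 1 →ₗ[k] k}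
    (ht : IsTrace k ω t) (hd : topologicalKrullDim X = 1) (T : Set X) (hT : IsClosed T)
    (hc : ConnectedSpace (vI T hT).subscheme) (h1 : topologicalKrullDim (vI T hT).subscheme = 1) :
    ∃ (d a m : ℕ), 0 < d ∧
      (letI : (vI T hT).subscheme.Over (Spec (CommRingCat.of k)) := ⟨(vI T hT).subschemeι ≫ (X ↘ Spec (CommRingCat.of k))⟩
       d = Module.finrank k (Coh.HH (vI T hT).subscheme (Coh.structureModule _) 0)) ∧
      a = genusOn k (vI T hT) ∧
      m = Module.finrank k (Coh.HH X (ClSub.quotMod (vI T hT ⊔ vI (closure Tᶜ) isClosed_closure)) 0) ∧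
      TFOne27.delta k ω 1 (TFOne27.OT T hT) = 2 * (a : ℤ) - 2 * d + m ∧
      (a = 0 ∨ d ≤ a) ∧ d ∣ m ∧ (T ≠ Set.univ → 0 < m) := by
  haveI := CohFound.isNoetherian_of_isProper (X ↘ Spec (CommRingCat.of k))
  let C := (vI T hT).subscheme
  let i := (vI T hT).subschemeι
  letI : C.Over (Spec (CommRingCat.of k)) := ⟨i ≫ (X ↘ Spec (CommRingCat.of k))⟩
  haveI : IsProper (C ↘ Spec (CommRingCat.of k)) := inferInstanceAs (IsProper (i ≫ (X ↘ Spec (CommRingCat.of k))))
  haveI : AlgebraicGeometry.IsReduced C := inferInstanceAs (AlgebraicGeometry.IsReduced (VecSt.subsch X T hT))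
  haveI : ConnectedSpace C := hc
  have hC := CurveAmple18.curveLike k C h1.le
  haveI := hC.noetherian
  have hf0 := hC.fin _ (CurveCoh17.isCoh_structureModule (X := C)) 0
  have hf1 := hC.fin _ (CurveCoh17.isCoh_structureModule (X := C)) 1
  have hK : ∀ x : Γ(C, (⊤ : C.Opens)), x ≠ 0 → IsUnit x := isUnit_of_ne_zero hf0
  have hg := genClosed_of_dim_one hd.le hT hc h1
  have hcs := isComplSub_closure hT hg
  refine ⟨_, _, _, h0_structure_pos (k := k) hC, rfl, rfl, rfl, ?_, ?_, ?_, fun hne => ?_⟩
  · rw [adjunction hω ht hd.le hT isClosed_closure hcs, euler_OT_eq hT hd.le]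
    simp only [meet]
    show -2 * ((Module.finrank k (Coh.HH C (Coh.structureModule C) 0) : ℤ) -
        Module.finrank k (Coh.HH C (Coh.structureModule C) 1)) + _ =
      2 * ((Module.finrank k (Coh.HH C (Coh.structureModule C) 1) : ℕ) : ℤ) - _ + _
    ring
  · by_cases h0 : Nontrivial (Coh.HH C (Coh.structureModule C) 1)
    · exact Or.inr (h0_le_h1_of_field hf1 hK h0)
    · haveI := not_nontrivial_iff_subsingleton.mp h0
      exact Or.inl Module.finrank_zero_of_subsingleton
  · let Q := vI T hT ⊔ vI (closure Tᶜ) isClosed_closure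
    letI : Q.subscheme.Over (Spec (CommRingCat.of k)) := ⟨Q.subschemeι ≫ (X ↘ Spec (CommRingCat.of k))⟩
    haveI : (Coh.structureModule Q.subscheme).IsQuasicoherent := M1.isQCoh_structureModule _
    let j := Scheme.IdealSheafData.inclusion (le_sup_left : vI T hT ≤ Q)
    have hcomp : (j.appTop.hom).comp (cst k C) = cst k Q.subscheme := by
      have hj : j ≫ (C ↘ Spec (CommRingCat.of k)) = Q.subscheme ↘ Spec (CommRingCat.of k) := by
        show j ≫ i ≫ _ = Q.subschemeι ≫ _
        rw [← Category.assoc, Scheme.IdealSheafData.inclusion_subschemeι]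
      refine RingHom.ext fun c => ?_
      simp only [cst, Coh.toGlobal, ← hj, Scheme.Hom.comp_appTop, CommRingCat.hom_comp, RingHom.comp_apply]
      rfl
    haveI : Nontrivial Γ(C, (⊤ : C.Opens)) :=
      (C.presheaf.germ ⊤ (Classical.arbitrary C) trivial).hom.domain_nontrivial
    have h := dvd_of_field_hom hK (cst k C) j.appTop.hom
    rw [hcomp] at h
    rw [finrank_gamma, finrank_gamma] at h
    have e : Module.finrank k (Coh.HH X (ClSub.quotMod Q) 0) =
        Module.finrank k (Coh.HH Q.subscheme (Coh.structureModule Q.subscheme) 0) :=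
      (CurveCoh17.nonempty_hequiv_push k Q.subschemeι rfl (Coh.structureModule Q.subscheme) 0).some.finrank_eq
    rw [e]
    exact h
  · let Q := vI T hT ⊔ vI (closure Tᶜ) isClosed_closure
    obtain ⟨z, hz⟩ : ((Q.support : Set X)).Nonempty := by
      by_contra he
      rw [Set.not_nonempty_iff_eq_empty, Scheme.IdealSheafData.support_sup, Closeds.coe_inf,
        Scheme.IdealSheafData.coe_support_vanishingIdeal, Scheme.IdealSheafData.coe_support_vanishingIdeal] at he
      have hcl : IsClopen T := ⟨hT, by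
        rw [show T = (closure Tᶜ)ᶜ from Set.Subset.antisymm
          (fun w hw hw' => (Set.eq_empty_iff_forall_notMem.mp he w) ⟨hw, hw'⟩)
          (fun w hw => by_contra fun hwn => hw (subset_closure hwn))]
        exact isClosed_closure.isOpen_compl⟩
      rcases isClopen_iff.mp hcl with h' | h'
      · obtain ⟨y⟩ := (inferInstance : Nonempty C)
        exact (Set.ext_iff.mp h' _).1 ((TFOne27.range_sub T hT).le ⟨y, rfl⟩)
      · exact hne h'
    letI : Q.subscheme.Over (Spec (CommRingCat.of k)) := ⟨Q.subschemeι ≫ (X ↘ Spec (CommRingCat.of k))⟩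
    haveI : IsProper (Q.subscheme ↘ Spec (CommRingCat.of k)) :=
      inferInstanceAs (IsProper (Q.subschemeι ≫ (X ↘ Spec (CommRingCat.of k))))
    haveI : Nonempty Q.subscheme := by
      obtain ⟨w, -⟩ := Q.range_subschemeι.ge hz
      exact ⟨w⟩
    haveI : (Coh.structureModule Q.subscheme).IsQuasicoherent := M1.isQCoh_structureModule _
    have hpos := h0_structure_pos (k := k) (CurveAmple18.curveLike k Q.subscheme
      (Q.subschemeι.isClosedEmbedding.isInducing.topologicalKrullDim_le.trans hd.le))
    rwa [← (CurveCoh17.nonempty_hequiv_push k Q.subschemeι rfl (Coh.structureModule Q.subscheme) 0).some.finrank_eq] at hpos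

/-- A component meeting the rest in one rational point with no `H¹` is a rational tail. -/
theorem isRationalTail_of_eq (hd : topologicalKrullDim X = 1) (E : Set X) (hE : E ∈ irreducibleComponents (X : Type u))
    (hne : E ≠ Set.univ) (hc : ConnectedSpace (vI E (isClosed_of_mem_irreducibleComponents E hE)).subscheme)
    (hh1 : genusOn k (vI E (isClosed_of_mem_irreducibleComponents E hE)) = 0)
    (hm : letI : (vI E (isClosed_of_mem_irreducibleComponents E hE)).subscheme.Over (Spec (CommRingCat.of k)) :=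
        ⟨(vI E (isClosed_of_mem_irreducibleComponents E hE)).subschemeι ≫ (X ↘ Spec (CommRingCat.of k))⟩
      Module.finrank k (Coh.HH X (ClSub.quotMod (vI E (isClosed_of_mem_irreducibleComponents E hE) ⊔
        vI (closure Eᶜ) isClosed_closure)) 0) =
      Module.finrank k (Coh.HH (vI E (isClosed_of_mem_irreducibleComponents E hE)).subscheme (Coh.structureModule _) 0)) :
    Curv2.IsRationalTail X E hE := by
  haveI := CohFound.isNoetherian_of_isProper (X ↘ Spec (CommRingCat.of k))
  have hEc := isClosed_of_mem_irreducibleComponents E hE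
  have hker : (Scheme.Opens.ι (⟨Eᶜ, hEc.isOpen_compl⟩ : X.Opens)).ker = vI (closure Eᶜ) isClosed_closure := by
    rw [SchImage.ker_eq_vanishingIdeal, vI]
    congr 1
    exact Closeds.ext (by
      show closure (Set.range (Scheme.Opens.ι (⟨Eᶜ, hEc.isOpen_compl⟩ : X.Opens))) = closure Eᶜ
      rw [Scheme.Opens.range_ι]; rfl)
  suffices key : ∀ (I : X.IdealSheafData), I = vI (closure Eᶜ) isClosed_closure →
      (I.support : Set X).Nonempty ∧ Nonempty (vI E hEc ⊔ I).subscheme ∧ Subsingleton (vI E hEc ⊔ I).subscheme ∧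
      AlgebraicGeometry.IsReduced (vI E hEc ⊔ I).subscheme ∧
      (∀ c : (vI E hEc ⊔ I).subscheme, Function.Bijective ((vI E hEc).subscheme.evaluation ⊤
        ((Scheme.IdealSheafData.inclusion (le_sup_left : vI E hEc ≤ vI E hEc ⊔ I)).base c) trivial)) ∧
      Subsingleton (Coh.HH (vI E hEc).subscheme (Coh.structureModule (vI E hEc).subscheme) 1) from key _ hker
  rintro I rfl
  let IC := vI E hEc
  let Q := IC ⊔ vI (closure Eᶜ) isClosed_closure
  let C := IC.subscheme
  letI : C.Over (Spec (CommRingCat.of k)) := ⟨IC.subschemeι ≫ (X ↘ Spec (CommRingCat.of k))⟩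
  haveI : IsProper (C ↘ Spec (CommRingCat.of k)) := inferInstanceAs (IsProper (IC.subschemeι ≫ (X ↘ Spec (CommRingCat.of k))))
  haveI : AlgebraicGeometry.IsReduced C := inferInstanceAs (AlgebraicGeometry.IsReduced (VecSt.subsch X E hEc))
  haveI : ConnectedSpace C := hc
  have hC := CurveAmple18.curveLike k C (IC.subschemeι.isClosedEmbedding.isInducing.topologicalKrullDim_le.trans hd.le)
  haveI := hC.noetherian
  haveI := hC.fin _ (CurveCoh17.isCoh_structureModule (X := C)) 1
  have hf0 := hC.fin _ (CurveCoh17.isCoh_structureModule (X := C)) 0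
  have hK : ∀ x : Γ(C, (⊤ : C.Opens)), x ≠ 0 → IsUnit x := isUnit_of_ne_zero hf0
  letI : Q.subscheme.Over (Spec (CommRingCat.of k)) := ⟨Q.subschemeι ≫ (X ↘ Spec (CommRingCat.of k))⟩
  haveI : IsProper (Q.subscheme ↘ Spec (CommRingCat.of k)) :=
    inferInstanceAs (IsProper (Q.subschemeι ≫ (X ↘ Spec (CommRingCat.of k))))
  haveI : (Coh.structureModule Q.subscheme).IsQuasicoherent := M1.isQCoh_structureModule _
  have hQ := CurveAmple18.curveLike k Q.subscheme
    (Q.subschemeι.isClosedEmbedding.isInducing.topologicalKrullDim_le.trans hd.le)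
  haveI := hQ.noetherian
  have hQ0 := hQ.fin _ (CurveCoh17.isCoh_structureModule (X := Q.subscheme)) 0
  have e : Module.finrank k (Coh.HH X (ClSub.quotMod Q) 0) =
      Module.finrank k (Coh.HH Q.subscheme (Coh.structureModule Q.subscheme) 0) :=
    (CurveCoh17.nonempty_hequiv_push k Q.subschemeι rfl (Coh.structureModule Q.subscheme) 0).some.finrank_eq
  have hpos : 0 < Module.finrank k (Coh.HH Q.subscheme (Coh.structureModule Q.subscheme) 0) := by
    rw [← e]
    exact hm ▸ h0_structure_pos (k := k) hC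
  haveI hQne : Nonempty Q.subscheme := by
    by_contra he
    rw [not_nonempty_iff] at he
    haveI := he
    haveI : Subsingleton (Coh.HH Q.subscheme (Coh.structureModule Q.subscheme) 0) :=
      (hh0 _).toEquiv.subsingleton_congr.mpr (inferInstanceAs (Subsingleton Γ(Q.subscheme, (⊤ : Q.subscheme.Opens))))
    rw [Module.finrank_zero_of_subsingleton] at hpos
    exact lt_irrefl _ hpos
  -- the restriction from the global functions of the component
  let j := Scheme.IdealSheafData.inclusion (le_sup_left : IC ≤ Q)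
  have hj : j ≫ (C ↘ Spec (CommRingCat.of k)) = Q.subscheme ↘ Spec (CommRingCat.of k) := by
    show j ≫ IC.subschemeι ≫ _ = Q.subschemeι ≫ _
    rw [← Category.assoc, Scheme.IdealSheafData.inclusion_subschemeι]
  haveI : Nontrivial Γ(C, (⊤ : C.Opens)) :=
    (C.presheaf.germ ⊤ (Classical.arbitrary C) trivial).hom.domain_nontrivial
  haveI : Nontrivial Γ(Q.subscheme, (⊤ : Q.subscheme.Opens)) :=
    (Q.subscheme.presheaf.germ ⊤ hQne.some trivial).hom.domain_nontrivial
  have hfb : Function.Bijective j.appTop := by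
    letI := (cst k C).toAlgebra
    letI := (cst k Q.subscheme).toAlgebra
    let fl : Γ(C, (⊤ : C.Opens)) →ₗ[k] Γ(Q.subscheme, (⊤ : Q.subscheme.Opens)) :=
      { toFun := j.appTop
        map_add' := map_add j.appTop.hom
        map_smul' := fun c x => by
          show j.appTop (cst k C c * x) = cst k Q.subscheme c * j.appTop x
          rw [map_mul]
          congr 1
          simp only [cst, Coh.toGlobal, ← hj, Scheme.Hom.comp_appTop, CommRingCat.hom_comp, RingHom.comp_apply]
          rfl }
    have hinj : Function.Injective fl := fun x y hxy => by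
      by_contra hne'
      obtain ⟨u, hu⟩ := hK (x - y) (sub_ne_zero.mpr hne')
      have : j.appTop (x - y) = 0 := by rw [map_sub]; exact sub_eq_zero.mpr hxy
      rw [← hu] at this
      exact (u.isUnit.map j.appTop.hom).ne_zero this
    haveI : Module.Finite k Γ(C, (⊤ : C.Opens)) := finite_gamma hf0
    haveI : Module.Finite k Γ(Q.subscheme, (⊤ : Q.subscheme.Opens)) := finite_gamma hQ0
    refine ⟨hinj, (LinearMap.injective_iff_surjective_of_finrank_eq_finrank ?_).mp hinj⟩
    rw [finrank_gamma, finrank_gamma, ← e, hm]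
  have hKQ : ∀ x : Γ(Q.subscheme, (⊤ : Q.subscheme.Opens)), x ≠ 0 → IsUnit x := fun x hx => by
    obtain ⟨y, rfl⟩ := hfb.2 x
    exact (hK y fun h => hx (by rw [h]; exact map_zero j.appTop.hom)).map j.appTop.hom
  -- the intersection is finite and discrete
  have hgE : GenClosed E := fun x hx => by
    obtain ⟨η, hη, hgen⟩ := TFOne27.exists_generic_of_component hE
    exact ⟨η, hη, hgen.mem, hgen.specializes hx⟩
  have hcs := isComplSub_closure hEc hgE
  have hclpt : ∀ w : Q.subscheme, IsClosed ({w} : Set Q.subscheme) := fun w => by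
    have hx : Q.subschemeι w ∈ (Q.support : Set X) := Q.range_subschemeι.le ⟨w, rfl⟩
    rw [Scheme.IdealSheafData.support_sup, Closeds.coe_inf, Scheme.IdealSheafData.coe_support_vanishingIdeal,
      Scheme.IdealSheafData.coe_support_vanishingIdeal] at hx
    have hcl : IsClosed ({Q.subschemeι w} : Set X) := by
      by_contra hn
      exact (hcs.2.2 _ (mem_genericPoints_of_not_closed hd.le hn)).1 hx.2 hx.1
    have e' : ({w} : Set Q.subscheme) = Q.subschemeι ⁻¹' {Q.subschemeι w} :=
      Set.ext fun v => ⟨fun h => by rw [Set.mem_singleton_iff.mp h]; rfl, fun h => Q.subschemeι.isClosedEmbedding.injective h⟩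
    rw [e']
    exact hcl.preimage Q.subschemeι.continuous
  haveI : Finite Q.subscheme := by
    have : (genericPoints (Q.subscheme : Type u)) = Set.univ := Set.eq_univ_of_forall fun w =>
      TFOne27.mem_genericPoints.mpr fun v hv =>
        ((hclpt v).closure_eq.le (specializes_iff_mem_closure.mp hv) : w ∈ ({v} : Set Q.subscheme)).symm
    exact Set.finite_univ_iff.mp (this ▸ genericPoints.finite NoetherianSpace.finite_irreducibleComponents)
  haveI : DiscreteTopology Q.subscheme := by
    haveI : T1Space Q.subscheme := ⟨hclpt⟩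
    infer_instance
  haveI hsub : Subsingleton Q.subscheme := subsingleton_of_field_gamma hKQ
  obtain ⟨c₀⟩ := hQne
  haveI hAff : IsAffine Q.subscheme := by
    obtain ⟨W, hW, hcW, -⟩ := exists_isAffineOpen_mem_and_subset (U := (⊤ : Q.subscheme.Opens)) (x := c₀) trivial
    have : W = ⊤ := Opens.ext (Set.eq_univ_of_forall fun w => Subsingleton.elim c₀ w ▸ hcW)
    subst this
    haveI : IsAffine (⊤ : Q.subscheme.Opens) := hW
    exact IsAffine.of_isIso Q.subscheme.topIso.inv
  haveI hQred : AlgebraicGeometry.IsReduced Q.subscheme := by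
    haveI : _root_.IsReduced Γ(Q.subscheme, (⊤ : Q.subscheme.Opens)) := ⟨fun x ⟨n, hn⟩ => by
      by_contra hx
      exact ((hKQ x hx).pow n).ne_zero hn⟩
    haveI : AlgebraicGeometry.IsReduced (Spec Γ(Q.subscheme, (⊤ : Q.subscheme.Opens))) := inferInstance
    exact isReduced_of_isOpenImmersion Q.subscheme.isoSpec.hom
  refine ⟨?_, ⟨c₀⟩, hsub, hQred, fun c => ?_, Module.finrank_zero_iff.mp (show
    Module.finrank k (Coh.HH C (Coh.structureModule C) 1) = 0 from hh1)⟩
  · rw [Scheme.IdealSheafData.coe_support_vanishingIdeal]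
    exact (Set.nonempty_compl.mpr hne).mono subset_closure
  · have hKe : Function.Injective (C.evaluation ⊤ (j c) trivial) := fun x y hxy => by
      by_contra hne'
      obtain ⟨u, hu⟩ := hK (x - y) (sub_ne_zero.mpr hne')
      have h0 : (C.evaluation ⊤ (j c) trivial) (x - y) = 0 := by rw [map_sub]; exact sub_eq_zero.mpr hxy
      rw [← hu] at h0
      exact (u.isUnit.map (C.evaluation ⊤ (j c) trivial).hom).ne_zero h0
    refine ⟨hKe, fun r => ?_⟩
    obtain ⟨b, hb⟩ := IsLocalRing.residue_surjective (j.residueFieldMap c r : Q.subscheme.residueField c)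
    obtain ⟨V, hV, b', rfl⟩ := TopCat.Presheaf.exists_germ_eq Q.subscheme.presheaf b
    have hVtop : V = ⊤ := Opens.ext (Set.eq_univ_of_forall fun w => Subsingleton.elim c w ▸ hV)
    subst hVtop
    obtain ⟨a, rfl⟩ := hfb.2 b'
    refine ⟨a, (j.residueFieldMap c).hom.injective ?_⟩
    refine Eq.trans ?_ hb
    exact Scheme.Γevaluation_naturality_apply j c a

end Groth.Agent.CurveH1Min27
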