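import Groth.Agent.Lib.CurveH1Min27.Generated
import Groth.Agent.Lib.TFOne27.Cluster
import Groth.Agent.Lib.NumPoly18.Kleiman

/-!
# Degree criteria on integral curves and on trees of rational curves
-/

set_option autoImplicit false
set_option linter.style.haveILetI false
set_option backward.isDefEq.respectTransparency false

universe u

open CategoryTheory CategoryTheory.Limits AlgebraicGeometry TopologicalSpace Opposite

namespace Groth.Agent.CurveH1Min27

open Groth.Agent.M1 Groth.Agent.CurveCoh17
open TFOne27 (GenClosed)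

variable {X : Scheme.{u}} {k : Type u} [Field k] [X.Over (Spec (CommRingCat.of k))]
  [IsProper (X ↘ Spec (CommRingCat.of k))]

theorem globallyGenerated_of_degBig [AlgebraicGeometry.IsReduced X] [ConnectedSpace X]
    (hd : topologicalKrullDim X = 1) {L : X.Modules} (hL : PicF.IsInvertible L) (hdeg : DegBig k L) :
    Curv2.IsGloballyGenerated L := by
  haveI := CohFound.isNoetherian_of_isProper (X ↘ Spec (CommRingCat.of k))
  refine RA.isGloballyGenerated_of_gen hL fun y => ?_
  obtain ⟨z, hz, hzc⟩ := IsClosed.exists_closed_singleton (isClosed_closure (s := ({y} : Set X))) ((Set.singleton_nonempty y).closure)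
  obtain ⟨t, ht⟩ := exists_gen_closed hd hL hdeg hzc
  exact ⟨t, (specializes_iff_mem_closure.mpr hz).mem_open (CohB1.genLocus L t).2 ht⟩

/-- Nonvanishing `H¹(L)` gives a subcurve of small degree. -/
theorem exists_deg_le_of_h1 [AlgebraicGeometry.IsReduced X] [ConnectedSpace X] (hd : topologicalKrullDim X = 1)
    {L : X.Modules} (hL : PicF.IsInvertible L) (h : Nontrivial (Coh.HH X L 1)) :
    ∃ (T : Set X) (hT : IsClosed T), GenClosed T ∧ ConnectedSpace (VecSt.subsch X T hT) ∧
      topologicalKrullDim (VecSt.subsch X T hT) = 1 ∧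
      TFOne27.delta k L 1 (TFOne27.OT T hT) ≤ -2 * Curv2.euler k X (TFOne27.OT T hT) := by
  haveI := h
  let Z : X.IdealSheafData := ⊤
  have hZs : ∀ z : X, z ∉ (Z.support : Set X) := fun z hz => by simp [Z] at hz
  haveI : IsIso (ClSub.idealModι Z) := (M1.isIso_iff_stalk _).2 fun x =>
    ⟨(M1.mono_iff_stalk _).1 (inferInstanceAs (Mono (kernel.ι (ClSub.toSubscheme Z)))) x,
      surjective_stalk_idealModι Z (hZs x)⟩
  have h1 : Nontrivial (Coh.HH X (CohB1.tensorMod (ClSub.idealMod Z) L) 1) :=
    (CurveCoh17.hequiv k (M2.tensorIso (asIso (ClSub.idealModι Z)) (Iso.refl L) ≪≫ M2.tensorLUnit L) 1).toEquiv.nontrivial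
  haveI : IsEmpty (TopologicalSpace.IrreducibleCloseds (Z.support : Set X)) :=
    ⟨fun a => a.isIrreducible.nonempty.elim fun z _ => hZs z.1 z.2⟩
  obtain ⟨T, hT, hTg, hconn, hdimT, hle⟩ := exists_degree_bound (k := k) hd hL Z Order.krullDim_nonpos_of_subsingleton h1
  rw [finrank_h0_quot_eq_zero (k := k) _ fun z hz =>
    hZs z (Scheme.IdealSheafData.support_antitone (le_sup_left : Z ≤ _) hz)] at hle
  exact ⟨T, hT, hTg, hconn, hdimT, by simpa using hle⟩

theorem h1_OT_le [IsNoetherian X] (hd : topologicalKrullDim X ≤ 1) (T : Set X) (hT : IsClosed T) :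
    letI : (VecSt.subsch X T hT).Over (Spec (CommRingCat.of k)) := ⟨VecSt.subschι X T hT ≫ (X ↘ Spec (CommRingCat.of k))⟩
    Module.finrank k (Coh.HH (VecSt.subsch X T hT) (Coh.structureModule _) 1) ≤ Curv2.genus k X := by
  let i := VecSt.subschι X T hT
  letI : (VecSt.subsch X T hT).Over (Spec (CommRingCat.of k)) := ⟨i ≫ (X ↘ Spec (CommRingCat.of k))⟩
  have hX := CurveAmple18.curveLike k X hd
  haveI := hX.separated
  let J := Scheme.IdealSheafData.vanishingIdeal (⟨T, hT⟩ : TopologicalSpace.Closeds X)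
  haveI := hX.fin _ (CurveCoh17.isCoh_structureModule (X := X)) 1
  haveI : Subsingleton (Coh.HH X (ClSub.idealMod J) (1 + 1)) :=
    CurveCoh17.subsingleton_HH_of_dim hd _ (CurveCoh17.isCoh_kernel CurveCoh17.isCoh_structureModule
      (M1.isQCoh_push _ (M1.isQCoh_structureModule _)) _).1 0
  have hsurj : Function.Surjective (CurveCoh17.hmap k (ClSub.toSubscheme J) 1) := fun x =>
    (CurveCoh17.exact_hmap_hdelta k (M2.shortExact_idealMod (I := J)) 1 x).1 (Subsingleton.elim _ _)
  haveI : (Coh.structureModule (VecSt.subsch X T hT)).IsQuasicoherent := M1.isQCoh_structureModule _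
  have e2 : Module.finrank k (Coh.HH X (TFOne27.OT T hT) 1) =
      Module.finrank k (Coh.HH (VecSt.subsch X T hT) (Coh.structureModule _) 1) :=
    (CurveCoh17.nonempty_hequiv_push k i rfl (Coh.structureModule (VecSt.subsch X T hT)) 1).some.finrank_eq
  rw [← e2]
  exact LinearMap.finrank_le_finrank_of_surjective hsurj

/-- On an integral curve the only subcurve is the curve. -/
theorem degBig_of_integral [IsIntegral X] (hd : topologicalKrullDim X = 1) {L : X.Modules}
    (h : 2 * (Curv2.genus k X : ℤ) ≤ Curv2.deg k X L 1) : DegBig k L := by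
  haveI := CohFound.isNoetherian_of_isProper (X ↘ Spec (CommRingCat.of k))
  intro T hT hTg hconn _
  haveI := hconn
  have hu : T = Set.univ := by
    obtain ⟨η, hη, hηT, -⟩ := hTg _ ((TFOne27.range_sub T hT).le ⟨Classical.arbitrary _, rfl⟩)
    have e : η = genericPoint X := (TFOne27.mem_genericPoints.mp hη _ (genericPoint_specializes η)).symm
    refine Set.eq_univ_of_univ_subset ?_
    rw [← genericPoint_closure X]
    exact closure_minimal (Set.singleton_subset_iff.mpr (e ▸ hηT)) hT
  subst hu
  have := h1_OT_le (k := k) hd.le (Set.univ : Set X) hT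
  rw [TFOne27.delta_univ]
  refine le_trans ?_ h
  exact_mod_cast Nat.mul_le_mul_left 2 this

/-- Nonnegative degree on the components gives nonnegative degree on subcurves. -/
theorem delta_nonneg_of_comp (hd : topologicalKrullDim X ≤ 1) {L : X.Modules} (hL : PicF.IsInvertible L)
    (hdeg : ∀ C : X.IdealSheafData, IsIntegral C.subscheme → topologicalKrullDim (C.support : Set X) = 1 →
      0 ≤ @Curv2.deg k _ C.subscheme ⟨C.subschemeι ≫ (X ↘ Spec (CommRingCat.of k))⟩
        ((Scheme.Modules.pullback C.subschemeι).obj L) 1) (T : Set X) (hT : IsClosed T) :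
    0 ≤ TFOne27.delta k L 1 (TFOne27.OT T hT) := by
  haveI := CohFound.isNoetherian_of_isProper (X ↘ Spec (CommRingCat.of k))
  have hnef : NumPoly18.Nef k L := fun ξ hξ => by
    let ι := (NumPoly18.ptIdeal ξ).subschemeι
    letI : (NumPoly18.ptIdeal ξ).subscheme.Over (Spec (CommRingCat.of k)) := ⟨ι ≫ (X ↘ Spec (CommRingCat.of k))⟩
    rw [show NumPoly18.ptMod ξ = (Scheme.Modules.pushforward ι).obj (Coh.structureModule _) from rfl,
      NumPoly18.cdeg_push ι rfl hL]
    exact_mod_cast hdeg (NumPoly18.ptIdeal ξ) (NumPoly18.isIntegral_pt ξ).1 (by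
      rw [show ((NumPoly18.ptIdeal ξ).support : Set X) = closure {ξ} from Scheme.IdealSheafData.coe_support_vanishingIdeal _]
      exact hξ)
  have h0 := NumPoly18.cdeg_nonneg_of_nef hL hnef (TFOne27.isCoh_OT (X := X) T hT)
    (Topology.IsInducing.subtypeVal.topologicalKrullDim_le.trans hd)
  rw [NumPoly18.cdeg_eq] at h0
  rw [TFOne27.delta, Nat.cast_one, one_mul]
  exact_mod_cast h0

end Groth.Agent.CurveH1Min27
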