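import Groth.Agent.Lib.TFOne27.Semi
import Groth.Agent.Lib.CurveCoh17.Section
import Groth.Agent.Lib.CurveAmple18.Basic

/-!
# Riemann's inequality for a minimal subcurve with nonzero `H¹`
-/

set_option autoImplicit false
set_option linter.style.haveILetI false
set_option backward.isDefEq.respectTransparency false

universe u

open CategoryTheory CategoryTheory.Limits AlgebraicGeometry TopologicalSpace Opposite

namespace Groth.Agent.CurveH1Min27

open Groth.Agent.M1 Groth.Agent.CurveCoh17
open TFOne27 (GenClosed)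

variable {X : Scheme.{u}}

/-- On a connected reduced scheme a global function annihilated by nothing in a finite algebra is a unit. -/
theorem isUnit_of_ne_zero {k : Type u} [Field k] [X.Over (Spec (CommRingCat.of k))] [ConnectedSpace X]
    [AlgebraicGeometry.IsReduced X] (hfin : Module.Finite k (Coh.HH X (Coh.structureModule X) 0))
    (c : Γ(X, (⊤ : X.Opens))) (hc : c ≠ 0) : IsUnit c := by
  have htop : ∀ e : Γ(X, (⊤ : X.Opens)), IsIdempotentElem e → e = 0 ∨ e = 1 := by
    intro e he
    have h1 : X.basicOpen e ⊔ X.basicOpen (1 - e) = ⊤ := top_le_iff.mp fun x _ => by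
      rcases IsLocalRing.isUnit_or_isUnit_one_sub_self (X.presheaf.germ ⊤ x trivial e) with h | h
      · exact Or.inl ((Scheme.mem_basicOpen X e x (trivial : x ∈ (⊤ : X.Opens))).mpr h)
      · exact Or.inr ((Scheme.mem_basicOpen X (1 - e : Γ(X, (⊤ : X.Opens))) x (trivial : x ∈ (⊤ : X.Opens))).mpr (by rw [map_sub, map_one]; exact h))
    have h2 : X.basicOpen e ⊓ X.basicOpen (1 - e) = ⊥ := by
      rw [← Scheme.basicOpen_mul, mul_sub, mul_one, he.eq, sub_self, Scheme.basicOpen_zero]
    have hcl : IsClosed (X.basicOpen e : Set X) := by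
      have : (X.basicOpen e : Set X) = (X.basicOpen (1 - e) : Set X)ᶜ := by
        ext x
        refine ⟨fun hx hx' => ?_, fun hx => ((h1.ge (Opens.mem_top x)).resolve_right hx)⟩
        exact (h2.le ⟨hx, hx'⟩ : x ∈ (⊥ : X.Opens))
      rw [this]; exact (X.basicOpen (1 - e)).2.isClosed_compl
    rcases isClopen_iff.mp ⟨hcl, (X.basicOpen e).2⟩ with h | h
    · exact Or.inl ((basicOpen_eq_bot_iff e).mp (Opens.ext h))
    · refine Or.inr ?_
      have h3 : X.basicOpen (1 - e) = ⊥ := by
        rw [← h2, show X.basicOpen e = ⊤ from Opens.ext h, top_inf_eq]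
      exact (sub_eq_zero.mp ((basicOpen_eq_bot_iff _).mp h3)).symm
  let m : Coh.HH X (Coh.structureModule X) 0 →ₗ[k] Coh.HH X (Coh.structureModule X) 0 :=
    { toFun := fun z => (show Coh.Γtop X from c) • z
      map_add' := fun z w => smul_add _ z w
      map_smul' := fun a z => by
        show (show Coh.Γtop X from c) • Coh.toGlobal (X ↘ Spec (CommRingCat.of k)) a • z =
          Coh.toGlobal (X ↘ Spec (CommRingCat.of k)) a • (show Coh.Γtop X from c) • z
        rw [smul_smul, smul_smul]
        exact congrArg (· • z) (mul_comm (show Γ(X, ⊤) from c) _) }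
  have hinj : Function.Injective m → IsUnit c := fun h => by
    haveI := hfin
    obtain ⟨z, hz⟩ := (LinearMap.injective_iff_surjective.mp h) ((hh0 _).symm (one ⊤))
    have hz' : c • hh0 (Coh.structureModule X) z = one ⊤ := by
      rw [← hh0_smul]; exact (congrArg (hh0 _) hz).trans ((hh0 _).apply_symm_apply _)
    exact IsUnit.of_mul_eq_one (hh0 (Coh.structureModule X) z : Γ(X, ⊤)) hz'
  by_contra hu
  have hni : ¬ Function.Injective m := fun h => hu (hinj h)
  obtain ⟨N, hN⟩ : ∃ N : ℕ, ∀ n, N ≤ n → LinearMap.range (m ^ n) = LinearMap.range (m ^ N) := by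
    haveI := hfin
    obtain ⟨N, hN⟩ := (LinearMap.eventually_iInf_range_pow_eq m).exists_forall_of_atTop
    exact ⟨N, fun n hn => (hN n hn).symm.trans (hN N le_rfl)⟩
  have hpow : ∀ (n : ℕ) z, hh0 (Coh.structureModule X) ((m ^ n) z) = (c ^ n * (show Γ(X, ⊤) from hh0 (Coh.structureModule X) z)) := by
    intro n
    induction n with
    | zero => intro z; rw [pow_zero, pow_zero, one_mul]; rfl
    | succ n ih =>
      intro z
      rw [pow_succ', Module.End.mul_apply]
      show hh0 _ ((show Coh.Γtop X from c) • (m ^ n) z) = _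
      rw [hh0_smul, ih z]
      show c * (c ^ n * (show Γ(X, ⊤) from hh0 (Coh.structureModule X) z)) = _
      rw [← mul_assoc, ← pow_succ']
  have h1 : (m ^ N) ((hh0 _).symm (one ⊤)) ∈ LinearMap.range (m ^ (N + (N + 1))) := by
    rw [hN _ (Nat.le_add_right _ _)]; exact LinearMap.mem_range_self _ _
  obtain ⟨w, hw⟩ := h1
  have h2 := congrArg (hh0 (Coh.structureModule X)) hw
  rw [hpow, hpow, AddEquiv.apply_symm_apply] at h2
  let d : Γ(X, (⊤ : X.Opens)) := (show Γ(X, ⊤) from hh0 (Coh.structureModule X) w)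
  have h2' : c ^ (N + (N + 1)) * d = c ^ N := h2.trans (mul_one (c ^ N : Γ(X, (⊤ : X.Opens))))
  have he : IsIdempotentElem (c ^ (N + 1) * d) := by
    show c ^ (N + 1) * d * (c ^ (N + 1) * d) = _
    calc c ^ (N + 1) * d * (c ^ (N + 1) * d) = c * d * (c ^ (N + (N + 1)) * d) := by ring
      _ = c ^ (N + 1) * d := by rw [h2']; ring
  rcases htop _ he with h | h
  · refine hc ((IsReduced.eq_zero c ⟨N, ?_⟩))
    rw [← h2', show c ^ (N + (N + 1)) * d = c ^ N * (c ^ (N + 1) * d) by ring, h, mul_zero]
  · exact hu (IsUnit.of_mul_eq_one (c ^ N * d) (by rw [← h]; ring))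

variable {k : Type u} [Field k] [X.Over (Spec (CommRingCat.of k))]

/-- A morphism with finitely supported kernel is injective on `H¹`. -/
theorem hmap_injective_of_epi (hX : CurveLike k X) {A B : X.Modules} (φ : A ⟶ B) [Epi φ] {S : Finset X}
    (hK : SuppIn (kernel φ) S) : Function.Injective (hmap k φ 1) := by
  have hT : (kerSC φ).ShortExact := kerSC_shortExact φ
  haveI := hK.subsingleton_HH 0
  refine (injective_iff_map_eq_zero _).mpr fun x hx => ?_
  have h1 : hmap k (Abelian.factorThruImage φ) 1 x = 0 := by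
    have h2 : hmap k (Abelian.factorThruImage φ ≫ Abelian.image.ι φ) 1 x = 0 := by rw [Abelian.image.fac]; exact hx
    rw [hmap_comp] at h2
    haveI : IsIso (Abelian.image.ι φ) := by
      haveI : Epi (Abelian.image.ι φ) := epi_of_epi_fac (Abelian.image.fac φ)
      exact isIso_of_mono_of_epi _
    exact (hequiv k (asIso (Abelian.image.ι φ)) 1).injective (h2.trans (map_zero _).symm)
  obtain ⟨y, hy⟩ := (exact_hmap_hmap k hT 1 x).1 h1
  rw [← hy, Subsingleton.elim y 0, map_zero]

/-- The set of components with given generic points. -/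
def span (S : Set X) : Set X := ⋃ η ∈ S, closure {η}

theorem isClosed_span {S : Set X} (hS : S.Finite) : IsClosed (span S) :=
  hS.isClosed_biUnion fun _ _ => isClosed_closure

theorem genClosed_span {S : Set X} (hS : S ⊆ genericPoints (X : Type u)) : GenClosed (span S) := by
  intro x hx
  obtain ⟨η, hη, hx⟩ := Set.mem_iUnion₂.mp hx
  exact ⟨η, hS hη, Set.mem_iUnion₂.mpr ⟨η, hη, subset_closure rfl⟩, specializes_iff_mem_closure.mpr hx⟩

theorem mem_span_iff {S : Set X} (hS : S ⊆ genericPoints (X : Type u)) {η : X}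
    (hη : η ∈ genericPoints (X : Type u)) : η ∈ span S ↔ η ∈ S := by
  refine ⟨fun h => ?_, fun h => Set.mem_iUnion₂.mpr ⟨η, h, subset_closure rfl⟩⟩
  obtain ⟨ξ, hξ, hx⟩ := Set.mem_iUnion₂.mp h
  rwa [← TFOne27.mem_genericPoints.mp hη ξ (specializes_iff_mem_closure.mpr hx)]

theorem hh0_secHom_smul {N : X.Modules} (z : Coh.HH X N 0) (a : k) :
    secHom (hh0 N (a • z)) = secHom ((show Γ(X, ⊤) from Coh.toGlobal (X ↘ Spec (CommRingCat.of k)) a) • hh0 N z) :=
  congrArg secHom (hh0_smul _ _)

/-- If every proper torsion-free quotient has vanishing `H¹` but `N` does not, then `χ(N) ≤ -χ(O)` and `X` is connected. -/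
theorem euler_le_of_minimal [AlgebraicGeometry.IsReduced X] [Nonempty X] (hX : CurveLike k X) {N : X.Modules}
    (hN : TFOne.IsTF1 X N) (h1 : Nontrivial (Coh.HH X N 1))
    (hmin : ∀ (T : Set X) (_ : IsClosed T), GenClosed T → T ≠ Set.univ → ∀ (G : X.Modules) (π : N ⟶ G),
      TFOne.IsQuotOn X N T G π → Subsingleton (Coh.HH X G 1)) :
    ConnectedSpace X ∧ Curv2.euler k X N ≤ -Curv2.euler k X (Coh.structureModule X) := by
  classical
  haveI := hX.noetherian
  haveI := hX.fin _ (CurveCoh17.isCoh_structureModule (X := X)) 0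
  haveI := hX.fin _ (CurveCoh17.isCoh_structureModule (X := X)) 1
  haveI := hX.fin N hN.1 1
  have hconn : ConnectedSpace X := by
    haveI : PreconnectedSpace X := by
      rw [preconnectedSpace_iff_clopen]
      by_contra hne
      push Not at hne
      obtain ⟨A, hA, hAe, hAu⟩ := hne
      have hgen : ∀ B : Set X, IsClopen B → GenClosed B := fun B hB x hx => by
        obtain ⟨g, hgx, hg⟩ := exists_maximal_generization x
        exact ⟨g, TFOne27.mem_genericPoints.mpr hg, hgx.mem_open hB.2 hx, hgx⟩
      obtain ⟨GA, pA, hGA⟩ := TFOne27.exists_isQuotOn hN A hA.1 (hgen A hA)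
      obtain ⟨GB, pB, hGB⟩ := TFOne27.exists_isQuotOn hN Aᶜ hA.compl.1 (hgen _ hA.compl)
      haveI := hmin A hA.1 (hgen A hA) hAu GA pA hGA
      haveI := hmin Aᶜ hA.compl.1 (hgen _ hA.compl) (fun h => hAe.ne_empty (Set.compl_univ_iff.mp h)) GB pB hGB
      haveI := hGA.1; haveI := hGB.1
      have hsA : ∀ x, x ∉ A → Subsingleton (GA.presheaf.stalk x) := fun x hx =>
        TFOne27.subsingleton_of_not_mem_support (F := GA) (hGA.2.2.2.symm ▸ hx)
      have hsB : ∀ x, x ∈ A → Subsingleton (GB.presheaf.stalk x) := fun x hx =>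
        TFOne27.subsingleton_of_not_mem_support (F := GB) (hGB.2.2.2.symm ▸ fun h => h hx)
      let φ := biprod.lift pA pB
      haveI : Mono φ := by
        have h0 : kernel.ι φ = 0 := TFOne27.hom_eq_zero hN.1 hN.2.1 _ fun η hη a => by
          refine (congrArg _ (eq_zero_stalk_kernel φ η ?_ a)).trans (map_zero _)
          refine (injective_iff_map_eq_zero _).mpr fun b hb => ?_
          by_cases hy : η ∈ A
          · refine TFOne27.injective_at_generic hN.2.2 pA hη (hGA.2.2.2.symm ▸ hy) (Eq.trans ?_ (map_zero _).symm)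
            have h2 : stalkLin (φ ≫ biprod.fst) η b = 0 := by
              rw [stalkLin_comp]; exact (congrArg _ hb).trans (map_zero _)
            rwa [biprod.lift_fst] at h2
          · refine TFOne27.injective_at_generic hN.2.2 pB hη (hGB.2.2.2.symm ▸ hy) (Eq.trans ?_ (map_zero _).symm)
            have h2 : stalkLin (φ ≫ biprod.snd) η b = 0 := by
              rw [stalkLin_comp]; exact (congrArg _ hb).trans (map_zero _)
            rwa [biprod.lift_snd] at h2
        exact Preadditive.mono_of_kernel_zero h0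
      haveI : Epi φ := by
        rw [epi_iff_stalk]
        intro x z
        have hz : ∀ w, stalkLin (biprod.fst : GA ⊞ GB ⟶ GA) x w = stalkLin (biprod.fst : GA ⊞ GB ⟶ GA) x z →
            stalkLin (biprod.snd : GA ⊞ GB ⟶ GB) x w = stalkLin (biprod.snd : GA ⊞ GB ⟶ GB) x z → w = z := by
          intro w hw1 hw2
          rw [← TFOne27.isIso_stalk_id (F := GA ⊞ GB) x w, ← TFOne27.isIso_stalk_id (F := GA ⊞ GB) x z,
            ← biprod.total, TFOne27.stalkLin_add, TFOne27.stalkLin_add, stalkLin_comp, stalkLin_comp, stalkLin_comp,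
            stalkLin_comp, hw1, hw2]
        by_cases hy : x ∈ A
        · obtain ⟨b, hb⟩ := TFOne27.surjective_stalkLin pA x (stalkLin (biprod.fst : GA ⊞ GB ⟶ GA) x z)
          haveI := hsB x hy
          exact ⟨b, hz _ (by show stalkLin biprod.fst x (stalkLin φ x b) = _; rw [← stalkLin_comp, biprod.lift_fst, hb]) (Subsingleton.elim _ _)⟩
        · obtain ⟨b, hb⟩ := TFOne27.surjective_stalkLin pB x (stalkLin (biprod.snd : GA ⊞ GB ⟶ GB) x z)
          haveI := hsA x hy
          exact ⟨b, hz _ (Subsingleton.elim _ _) (by show stalkLin biprod.snd x (stalkLin φ x b) = _; rw [← stalkLin_comp, biprod.lift_snd, hb])⟩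
      haveI := isIso_of_mono_of_epi φ
      have hP : ∀ w : Coh.HH X (GA ⊞ GB) 1, w = 0 := fun w => by
        rw [← hmap_id k (GA ⊞ GB) 1 w]
        show hmap₀ (𝟙 (GA ⊞ GB)) 1 w = 0
        rw [← biprod.total, hmap₀_add]
        show hmap k (biprod.fst ≫ biprod.inl) 1 w + hmap k (biprod.snd ≫ biprod.inr) 1 w = 0
        rw [hmap_comp, hmap_comp, Subsingleton.elim (hmap k biprod.fst 1 w) 0,
          Subsingleton.elim (hmap k biprod.snd 1 w) 0, map_zero, map_zero, add_zero]
      exact not_subsingleton (Coh.HH X N 1) ⟨fun a b =>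
        (hequiv k (asIso φ) 1).injective ((hP _).trans (hP _).symm)⟩
    exact ⟨inferInstance⟩
  haveI := hconn
  refine ⟨hconn, ?_⟩
  obtain ⟨η₁, hη₁⟩ := exists_ne (0 : Coh.HH X N 1)
  have hsurj : ∀ s : Γ(N, (⊤ : X.Opens)), s ≠ 0 → Function.Surjective (hmap k (secHom s) 1) := by
    intro s hs
    let A : Set X := {η | η ∈ genericPoints (X : Type u) ∧ ∀ a, stalkLin (secHom s) η a = 0}
    have hAsub : A ⊆ genericPoints (X : Type u) := fun η h => h.1
    have hAfin : A.Finite := (genericPoints.finite NoetherianSpace.finite_irreducibleComponents).subset hAsub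
    obtain ⟨G, π, hG⟩ := TFOne27.exists_isQuotOn hN (span A) (isClosed_span hAfin) (genClosed_span hAsub)
    have hne : span A ≠ Set.univ := fun h => hs <| by
      have h0 : secHom s = 0 := TFOne27.hom_eq_zero hN.1 hN.2.1 _ fun η hη a =>
        ((mem_span_iff hAsub hη).mp (h ▸ trivial)).2 a
      rw [← secHom_app_one s, h0]; rfl
    haveI := hmin _ (isClosed_span hAfin) (genClosed_span hAsub) hne G π hG
    obtain ⟨hep, hcG, htG, hsG⟩ := hG
    haveI := hep
    have hz : secHom s ≫ π = 0 := TFOne27.hom_eq_zero hcG htG _ fun η hη a => by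
      rw [stalkLin_comp]
      by_cases hy : η ∈ span A
      · rw [((mem_span_iff hAsub hη).mp hy).2 a, map_zero]
      · haveI := TFOne27.subsingleton_of_not_mem_support (F := G) (x := η) (hsG.symm ▸ hy)
        exact Subsingleton.elim _ _
    let π' : cokernel (secHom s) ⟶ G := cokernel.desc _ π hz
    haveI : Epi π' := by
      haveI : Epi (cokernel.π (secHom s) ≫ π') := by rw [cokernel.π_desc]; exact hep
      exact epi_of_epi (cokernel.π (secHom s)) π'
    have hC : Coh.IsCoh (cokernel (secHom s)) :=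
      M1.isCoh_cokernel (CurveCoh17.isCoh_structureModule (X := X)).1 hN.1 (secHom s)
    have hK := CurveCoh17.isCoh_kernel hC hcG.1 π'
    obtain ⟨S, hS⟩ := exists_suppIn_of_maximal hX.dim hK fun g hg => by
      have hη := TFOne27.mem_genericPoints.mpr hg
      refine eq_zero_stalk_kernel π' g ((injective_iff_map_eq_zero _).mpr fun b hb => ?_)
      obtain ⟨b', rfl⟩ := TFOne27.surjective_stalkLin (cokernel.π (secHom s)) g b
      rw [← stalkLin_comp, cokernel.π_desc] at hb
      by_cases hy : g ∈ A
      · rw [TFOne27.injective_at_generic hN.2.2 π hη (hsG.symm ▸ (mem_span_iff hAsub hη).mpr hy)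
          (hb.trans (map_zero _).symm), map_zero]
      · obtain ⟨e⟩ := hN.2.2 g hη
        letI := (TFOne27.isField_stalk hη).toField
        obtain ⟨a, ha⟩ := not_forall.mp fun h => hy ⟨hη, h⟩
        have hd : e (stalkLin (secHom s) g a) ≠ 0 := fun h => ha (e.injective (h.trans (map_zero _).symm))
        have hb' : b' = (e b' / e (stalkLin (secHom s) g a)) • stalkLin (secHom s) g a :=
          e.injective (by rw [map_smul, smul_eq_mul, div_mul_cancel₀ _ hd])
        rw [hb', ← map_smul, ← stalkLin_comp, cokernel.condition, TFOne27.stalkLin_zero]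
    have hinj := hmap_injective_of_epi hX π' hS
    haveI : Subsingleton (Coh.HH X (cokernel (secHom s)) 1) := hinj.subsingleton
    intro x
    have hT := cokerSC_shortExact (secHom s)
    obtain ⟨y, hy⟩ := (exact_hmap_hmap k hT 1 x).1 (Subsingleton.elim (α := Coh.HH X (cokernel (secHom s)) 1) _ _)
    have hT' := kerSC_shortExact (secHom s)
    haveI := hX.separated
    haveI : Subsingleton (Coh.HH X (kerSC (secHom s)).X₁ (1 + 1)) := subsingleton_HH_of_dim hX.dim
      (kernel (secHom s))
      (CurveCoh17.isCoh_kernel (CurveCoh17.isCoh_structureModule (X := X)) hN.1.1 (secHom s)).1 0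
    obtain ⟨z, hz'⟩ := (exact_hmap_hdelta k hT' 1 y).1 (Subsingleton.elim _ _)
    refine ⟨z, ?_⟩
    rw [← hy, ← hz', ← hmap_comp]
    exact congrArg (fun φ => hmap k φ 1 z) (Abelian.image.fac (secHom s)).symm
  haveI : Module.Free k (Coh.HH X N 1) := Module.Free.of_divisionRing k _
  haveI : Module.Projective k (Coh.HH X N 1) := Module.Projective.of_free
  obtain ⟨μ, hμ⟩ := Module.Projective.exists_dual_ne_zero k hη₁
  let Φ : Coh.HH X N 0 →ₗ[k] Module.Dual k (Coh.HH X (Coh.structureModule X) 1) :=
    (LinearMap.compRight k μ).comp (cupH1 k N)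
  have hΦ : Function.Injective Φ := by
    rw [injective_iff_map_eq_zero]
    intro z hz
    by_contra hne
    obtain ⟨x, hx⟩ := hsurj _ (hh0_ne_zero hne) η₁
    exact hμ (by rw [← hx]; exact LinearMap.congr_fun hz x)
  have ha : Module.finrank k (Coh.HH X N 0) ≤ Module.finrank k (Coh.HH X (Coh.structureModule X) 1) :=
    (LinearMap.finrank_le_finrank_of_injective hΦ).trans Subspace.dual_finrank_eq.le
  let Ψ : Coh.HH X (Coh.structureModule X) 0 →ₗ[k] Coh.HH X N 1 :=
    { toFun := fun z => (show Coh.Γtop X from hh0 (Coh.structureModule X) z) • η₁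
      map_add' := fun z w => by rw [← add_smul, map_add]
      map_smul' := fun a z => by
        show (show Coh.Γtop X from hh0 (Coh.structureModule X) (Coh.toGlobal (X ↘ Spec (CommRingCat.of k)) a • z)) • η₁ =
          Coh.toGlobal (X ↘ Spec (CommRingCat.of k)) a • (show Coh.Γtop X from hh0 (Coh.structureModule X) z) • η₁
        rw [hh0_smul, ← mul_smul]
        rfl }
  have hΨ : Function.Injective Ψ := by
    rw [injective_iff_map_eq_zero]
    intro z hz
    by_contra hne
    have hu := isUnit_of_ne_zero (k := k) inferInstance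
      (hh0 (Coh.structureModule X) z : Γ(X, ⊤)) (hh0_ne_zero hne)
    exact hη₁ ((hu.map (RingHom.id (Coh.Γtop X))).smul_eq_zero.mp hz)
  have hb := LinearMap.finrank_le_finrank_of_injective hΨ
  rw [(hX.adm hN.1).euler_eq, (hX.adm (CurveCoh17.isCoh_structureModule (X := X))).euler_eq]
  omega

end Groth.Agent.CurveH1Min27
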