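import Groth.Agent.Lib.CurveH1Min27.Subcurve
import Groth.Agent.Lib.NumPoly18.Apps

/-!
# Degree bound from nonvanishing `H¹`
-/

set_option autoImplicit false
set_option linter.style.haveILetI false
set_option backward.isDefEq.respectTransparency false

universe u

open CategoryTheory CategoryTheory.Limits AlgebraicGeometry TopologicalSpace Opposite TensorProduct

namespace Groth.Agent.CurveH1Min27

open Groth.Agent.M1 Groth.Agent.CurveCoh17
open TFOne27 (GenClosed)

variable {X : Scheme.{u}}

/-- The stalk of a twist by an invertible module. -/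
theorem nonempty_twEquiv (M : X.Modules) {L : X.Modules} (hL : PicF.IsInvertible L) (x : X) :
    Nonempty ((CohB1.tensorMod M L).presheaf.stalk x ≃ₗ[X.presheaf.stalk x] M.presheaf.stalk x) := by
  obtain ⟨e⟩ := CurveCoh17.nonempty_stalk_equiv ((M2.isInvertible_iff_isFinLocFreeOfRank_one L).1 hL) x
  exact ⟨(M2.stalkEquiv M L x) ≪≫ₗ
    (TensorProduct.congr (LinearEquiv.refl _ _) (e ≪≫ₗ LinearEquiv.funUnique (Fin 1) _ _)) ≪≫ₗ
      TensorProduct.rid _ _⟩

theorem isTorsionFree_tw {M L : X.Modules} (hL : PicF.IsInvertible L) (hM : TorSh.IsTorsionFree M) :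
    TorSh.IsTorsionFree (CohB1.tensorMod M L) := fun x => by
  obtain ⟨e⟩ := nonempty_twEquiv M hL x
  haveI := hM x
  exact Function.Injective.moduleIsTorsionFree e e.injective (map_smul e)

theorem support_tw (M : X.Modules) {L : X.Modules} (hL : PicF.IsInvertible L) :
    CohB1.support (CohB1.tensorMod M L) = CohB1.support M := Set.ext fun x => by
  obtain ⟨e⟩ := nonempty_twEquiv M hL x
  exact not_congr e.toEquiv.subsingleton_congr

theorem surjective_stalk_idealModι (I : X.IdealSheafData) {x : X} (hx : x ∉ (I.support : Set X)) :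
    Function.Surjective (stalkLin (ClSub.idealModι I) x) := fun a => by
  refine (exact_iff_stalk_eq_zero _).1 (M2.shortExact_idealMod (I := I)).exact x a
    (eq_zero_stalk_push I.subschemeι _ ?_ _)
  rwa [Scheme.IdealSheafData.range_subschemeι]

/-- A map out of the structure module killing the sections of an ideal on affines kills the ideal module. -/
theorem idealModι_comp_eq_zero (K : X.IdealSheafData) {M : X.Modules} (f : Coh.structureModule X ⟶ M)
    (h : ∀ (U : X.affineOpens) (a : Γ(X, U.1)), a ∈ K.ideal U → f.app U.1 a = 0) :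
    ClSub.idealModι K ≫ f = 0 := by
  refine Scheme.Modules.hom_ext _ _ fun U => ?_
  ext s
  refine M1.section_ext _ _ fun x hx => ?_
  obtain ⟨W, hW, hxW, hWU⟩ := exists_isAffineOpen_mem_and_subset hx
  have e0 : (ClSub.idealModι K ≫ f).app W (M1.mres (ClSub.idealMod K) hWU s) = 0 :=
    h ⟨W, hW⟩ _ ((M2.range_idealIncl K ⟨W, hW⟩).le ⟨_, rfl⟩)
  rw [M1.app_mres] at e0
  rw [← germ_mres M hWU hxW, e0, map_zero]
  exact (map_zero _).symm

variable {k : Type u} [Field k] [X.Over (Spec (CommRingCat.of k))] [IsProper (X ↘ Spec (CommRingCat.of k))]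

variable (k) in
include k in
theorem generic_not_mem [ConnectedSpace X] (hd : topologicalKrullDim X = 1) {C : Set X} (hC : IsClosed C)
    (hC0 : topologicalKrullDim C ≤ 0) {η : X} (hη : η ∈ genericPoints (X : Type u)) : η ∉ C := by
  haveI := CohFound.isNoetherian_of_isProper (X ↘ Spec (CommRingCat.of k))
  intro hηC
  have hcl : closure ({η} : Set X) = {η} := by
    refine subset_antisymm (fun z hz => ?_) subset_closure
    by_contra hne
    have hsp : η ⤳ z := specializes_iff_mem_closure.mpr hz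
    have h1 := one_le_dim_of_specializes (a := (⟨η, hηC⟩ : C)) (b := ⟨z, hsp.mem_closed hC hηC⟩)
      (Topology.IsInducing.subtypeVal.specializes_iff.mp hsp) fun e => hne (congrArg Subtype.val e)
    exact absurd (h1.trans hC0) (by decide)
  have hop : IsOpen ({η} : Set X) := by
    let S : Set (Set X) := {D | D ∈ irreducibleComponents (X : Type u) ∧ η ∉ D}
    have : ({η} : Set X) = (⋃₀ S)ᶜ := by
      ext z
      refine ⟨?_, fun hz => ?_⟩
      · rintro rfl ⟨D, ⟨-, hD⟩, hzD⟩
        exact hD hzD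
      · by_contra hne
        obtain ⟨g, hgz, hg⟩ := exists_maximal_generization z
        refine hz ⟨closure {g}, ⟨TFOne27.mem_genericPoints.mpr hg, fun hη' => hne ?_⟩, specializes_iff_mem_closure.mp hgz⟩
        have hge : g = η := TFOne27.mem_genericPoints.mp hη g (specializes_iff_mem_closure.mpr hη')
        exact hcl ▸ specializes_iff_mem_closure.mp (hge ▸ hgz)
    rw [this]
    exact (TFOne27.isClosed_sUnion S fun D hD => hD.1).isOpen_compl
  rcases isClopen_iff.mp ⟨hcl ▸ isClosed_closure, hop⟩ with h | h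
  · exact Set.singleton_ne_empty η h
  · haveI : Subsingleton X := ⟨fun a b => (h.ge (Set.mem_univ a)).trans (h.ge (Set.mem_univ b)).symm⟩
    have h0 := topologicalKrullDim_zero_of_discreteTopology X
    rw [hd] at h0
    exact absurd h0 (by decide)

/-- An epimorphism from a finitely supported module is surjective on global sections. -/
theorem finrank_h0_le_of_epi (hX : CurveLike k X) {A B : X.Modules} (w : A ⟶ B) [Epi w] (hA : Coh.IsCoh A)
    (hB : Coh.IsCoh B) (h : ∀ g ∈ genericPoints (X : Type u), Subsingleton (A.presheaf.stalk g)) :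
    Module.finrank k (Coh.HH X B 0) ≤ Module.finrank k (Coh.HH X A 0) := by
  haveI := hX.noetherian
  obtain ⟨S, hS⟩ := exists_suppIn_of_maximal hX.dim (CurveCoh17.isCoh_kernel hA hB.1 w) fun g hg => by
    refine eq_zero_stalk_kernel w g fun a b _ => ?_
    haveI := h g (TFOne27.mem_genericPoints.mpr hg)
    exact Subsingleton.elim _ _
  haveI := hX.fin _ hA 0
  refine LinearMap.finrank_le_finrank_of_surjective (f := hmap k w 0) fun x => ?_
  let T' : ShortComplex X.Modules := ShortComplex.mk (kernel.ι w) w (kernel.condition w)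
  have hT' : T'.ShortExact :=
    { exact := ShortComplex.exact_of_f_is_kernel _ (kernelIsKernel w), epi_g := inferInstance }
  haveI : Subsingleton (Coh.HH X T'.X₁ (0 + 1)) := hS.subsingleton_HH 0
  exact (exact_hmap_hdelta k hT' 0 x).1 (Subsingleton.elim _ _)

/-- The cokernel of `I_Z → O_J` is a quotient of `O/(Z + J)`. -/
theorem exists_epi_sup (Z J : X.IdealSheafData) :
    ∃ w : ClSub.quotMod (Z ⊔ J) ⟶ cokernel (ClSub.idealModι Z ≫ ClSub.toSubscheme J), Epi w := by
  let q := ClSub.toSubscheme J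
  let ρ := ClSub.idealModι Z ≫ q
  let Q := Z ⊔ J
  have hkill : ClSub.idealModι Q ≫ (q ≫ cokernel.π ρ) = 0 := by
    refine idealModι_comp_eq_zero Q _ fun U a ha => ?_
    rw [Scheme.IdealSheafData.ideal_sup] at ha
    obtain ⟨z, hz, j, hj, rfl⟩ := Submodule.mem_sup.mp ha
    obtain ⟨z', hz'⟩ := (M2.range_idealIncl Z U).ge hz
    obtain ⟨j', hj'⟩ := (M2.range_idealIncl J U).ge hj
    have ez : (q ≫ cokernel.π ρ).app U.1 z = 0 := by
      rw [← hz']
      exact congrArg (fun φ => φ.app U.1 z') ((Category.assoc _ _ _).symm.trans (cokernel.condition ρ))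
    have ej : (q ≫ cokernel.π ρ).app U.1 j = 0 := by
      rw [← hj']
      refine congrArg (fun φ => φ.app U.1 j') (?_ : ClSub.idealModι J ≫ q ≫ cokernel.π ρ = 0)
      rw [← Category.assoc, show ClSub.idealModι J ≫ q = 0 from kernel.condition _, zero_comp]
    rw [map_add, ez, ej, add_zero]
  haveI := (M2.shortExact_idealMod Q).epi_g
  obtain ⟨w, hw⟩ := CokernelCofork.IsColimit.desc' (M2.shortExact_idealMod Q).exact.gIsCokernel _ hkill
  let w' : ClSub.quotMod Q ⟶ cokernel ρ := w
  haveI : Epi w' := by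
    haveI : Epi (ClSub.toSubscheme Q ≫ w') := by
      rw [show ClSub.toSubscheme Q ≫ w' = q ≫ cokernel.π ρ from hw]
      haveI : Epi q := M2.epi_toSubscheme J
      infer_instance
    exact epi_of_epi (ClSub.toSubscheme Q) w'
  exact ⟨w', inferInstance⟩

/-- Additivity after twisting. -/
theorem euler_tensor_ses (hX : CurveLike k X) {A B C : X.Modules} {f : A ⟶ B} {g : B ⟶ C} {w : f ≫ g = 0}
    (hS : (ShortComplex.mk f g w).ShortExact) {L : X.Modules} (hL : Coh.IsCoh L)
    (hflat : ∀ x : X, Module.Flat (X.presheaf.stalk x) (L.presheaf.stalk x)) (hA : Coh.IsCoh A) (hC : Coh.IsCoh C) :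
    Curv2.euler k X (CohB1.tensorMod B L) =
      Curv2.euler k X (CohB1.tensorMod A L) + Curv2.euler k X (CohB1.tensorMod C L) := by
  have hT := shortExact_tensorR hS L hflat
  have ho : ∀ M : X.Modules, (M2.tensorR L).obj M = CohB1.tensorMod M L := fun _ => rfl
  have a₁ : Adm k ((M2.tensorR L).obj A) := hX.adm (CurveCoh17.isCoh_tensor hA hL)
  have a₃ : Adm k ((M2.tensorR L).obj C) := hX.adm (CurveCoh17.isCoh_tensor hC hL)
  have e2 := euler_add (k := k) (S := (ShortComplex.mk f g w).map (M2.tensorR L)) hT a₁ a₃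
  simp only [ShortComplex.map_X₁, ShortComplex.map_X₂, ShortComplex.map_X₃, ho] at e2
  exact e2

variable (k) in
include k in
theorem isTF1_twist [AlgebraicGeometry.IsReduced X] (hd : topologicalKrullDim X ≤ 1) {L : X.Modules}
    (hL : PicF.IsInvertible L) (Z : X.IdealSheafData)
    (hgenZ : ∀ η ∈ genericPoints (X : Type u), η ∉ (Z.support : Set X)) :
    TFOne.IsTF1 X (CohB1.tensorMod (ClSub.idealMod Z) L) := by
  have hX := CurveAmple18.curveLike k X hd
  haveI := hX.noetherian
  have h1L := (M2.isInvertible_iff_isFinLocFreeOfRank_one L).1 hL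
  have hLc := CurveCoh17.isCoh_of_ofRank h1L
  have hIc : Coh.IsCoh (ClSub.idealMod Z) :=
    CurveCoh17.isCoh_kernel CurveCoh17.isCoh_structureModule (M1.isQCoh_push _ (M1.isQCoh_structureModule _)) _
  haveI : Mono (ClSub.idealModι Z) := inferInstanceAs (Mono (kernel.ι (ClSub.toSubscheme Z)))
  have hIt : TorSh.IsTorsionFree (ClSub.idealMod Z) :=
    TFOne27.tf_of_mono (ClSub.idealModι Z) TFOne27.isTF1_structureModule.2.1
  have hbij : ∀ η ∈ genericPoints (X : Type u), Function.Bijective (stalkLin (ClSub.idealModι Z) η) :=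
    fun η hη => ⟨(mono_iff_stalk _).1 inferInstance η, surjective_stalk_idealModι Z (hgenZ η hη)⟩
  refine ⟨CurveCoh17.isCoh_tensor hIc hLc, isTorsionFree_tw hL hIt, fun η hη => ?_⟩
  obtain ⟨e⟩ := nonempty_twEquiv (ClSub.idealMod Z) hL η
  obtain ⟨e'⟩ := TFOne27.isTF1_structureModule.2.2 η hη
  exact ⟨e ≪≫ₗ LinearEquiv.ofBijective _ (hbij η hη) ≪≫ₗ e'⟩

set_option maxHeartbeats 1600000 in
/-- The degree on a subcurve against the quotient of `I_Z ⊗ L` there. -/
theorem delta_le [AlgebraicGeometry.IsReduced X] (hd : topologicalKrullDim X ≤ 1) {L : X.Modules}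
    (hL : PicF.IsInvertible L) (Z : X.IdealSheafData)
    (hgenZ : ∀ η ∈ genericPoints (X : Type u), η ∉ (Z.support : Set X)) {T : Set X} (hT : IsClosed T)
    (hTg : GenClosed T) {G : X.Modules} {π : CohB1.tensorMod (ClSub.idealMod Z) L ⟶ G}
    (hG : TFOne.IsQuotOn X (CohB1.tensorMod (ClSub.idealMod Z) L) T G π) :
    TFOne27.delta k L 1 (TFOne27.OT T hT) + Curv2.euler k X (TFOne27.OT T hT) ≤ Curv2.euler k X G +
        Module.finrank k (Coh.HH X (ClSub.quotMod (Z ⊔ Scheme.IdealSheafData.vanishingIdeal ⟨T, hT⟩)) 0) := by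
  have hX := CurveAmple18.curveLike k X hd
  haveI := hX.noetherian
  have h1L := (M2.isInvertible_iff_isFinLocFreeOfRank_one L).1 hL
  have hLc := CurveCoh17.isCoh_of_ofRank h1L
  have hIc : Coh.IsCoh (ClSub.idealMod Z) :=
    CurveCoh17.isCoh_kernel CurveCoh17.isCoh_structureModule (M1.isQCoh_push _ (M1.isQCoh_structureModule _)) _
  haveI : Mono (ClSub.idealModι Z) := inferInstanceAs (Mono (kernel.ι (ClSub.toSubscheme Z)))
  have hIt : TorSh.IsTorsionFree (ClSub.idealMod Z) :=
    TFOne27.tf_of_mono (ClSub.idealModι Z) TFOne27.isTF1_structureModule.2.1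
  have hbij : ∀ η ∈ genericPoints (X : Type u), Function.Bijective (stalkLin (ClSub.idealModι Z) η) :=
    fun η hη => ⟨(mono_iff_stalk _).1 inferInstance η, surjective_stalk_idealModι Z (hgenZ η hη)⟩
  have hF := (isTF1_twist k hd hL Z hgenZ).2.2
  obtain ⟨heG, hcG, htG, hsG⟩ := hG
  haveI := heG
  let J := Scheme.IdealSheafData.vanishingIdeal (⟨T, hT⟩ : Closeds X)
  let q : Coh.structureModule X ⟶ TFOne27.OT T hT := ClSub.toSubscheme J
  let ρ := ClSub.idealModι Z ≫ q
  have hOc := TFOne27.isCoh_OT (X := X) T hT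
  have hOt : TorSh.IsTorsionFree (TFOne27.OT T hT) :=
    TFOne27.isTorsionFree_push T hT hTg TFOne27.isTF1_structureModule.1 TFOne27.isTF1_structureModule.2.1
  have hflat : ∀ x : X, Module.Flat (X.presheaf.stalk x) (L.presheaf.stalk x) := fun x =>
    Module.Flat.of_linearEquiv (CurveCoh17.nonempty_stalk_equiv h1L x).some
  have hT2 := shortExact_tensorR (cokerSC_shortExact ρ) L hflat
  have hT1 := shortExact_tensorR (kerSC_shortExact ρ) L hflat
  haveI := hT2.mono_f
  let Im := CohB1.tensorMod (Abelian.image ρ) L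
  let q' : CohB1.tensorMod (ClSub.idealMod Z) L ⟶ Im := ((kerSC ρ).map (M2.tensorR L)).g
  haveI : Epi q' := hT1.epi_g
  have hC0c : Coh.IsCoh (cokernel ρ) := M1.isCoh_cokernel hIc.1 hOc ρ
  have hImc0 : Coh.IsCoh (Abelian.image ρ) := CurveCoh17.isCoh_kernel hOc hC0c.1 _
  have hImc : Coh.IsCoh Im := CurveCoh17.isCoh_tensor hImc0 hLc
  have hImt : TorSh.IsTorsionFree Im :=
    isTorsionFree_tw hL (TFOne27.tf_of_mono (Abelian.image.ι ρ) hOt)
  have hρsurj : ∀ η ∈ genericPoints (X : Type u), Function.Surjective (stalkLin ρ η) := fun η hη b => by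
    haveI := M2.epi_toSubscheme J
    obtain ⟨a, rfl⟩ := TFOne27.surjective_stalkLin q η b
    obtain ⟨a', rfl⟩ := (hbij η hη).2 a
    exact ⟨a', stalkLin_comp _ _ η a'⟩
  obtain ⟨e, -⟩ := TFOne27.nonempty_iso_of_quot hF π q' hcG htG hImc hImt fun η hη => by
    rw [hsG, support_tw _ hL]
    refine ⟨fun hηT => ?_, fun h => ?_⟩
    · obtain ⟨b, hb⟩ := TFOne27.exists_ne_of_mem_support
        ((TFOne27.support_OT T hT).ge hηT : η ∈ CohB1.support (TFOne27.OT T hT))
      obtain ⟨a, rfl⟩ := hρsurj η hη b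
      intro hs
      haveI : Subsingleton ((Abelian.image ρ).presheaf.stalk η) := hs
      refine hb ?_
      rw [← Abelian.image.fac ρ, stalkLin_comp,
        Subsingleton.elim (stalkLin (Abelian.factorThruImage ρ) η a) 0, map_zero]
    · by_contra hn
      haveI := TFOne27.subsingleton_of_not_mem_support (F := TFOne27.OT T hT) (x := η)
        ((TFOne27.support_OT T hT).symm ▸ hn)
      haveI : Subsingleton ((stalkAb η).obj (TFOne27.OT T hT)) :=
        TFOne27.subsingleton_of_not_mem_support (F := TFOne27.OT T hT) (x := η) ((TFOne27.support_OT T hT).symm ▸ hn)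
      exact h ((mono_iff_stalk (Abelian.image.ι ρ)).1 inferInstance η).subsingleton
  have aC0 : ∃ S : Finset X, SuppIn (cokernel ρ) S := exists_suppIn_of_maximal hd hC0c fun g hg =>
    eq_zero_stalk_cokernel ρ g (hρsurj g (TFOne27.mem_genericPoints.mpr hg))
  obtain ⟨S, hS⟩ := aC0
  have hfin := hX.fin _ hC0c 0
  have eS := CurveCoh17.nonempty_stalk_equiv h1L
  have hT2' : Curv2.euler k X (CohB1.tensorMod (TFOne27.OT T hT) L) =
      Curv2.euler k X Im + Curv2.euler k X (CohB1.tensorMod (cokernel ρ) L) :=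
    euler_tensor_ses (f := Abelian.image.ι ρ) (g := cokernel.π ρ) hX (cokerSC_shortExact ρ) hLc hflat hImc0 hC0c
  have hC1 : Curv2.euler k X (CohB1.tensorMod (cokernel ρ) L) = (Module.finrank k (Coh.HH X (cokernel ρ) 0) : ℤ) := by
    rw [(hS.tensor L).euler_eq (hS.finite_tensor hfin L eS), hS.finrank_tensor hfin L eS, one_mul]
  obtain ⟨w, hw⟩ := exists_epi_sup Z J
  haveI := hw
  have hQ1 := finrank_h0_le_of_epi (k := k) hX w
    (ProperFormalH7.isCoh_pushforward_of_isProper _ CurveCoh17.isCoh_structureModule) hC0c fun g hg =>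
      TFOne27.subsingleton_of_not_mem_support (F := ClSub.quotMod (Z ⊔ J)) (x := g) fun h =>
        hgenZ g hg (Scheme.IdealSheafData.support_antitone (le_sup_left : Z ≤ Z ⊔ J)
          (NumPoly18.support_quotMod_subset _ h))
  rw [euler_iso e]
  rw [TFOne27.delta]
  push_cast
  have hQ2 : (Module.finrank k (Coh.HH X (cokernel ρ) 0) : ℤ) ≤ Module.finrank k (Coh.HH X (ClSub.quotMod (Z ⊔ J)) 0) := by
    exact_mod_cast hQ1
  linarith

set_option maxHeartbeats 1600000 in
theorem exists_degree_bound [AlgebraicGeometry.IsReduced X] [ConnectedSpace X] (hd : topologicalKrullDim X = 1)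
    {L : X.Modules} (hL : PicF.IsInvertible L) (Z : X.IdealSheafData)
    (hZ : topologicalKrullDim (Z.support : Set X) ≤ 0)
    (h1 : Nontrivial (Coh.HH X (CohB1.tensorMod (ClSub.idealMod Z) L) 1)) :
    ∃ (T : Set X) (hT : IsClosed T), GenClosed T ∧ ConnectedSpace (VecSt.subsch X T hT) ∧
      topologicalKrullDim (VecSt.subsch X T hT) = 1 ∧
      TFOne27.delta k L 1 (TFOne27.OT T hT) ≤ -2 * Curv2.euler k X (TFOne27.OT T hT) +
        Module.finrank k (Coh.HH X (ClSub.quotMod (Z ⊔ Scheme.IdealSheafData.vanishingIdeal ⟨T, hT⟩)) 0) := by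
  have hX := CurveAmple18.curveLike k X hd.le
  haveI := hX.noetherian
  have hgenZ : ∀ η ∈ genericPoints (X : Type u), η ∉ (Z.support : Set X) := fun η hη =>
    generic_not_mem k hd Z.support.isClosed hZ hη
  have hF := isTF1_twist k hd.le hL Z hgenZ
  obtain ⟨T, hT, G, π, hTg, hG, hconn, hdimT, hle⟩ := exists_subcurve (k := k) hd.le hF h1
  refine ⟨T, hT, hTg, hconn, hdimT, ?_⟩
  have := delta_le (k := k) hd.le hL Z hgenZ hT hTg hG
  linarith

end Groth.Agent.CurveH1Min27
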