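import Groth.Agent.Lib.CurveH1Min27.Apps

/-!
# A subcurve and its complement
-/

set_option autoImplicit false
set_option linter.style.haveILetI false
set_option backward.isDefEq.respectTransparency false

universe u

open CategoryTheory CategoryTheory.Limits AlgebraicGeometry TopologicalSpace Opposite

namespace Groth.Agent.CurveH1Min27

open Groth.Agent.M1 Groth.Agent.CurveCoh17
open TFOne27 (GenClosed)

variable {X : Scheme.{u}}

/-- The reduced ideal of a closed subset. -/
noncomputable abbrev vI (T : Set X) (hT : IsClosed T) : X.IdealSheafData :=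
  Scheme.IdealSheafData.vanishingIdeal ⟨T, hT⟩

/-- `T'` is the union of the components not in `T`. -/
def IsComplSub (T T' : Set X) : Prop :=
  GenClosed T ∧ GenClosed T' ∧ ∀ η ∈ genericPoints (X : Type u), (η ∈ T' ↔ η ∉ T)

theorem IsComplSub.symm {T T' : Set X} (h : IsComplSub T T') : IsComplSub T' T :=
  ⟨h.2.1, h.1, fun η hη => by rw [h.2.2 η hη, not_not]⟩

variable [AlgebraicGeometry.IsReduced X] [IsLocallyNoetherian X]

theorem stalk_idealModι_eq_zero_of_mem {T : Set X} (hT : IsClosed T) {η : X} (hη : η ∈ genericPoints (X : Type u))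
    (hηT : η ∈ T) (a : (ClSub.idealMod (vI T hT)).presheaf.stalk η) :
    stalkLin (ClSub.idealModι (vI T hT)) η a = 0 := by
  let q : Coh.structureModule X ⟶ TFOne27.OT T hT := ClSub.toSubscheme (vI T hT)
  haveI : Epi q := M2.epi_toSubscheme _
  refine TFOne27.injective_at_generic TFOne27.isTF1_structureModule.2.2 q hη ((TFOne27.support_OT _ _).ge hηT) ?_
  rw [← stalkLin_comp, show ClSub.idealModι (vI T hT) ≫ q = 0 from kernel.condition _, TFOne27.stalkLin_zero,
    map_zero]

theorem surjective_stalk_idealModι_of_not_mem {T : Set X} (hT : IsClosed T) {η : X} (hηT : η ∉ T) :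
    Function.Surjective (stalkLin (ClSub.idealModι (vI T hT)) η) := by
  refine surjective_stalk_idealModι _ ?_
  rw [Scheme.IdealSheafData.coe_support_vanishingIdeal]
  exact hηT

theorem isCoh_idealMod (J : X.IdealSheafData) [IsNoetherian X] : Coh.IsCoh (ClSub.idealMod J) :=
  CurveCoh17.isCoh_kernel CurveCoh17.isCoh_structureModule (M1.isQCoh_push _ (M1.isQCoh_structureModule _)) _

theorem mono_idealModι (J : X.IdealSheafData) : Mono (ClSub.idealModι J) :=
  inferInstanceAs (Mono (kernel.ι (ClSub.toSubscheme J)))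

/-- The ideal of the complement maps to `O_T`. -/
noncomputable abbrev rho {T T' : Set X} (hT : IsClosed T) (hT' : IsClosed T') :
    ClSub.idealMod (vI T' hT') ⟶ TFOne27.OT T hT :=
  ClSub.idealModι (vI T' hT') ≫ ClSub.toSubscheme (vI T hT)

theorem mono_rho [IsNoetherian X] {T T' : Set X} (hT : IsClosed T) (hT' : IsClosed T') (h : IsComplSub T T') :
    Mono (rho hT hT') := by
  haveI := mono_idealModι (vI T' hT')
  refine Preadditive.mono_of_kernel_zero ?_
  refine TFOne27.hom_eq_zero (isCoh_idealMod _)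
    (TFOne27.tf_of_mono (ClSub.idealModι (vI T' hT')) TFOne27.isTF1_structureModule.2.1) _ fun η hη a => ?_
  have ha : stalkLin (rho hT hT') η (stalkLin (kernel.ι (rho hT hT')) η a) = 0 := by
    rw [← stalkLin_comp, kernel.condition, TFOne27.stalkLin_zero]
  refine (M1.mono_iff_stalk (ClSub.idealModι (vI T' hT'))).1 inferInstance η (Eq.trans ?_ (map_zero _).symm)
  by_cases hηT : η ∈ T
  · haveI := M2.epi_toSubscheme (vI T hT)
    rw [stalkLin_comp] at ha
    exact TFOne27.injective_at_generic TFOne27.isTF1_structureModule.2.2 (ClSub.toSubscheme (vI T hT)) hη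
      ((TFOne27.support_OT (X := X) T hT).ge hηT) (ha.trans (map_zero _).symm)
  · exact stalk_idealModι_eq_zero_of_mem hT' hη ((h.2.2 η hη).2 hηT) _

variable {k : Type u} [Field k] [X.Over (Spec (CommRingCat.of k))] [IsProper (X ↘ Spec (CommRingCat.of k))]

variable (k) in
/-- The length of the scheme theoretic intersection of two subcurves. -/
noncomputable def meet (T T' : Set X) (hT : IsClosed T) (hT' : IsClosed T') : ℕ :=
  Module.finrank k (Coh.HH X (ClSub.quotMod (vI T hT ⊔ vI T' hT')) 0)

omit [AlgebraicGeometry.IsReduced X] [IsLocallyNoetherian X] [IsProper (X ↘ Spec (CommRingCat.of k))] in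
theorem meet_comm (T T' : Set X) (hT : IsClosed T) (hT' : IsClosed T') :
    meet k T T' hT hT' = meet k T' T hT' hT := by
  rw [meet, meet, sup_comm]

omit [AlgebraicGeometry.IsReduced X] [IsLocallyNoetherian X] in
theorem euler_add' (hX : CurveLike k X) {A B C : X.Modules} {f : A ⟶ B} {g : B ⟶ C} {w : f ≫ g = 0}
    (hS : (ShortComplex.mk f g w).ShortExact) (hA : Coh.IsCoh A) (hC : Coh.IsCoh C) :
    Curv2.euler k X B = Curv2.euler k X A + Curv2.euler k X C :=
  by
  have a1 : Adm k A := hX.adm hA
  have a3 : Adm k C := hX.adm hC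
  have := CurveCoh17.euler_add (k := k) (S := ShortComplex.mk f g w) hS a1 a3
  exact this

theorem euler_compl (hd : topologicalKrullDim X ≤ 1) {T T' : Set X} (hT : IsClosed T) (hT' : IsClosed T')
    (h : IsComplSub T T') :
    Curv2.euler k X (TFOne27.OT T hT) = Curv2.euler k X (ClSub.idealMod (vI T' hT')) + meet k T T' hT hT' ∧
      Curv2.euler k X (Coh.structureModule X) =
        Curv2.euler k X (TFOne27.OT T hT) + Curv2.euler k X (TFOne27.OT T' hT') - meet k T T' hT hT' ∧
      ∀ L : X.Modules, PicF.IsInvertible L →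
        Curv2.euler k X (CohB1.tensorMod (ClSub.idealMod (vI T' hT')) L) =
          Curv2.euler k X (ClSub.idealMod (vI T' hT')) + TFOne27.delta k L 1 (TFOne27.OT T hT) ∧
        Curv2.deg k X L 1 = TFOne27.delta k L 1 (TFOne27.OT T hT) + TFOne27.delta k L 1 (TFOne27.OT T' hT') := by
  have hX := CurveAmple18.curveLike k X hd
  haveI := hX.noetherian
  haveI := mono_rho hT hT' h
  let ρ := rho hT hT'
  let Q := vI T hT ⊔ vI T' hT'
  have hOT := TFOne27.isCoh_OT (X := X) T hT
  have hI := isCoh_idealMod (vI T' hT')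
  have hC : Coh.IsCoh (cokernel ρ) := M1.isCoh_cokernel hI.1 hOT ρ
  have hS : (ShortComplex.mk ρ (cokernel.π ρ) (cokernel.condition ρ)).ShortExact := CohFound.shortExact_cokernel _
  have hC0 : ∀ g ∈ genericPoints (X : Type u), ∀ c : (cokernel ρ).presheaf.stalk g, c = 0 := fun g hg' => by
    refine eq_zero_stalk_cokernel ρ g fun b => ?_
    by_cases hgT : g ∈ T
    · haveI := M2.epi_toSubscheme (vI T hT)
      obtain ⟨a, rfl⟩ := TFOne27.surjective_stalkLin (ClSub.toSubscheme (vI T hT)) g b
      obtain ⟨a', rfl⟩ := surjective_stalk_idealModι_of_not_mem hT' (fun hh => (h.2.2 g hg').1 hh hgT) a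
      exact ⟨a', stalkLin_comp _ _ g a'⟩
    · haveI : Subsingleton ((TFOne27.OT T hT).presheaf.stalk g) :=
        TFOne27.subsingleton_of_not_mem_support (F := TFOne27.OT T hT) (x := g)
          ((TFOne27.support_OT (X := X) T hT).symm ▸ hgT)
      exact ⟨0, Subsingleton.elim _ _⟩
  obtain ⟨S, hsupp⟩ := exists_suppIn_of_maximal hd hC fun g hg => hC0 g (TFOne27.mem_genericPoints.mpr hg)
  have hgenQ : ∀ g ∈ genericPoints (X : Type u), g ∉ (Q.support : Set X) := fun g hg hmem => by
    have a := (Scheme.IdealSheafData.coe_support_vanishingIdeal (⟨T, hT⟩ : Closeds X)).le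
      (Scheme.IdealSheafData.support_antitone (le_sup_left : vI T hT ≤ Q) hmem)
    have b := (Scheme.IdealSheafData.coe_support_vanishingIdeal (⟨T', hT'⟩ : Closeds X)).le
      (Scheme.IdealSheafData.support_antitone (le_sup_right : vI T' hT' ≤ Q) hmem)
    exact (h.2.2 g hg).1 b a
  have hfin := hX.fin _ hC 0
  have hlen : Module.finrank k (Coh.HH X (cokernel ρ) 0) = meet k T T' hT hT' := by
    refine le_antisymm ?_ ?_
    · obtain ⟨w, hw⟩ := exists_epi_sup (vI T' hT') (vI T hT)
      haveI := hw
      rw [meet_comm]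
      exact finrank_h0_le_of_epi (k := k) hX w (CurveCoh17.isCoh_quotMod _) hC fun g hg =>
        TFOne27.subsingleton_of_not_mem_support (F := ClSub.quotMod (vI T' hT' ⊔ vI T hT)) (x := g) fun hh =>
          hgenQ g hg (by
            have := NumPoly18.support_quotMod_subset _ hh
            rwa [sup_comm] at this)
    · have hkill : ∀ K : X.IdealSheafData, K ≤ Q → ClSub.idealModι K ≫ ClSub.toSubscheme Q = 0 := fun K hK =>
        idealModι_comp_eq_zero K _ fun U a ha => by
          obtain ⟨b, hb⟩ := (M2.range_idealIncl Q U).ge (hK U ha)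
          rw [← hb]
          exact M2.subschemeι_app_idealIncl Q b
      haveI := (M2.shortExact_idealMod (vI T hT)).epi_g
      obtain ⟨v, hv⟩ := CokernelCofork.IsColimit.desc' (M2.shortExact_idealMod (vI T hT)).exact.gIsCokernel _
        (hkill _ le_sup_left)
      let v' : TFOne27.OT T hT ⟶ ClSub.quotMod Q := v
      have hv' : ClSub.toSubscheme (vI T hT) ≫ v' = ClSub.toSubscheme Q := hv
      haveI := M2.epi_toSubscheme Q
      haveI : Epi v' := by
        haveI : Epi (ClSub.toSubscheme (vI T hT) ≫ v') := by rw [hv']; infer_instance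
        exact epi_of_epi (ClSub.toSubscheme (vI T hT)) v'
      have h0 : ρ ≫ v' = 0 := by
        show (ClSub.idealModι (vI T' hT') ≫ ClSub.toSubscheme (vI T hT)) ≫ v' = 0
        rw [Category.assoc, hv', hkill _ le_sup_right]
      let w := cokernel.desc ρ v' h0
      haveI : Epi w := by
        haveI : Epi (cokernel.π ρ ≫ w) := by rw [cokernel.π_desc]; infer_instance
        exact epi_of_epi (cokernel.π ρ) w
      exact finrank_h0_le_of_epi (k := k) hX w hC (CurveCoh17.isCoh_quotMod _) fun g hg =>
        ⟨fun a b => (hC0 g hg a).trans (hC0 g hg b).symm⟩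
  have e1 : Curv2.euler k X (TFOne27.OT T hT) =
      Curv2.euler k X (ClSub.idealMod (vI T' hT')) + Curv2.euler k X (cokernel ρ) :=
    euler_add' hX hS hI hC
  rw [hsupp.euler_eq hfin, hlen] at e1
  have e2 : Curv2.euler k X (Coh.structureModule X) =
      Curv2.euler k X (ClSub.idealMod (vI T' hT')) + Curv2.euler k X (TFOne27.OT T' hT') :=
    euler_add' hX (M2.shortExact_idealMod (vI T' hT')) hI (TFOne27.isCoh_OT T' hT')
  refine ⟨e1, by linarith, fun L hL => ?_⟩
  have h1L := (M2.isInvertible_iff_isFinLocFreeOfRank_one L).1 hL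
  have hLc := CurveCoh17.isCoh_of_ofRank h1L
  have hflat : ∀ x : X, Module.Flat (X.presheaf.stalk x) (L.presheaf.stalk x) := fun x =>
    Module.Flat.of_linearEquiv (CurveCoh17.nonempty_stalk_equiv h1L x).some
  have eS := CurveCoh17.nonempty_stalk_equiv h1L
  have t1 := euler_tensor_ses (k := k) hX hS hLc hflat hI hC
  have hC1 : Curv2.euler k X (CohB1.tensorMod (cokernel ρ) L) = (meet k T T' hT hT' : ℤ) := by
    rw [(hsupp.tensor L).euler_eq (hsupp.finite_tensor hfin L eS), hsupp.finrank_tensor hfin L eS, one_mul, hlen]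
  have t2 := euler_tensor_ses (k := k) hX (M2.shortExact_idealMod (vI T' hT')) hLc hflat hI
    (TFOne27.isCoh_OT T' hT')
  rw [CurveCoh17.euler_iso (M2.tensorLUnit L)] at t2
  rw [hC1] at t1
  simp only [TFOne27.delta, Curv2.deg, Nat.cast_one, one_mul]
  constructor <;> linarith

end Groth.Agent.CurveH1Min27
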