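import Groth.Agent.Lib.CurveH1Min27.Generated
import Groth.Agent.Lib.NumPoly18.Kleiman
import Groth.Agent.Lib.NumPoly18.Pullback

/-!
# Pullbacks of ample modules to reduced curves
-/

set_option autoImplicit false
set_option linter.style.haveILetI false
set_option backward.isDefEq.respectTransparency false

universe u

open CategoryTheory CategoryTheory.Limits AlgebraicGeometry TopologicalSpace Opposite

namespace Groth.Agent.CurveH1Min27

open Groth.Agent.M1 Groth.Agent.CurveCoh17

variable {Y P : Scheme.{u}} {k : Type u} [Field k] [Y.Over (Spec (CommRingCat.of k))]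
  [P.Over (Spec (CommRingCat.of k))] [IsProper (Y ↘ Spec (CommRingCat.of k))]
  [IsProper (P ↘ Spec (CommRingCat.of k))]

theorem cdeg_pt_pos {A : P.Modules} (hA : CohB1.IsAmple A) {η : P}
    (hη : topologicalKrullDim (closure ({η} : Set P)) = 1) : 0 < NumPoly18.cdeg k A (NumPoly18.ptMod η) := by
  haveI : IsNoetherian P := CohFound.isNoetherian_of_isProper (P ↘ (Spec (CommRingCat.of k)))
  haveI := (NumPoly18.isIntegral_pt η).1
  exact NumPoly18.cdeg_pos_of_isAmple k (NumPoly18.ptIdeal η) (by
    rw [show ((NumPoly18.ptIdeal η).support : Set P) = closure {η} from Scheme.IdealSheafData.coe_support_vanishingIdeal _]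
    exact hη) hA

set_option maxHeartbeats 1600000 in
/-- An ample module pulls back to nonnegative degree, positive unless the map is constant. -/
theorem deg_pullback_ample [ConnectedSpace Y] (hdim : topologicalKrullDim Y = 1) (f : Y ⟶ P)
    (hf : f ≫ (P ↘ Spec (CommRingCat.of k)) = Y ↘ Spec (CommRingCat.of k)) {A : P.Modules} (hA : CohB1.IsAmple A) :
    0 ≤ Curv2.deg k Y ((Scheme.Modules.pullback f).obj A) 1 ∧
      (Curv2.deg k Y ((Scheme.Modules.pullback f).obj A) 1 ≤ 0 → ∀ x y : Y, f x = f y) := by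
  haveI : IsNoetherian Y := CohFound.isNoetherian_of_isProper (Y ↘ (Spec (CommRingCat.of k)))
  have hM := Twist.isInvertible_pullback f hA.1
  let M := (Scheme.Modules.pullback f).obj A
  have hnef : NumPoly18.Nef k M := fun ξ hξ => by
    rcases NumPoly18.cdeg_pullback (k := k) f hf hξ with ⟨h0, -⟩ | ⟨h1, c, hc, h⟩
    · exact (h0 A hA.1).ge
    · rw [h A hA.1]; exact mul_nonneg (Nat.cast_nonneg c) (cdeg_pt_pos hA h1).le
  have hdeg : NumPoly18.cdeg k M (Coh.structureModule Y) = (Curv2.deg k Y M 1 : ℚ) := by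
    rw [NumPoly18.cdeg_eq, CurveCoh17.euler_iso (M2.tensorLUnit M), Curv2.deg, Nat.cast_one, one_mul]
    push_cast; ring
  have hd : ∀ F : Y.Modules, topologicalKrullDim (CohB1.support F) ≤ 1 := fun F =>
    Topology.IsInducing.subtypeVal.topologicalKrullDim_le.trans hdim.le
  have hnn : 0 ≤ Curv2.deg k Y M 1 := by
    have := NumPoly18.cdeg_nonneg_of_nef hM hnef (M1.isCoh_structureModule Y) (hd _)
    rw [hdeg] at this
    exact_mod_cast this
  refine ⟨hnn, fun hle => ?_⟩
  have hcl : ∀ ξ ∈ genericPoints (Y : Type u), IsClosed ({f ξ} : Set P) := by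
    intro ξ hξ
    have hξ1 : topologicalKrullDim (closure ({ξ} : Set Y)) = 1 := by
      refine le_antisymm (Topology.IsInducing.subtypeVal.topologicalKrullDim_le.trans hdim.le) ?_
      obtain ⟨y, hy, hyne⟩ : ∃ y ∈ closure ({ξ} : Set Y), y ≠ ξ := by
        by_contra! h
        have hc : IsClosed ({ξ} : Set Y) := by
          rw [show ({ξ} : Set Y) = closure {ξ} from subset_antisymm subset_closure fun z hz => h z hz]
          exact isClosed_closure
        exact generic_not_mem k hdim hc (topologicalKrullDim_zero_of_discreteTopology _) hξ rfl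
      exact one_le_dim_of_specializes (a := (⟨ξ, subset_closure rfl⟩ : closure ({ξ} : Set Y))) (b := ⟨y, hy⟩)
        (Topology.IsInducing.subtypeVal.specializes_iff.mp (specializes_iff_mem_closure.mpr hy))
        fun e => hyne (congrArg Subtype.val e)
    rcases NumPoly18.cdeg_pullback (k := k) f hf hξ1 with ⟨-, hc⟩ | ⟨h1, c, hc, h⟩
    · exact hc
    exfalso
    have hpos : 0 < NumPoly18.cdeg k M (NumPoly18.ptMod ξ) := by
      rw [h A hA.1]; exact mul_pos (Nat.cast_pos.mpr hc) (cdeg_pt_pos hA h1)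
    have hI : Coh.IsCoh (ClSub.idealMod (NumPoly18.ptIdeal ξ)) :=
      CurveCoh17.isCoh_kernel CurveCoh17.isCoh_structureModule (M1.isQCoh_push _ (M1.isQCoh_structureModule _)) _
    have h0 := NumPoly18.cdeg_nonneg_of_nef hM hnef hI (hd _)
    have hadd' := NumPoly18.md_shortExact (k := k) (r := 1) (L := fun _ : Fin 1 => M) (fun _ => hM)
      (M2.shortExact_idealMod (I := NumPoly18.ptIdeal ξ)) hI (M1.isCoh_structureModule Y) (CurveCoh17.isCoh_quotMod _)
    have hadd : NumPoly18.cdeg k M (Coh.structureModule Y) =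
        NumPoly18.cdeg k M (ClSub.idealMod (NumPoly18.ptIdeal ξ)) + NumPoly18.cdeg k M (NumPoly18.ptMod ξ) := by
      unfold NumPoly18.cdeg
      exact hadd'
    rw [hdeg] at hadd
    have hcast : ((Curv2.deg k Y M 1 : ℤ) : ℚ) ≤ 0 := by exact_mod_cast hle
    linarith
  have hfin : (f '' genericPoints (Y : Type u)).Finite :=
    (genericPoints.finite NoetherianSpace.finite_irreducibleComponents).image _
  have himg : ∀ y, f y ∈ f '' genericPoints (Y : Type u) ∧ IsClosed ({f y} : Set P) := fun y => by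
    obtain ⟨g, hgy, hg⟩ := exists_maximal_generization y
    have hg' := TFOne27.mem_genericPoints.mpr hg
    have e : f y = f g := Set.mem_singleton_iff.mp
      ((hgy.map f.continuous).mem_closed (hcl g hg') rfl)
    exact ⟨⟨g, hg', e.symm⟩, e ▸ hcl g hg'⟩
  intro x y
  have h1 : IsClosed (f ⁻¹' {f x}) := (himg x).2.preimage f.continuous
  have h2 : IsClosed (f ⁻¹' {f x})ᶜ := by
    have e : (f ⁻¹' {f x})ᶜ = ⋃ p ∈ f '' genericPoints (Y : Type u) \ {f x}, f ⁻¹' {p} := by
      ext z
      simp only [Set.mem_compl_iff, Set.mem_preimage, Set.mem_singleton_iff, Set.mem_iUnion, exists_prop]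
      exact ⟨fun h => ⟨f z, ⟨(himg z).1, h⟩, rfl⟩, fun ⟨p, hp, hz⟩ h => hp.2 (hz.symm.trans h)⟩
    rw [e]
    refine (hfin.subset Set.sdiff_subset).isClosed_biUnion fun p hp => ?_
    obtain ⟨g, hg, rfl⟩ := hp.1
    exact (hcl g hg).preimage f.continuous
  rcases isClopen_iff.mp ⟨h1, isClosed_compl_iff.mp h2⟩ with h | h
  · exact absurd rfl (Set.eq_empty_iff_forall_notMem.mp h x)
  · exact ((h.ge (Set.mem_univ y)) : f y = f x).symm

end Groth.Agent.CurveH1Min27
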