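import Groth.Agent.Lib.CurveH1Min27.GorBal
import Groth.Agent.Lib.CurveH1Min27.Contracted

/-!
# Ample balanced invertible sheaves on reduced Gorenstein curves
-/

set_option autoImplicit false
set_option linter.style.haveILetI false
set_option linter.unusedSectionVars false
set_option backward.isDefEq.respectTransparency false

universe u

open CategoryTheory CategoryTheory.Limits AlgebraicGeometry TopologicalSpace Opposite

namespace Groth.Agent.CurveH1Min27

open Groth.Agent.M1 Groth.Agent.CurveCoh17
open TFOne27 (GenClosed)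

variable {X : Scheme.{u}} {k : Type u} [Field k] [X.Over (Spec (CommRingCat.of k))]
  [IsProper (X ↘ Spec (CommRingCat.of k))]

omit [IsProper (X ↘ Spec (CommRingCat.of k))] in
theorem irreducibleSpace_of_range {Y : Scheme.{u}} (i : Y ⟶ X) [IsClosedImmersion i]
    (h : IsIrreducible (Set.range i)) : IrreducibleSpace Y := by
  haveI : IrreducibleSpace (Set.range i) :=
    { Subtype.preirreducibleSpace h.isPreirreducible with toNonempty := h.nonempty.to_subtype }
  exact irreducibleSpace_def _ |>.mpr (by
    have e := i.isClosedEmbedding.isEmbedding.toHomeomorph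
    have := (IrreducibleSpace.isIrreducible_univ (Set.range i)).image e.symm e.symm.continuous.continuousOn
    rwa [Set.image_univ, e.symm.surjective.range_eq] at this)

theorem delta_empty (hd : topologicalKrullDim X ≤ 1) {L : X.Modules} (hL : PicF.IsInvertible L) :
    TFOne27.delta k L 1 (TFOne27.OT (X := X) ∅ isClosed_empty) = 0 := by
  haveI := CohFound.isNoetherian_of_isProper (X ↘ Spec (CommRingCat.of k))
  have hX := CurveAmple18.curveLike k X hd
  have h1 := (M2.isInvertible_iff_isFinLocFreeOfRank_one L).1 hL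
  have hs : SuppIn (TFOne27.OT (X := X) ∅ isClosed_empty) (∅ : Finset X) := ⟨by simp, fun z _ a =>
    Subsingleton.elim (h := TFOne27.subsingleton_of_not_mem_support (F := TFOne27.OT (X := X) ∅ isClosed_empty)
      (fun hz => (TFOne27.support_OT (X := X) ∅ isClosed_empty).le hz)) _ _⟩
  have hfin := hX.fin _ (TFOne27.isCoh_OT (X := X) ∅ isClosed_empty) 0
  have eS := CurveCoh17.nonempty_stalk_equiv h1
  rw [TFOne27.delta, hs.euler_eq hfin, (hs.tensor L).euler_eq (hs.finite_tensor hfin L eS),
    hs.finrank_tensor hfin L eS, one_mul, Nat.cast_one, one_mul, sub_self]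

include k in
theorem not_closed_of_generic [ConnectedSpace X] (hd : topologicalKrullDim X = 1) {η : X}
    (hη : η ∈ genericPoints (X : Type u)) : ¬ IsClosed ({η} : Set X) := fun hcl => by
  haveI := CohFound.isNoetherian_of_isProper (X ↘ Spec (CommRingCat.of k))
  let S := genericPoints (X : Type u) \ {η}
  have hS : ({η} : Set X)ᶜ = span S := by
    ext w
    refine ⟨fun hw => ?_, fun hw => ?_⟩
    · obtain ⟨θ, hθ, hg⟩ := TFOne27.exists_generic_of_component (irreducibleComponent_mem_irreducibleComponents w)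
      have hs : θ ⤳ w := hg.specializes mem_irreducibleComponent
      refine Set.mem_iUnion₂.mpr ⟨θ, ⟨hθ, fun e => hw ?_⟩, specializes_iff_mem_closure.mp hs⟩
      rw [Set.mem_singleton_iff.mp e] at hs
      exact hs.mem_closed hcl rfl
    · rintro (rfl : w = η)
      exact ((mem_span_iff (S := S) Set.diff_subset hη).1 hw).2 rfl
  have hop : IsOpen ({η} : Set X) := isClosed_compl_iff.mp
    (hS ▸ isClosed_span ((genericPoints.finite NoetherianSpace.finite_irreducibleComponents).subset Set.diff_subset))
  have hu : ({η} : Set X) = Set.univ := IsClopen.eq_univ ⟨hcl, hop⟩ (Set.singleton_nonempty η)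
  haveI : Subsingleton X :=
    ⟨fun a b => (hu.ge trivial : a ∈ ({η} : Set X)).trans (hu.ge trivial : b ∈ ({η} : Set X)).symm⟩
  haveI : Subsingleton (IrreducibleCloseds X) := ⟨fun a b => IrreducibleCloseds.ext
    (Subsingleton.eq_univ_of_nonempty a.isIrreducible.nonempty |>.trans
      (Subsingleton.eq_univ_of_nonempty b.isIrreducible.nonempty).symm)⟩
  have h0 : topologicalKrullDim X ≤ 0 := Order.krullDim_nonpos_of_subsingleton
  rw [hd] at h0
  exact absurd h0 (by decide)

theorem delta_pt_pos [ConnectedSpace X] (hd : topologicalKrullDim X = 1) {L : X.Modules} (hA : CohB1.IsAmple L)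
    {η : X} (hη : η ∈ genericPoints (X : Type u)) :
    0 < TFOne27.delta k L 1 (TFOne27.OT (closure ({η} : Set X)) isClosed_closure) := by
  haveI := CohFound.isNoetherian_of_isProper (X ↘ Spec (CommRingCat.of k))
  obtain ⟨z, hz, hzc⟩ := (isClosed_closure (s := ({η} : Set X))).exists_closed_singleton ((Set.singleton_nonempty η).closure)
  have hne : z ≠ η := fun e => not_closed_of_generic (k := k) hd hη (e ▸ hzc)
  have hdim : topologicalKrullDim (closure ({η} : Set X)) = 1 :=
    le_antisymm (Topology.IsInducing.subtypeVal.topologicalKrullDim_le.trans hd.le)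
      (one_le_dim_of_specializes (a := (⟨η, subset_closure rfl⟩ : closure ({η} : Set X))) (b := ⟨z, hz⟩)
        (Topology.IsInducing.subtypeVal.specializes_iff.mp (specializes_iff_mem_closure.mpr hz))
        fun e => hne (congrArg Subtype.val e))
  have h := cdeg_pt_pos (k := k) hA hdim
  rw [NumPoly18.cdeg_eq] at h
  rw [TFOne27.delta, Nat.cast_one, one_mul]
  exact_mod_cast h

theorem split_gen [AlgebraicGeometry.IsReduced X] (hd : topologicalKrullDim X ≤ 1) {L : X.Modules}
    (hL : PicF.IsInvertible L) {T : Set X} (hT : IsClosed T) (hTg : GenClosed T) {η : X}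
    (hη : η ∈ genericPoints (X : Type u)) (hηT : η ∈ T)
    (hZ : IsClosed (span ((T ∩ genericPoints (X : Type u)) \ {η}))) :
    TFOne27.delta k L 1 (TFOne27.OT T hT) = TFOne27.delta k L 1 (TFOne27.OT (closure ({η} : Set X)) isClosed_closure) +
      TFOne27.delta k L 1 (TFOne27.OT _ hZ) := by
  haveI := CohFound.isNoetherian_of_isProper (X ↘ Spec (CommRingCat.of k))
  have hX := CurveAmple18.curveLike k X hd
  have hS : (T ∩ genericPoints (X : Type u)) \ {η} ⊆ genericPoints (X : Type u) := fun x hx => hx.1.2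
  have hin : ∀ θ ∈ genericPoints (X : Type u), (θ ∈ closure ({η} : Set X) ↔ θ = η) := fun θ hθ =>
    ⟨fun h => (TFOne27.mem_genericPoints.mp hθ η (specializes_iff_mem_closure.mpr h)).symm,
      fun h => h ▸ subset_closure rfl⟩
  have hgη : GenClosed (closure ({η} : Set X)) := fun x hx =>
    ⟨η, hη, subset_closure rfl, specializes_iff_mem_closure.mpr hx⟩
  have := TFOne27.delta_add (k := k) hX ((M2.isInvertible_iff_isFinLocFreeOfRank_one L).1 hL)
    (closure ({η} : Set X)) (span ((T ∩ genericPoints (X : Type u)) \ {η})) T ∅ isClosed_closure hZ hT isClosed_empty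
    hgη (genClosed_span hS) (fun x hx => hx.elim)
    (fun θ hθ => by
      rw [hin θ hθ, mem_span_iff hS hθ]
      by_cases e : θ = η
      · subst e; simp [hηT]
      · simp [e, hθ])
    (fun θ hθ => by
      rw [hin θ hθ, mem_span_iff hS hθ]
      constructor
      · exact fun h => h.elim
      · rintro ⟨rfl, h⟩
        exact absurd rfl h.2)
  rw [delta_empty hd hL, add_zero] at this
  exact this.symm

theorem deg_pos_sub [AlgebraicGeometry.IsReduced X] {L : X.Modules} (hA : CohB1.IsAmple L) (J : X.IdealSheafData)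
    (hc : ConnectedSpace J.subscheme) (h1 : topologicalKrullDim J.subscheme = 1) :
    0 < degOn k J L := by
  letI : J.subscheme.Over (Spec (CommRingCat.of k)) := ⟨J.subschemeι ≫ (X ↘ Spec (CommRingCat.of k))⟩
  haveI : IsProper (J.subscheme ↘ Spec (CommRingCat.of k)) :=
    inferInstanceAs (IsProper (J.subschemeι ≫ (X ↘ Spec (CommRingCat.of k))))
  haveI := hc
  obtain ⟨h, h'⟩ := deg_pullback_ample (k := k) h1 J.subschemeι rfl hA
  by_contra hn
  haveI : Subsingleton J.subscheme :=
    ⟨fun a b => J.subschemeι.isClosedEmbedding.injective (h' (not_lt.mp hn) a b)⟩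
  haveI : Subsingleton (IrreducibleCloseds J.subscheme) := ⟨fun a b => IrreducibleCloseds.ext
    (Subsingleton.eq_univ_of_nonempty a.isIrreducible.nonempty |>.trans
      (Subsingleton.eq_univ_of_nonempty b.isIrreducible.nonempty).symm)⟩
  have h0 : topologicalKrullDim J.subscheme ≤ 0 := Order.krullDim_nonpos_of_subsingleton
  rw [h1] at h0
  exact absurd h0 (by decide)

variable [AlgebraicGeometry.IsReduced X] [ConnectedSpace X]

include k in
/-- A subcurve of degree one for an ample sheaf is irreducible. -/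
theorem irreducible_of_deg_one (hd : topologicalKrullDim X = 1) {L : X.Modules} (hA : CohB1.IsAmple L)
    (J : X.IdealSheafData) (hr : AlgebraicGeometry.IsReduced J.subscheme) (hc : ConnectedSpace J.subscheme)
    (h1 : topologicalKrullDim J.subscheme = 1) (he : degOn k J L ≤ 1) : IrreducibleSpace J.subscheme := by
  haveI := CohFound.isNoetherian_of_isProper (X ↘ Spec (CommRingCat.of k))
  obtain ⟨T, hT, rfl⟩ : ∃ (T : Set X) (hT : IsClosed T), J = vI T hT := ⟨_, _, eq_vI J⟩
  have hg := genClosed_of_dim_one hd.le hT hc h1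
  haveI := hc
  obtain ⟨y⟩ := (inferInstance : Nonempty (vI T hT).subscheme)
  obtain ⟨η, hη, hηT, -⟩ := hg _ ((TFOne27.range_sub T hT).le ⟨y, rfl⟩)
  have hfin : ∀ S : Set X, S ⊆ genericPoints (X : Type u) → IsClosed (span S) := fun S hS =>
    isClosed_span ((genericPoints.finite NoetherianSpace.finite_irreducibleComponents).subset hS)
  have hall : ∀ θ ∈ genericPoints (X : Type u), θ ∈ T → θ = η := by
    intro θ hθ hθT
    by_contra hne
    let S₁ := (T ∩ genericPoints (X : Type u)) \ {η}
    have hS₁ : S₁ ⊆ genericPoints (X : Type u) := fun x hx => hx.1.2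
    have hθ1 : θ ∈ span S₁ := (mem_span_iff hS₁ hθ).2 ⟨⟨hθT, hθ⟩, hne⟩
    have e1 := split_gen (k := k) hd.le hA.1 hT hg hη hηT (hfin _ hS₁)
    have e2 := split_gen (k := k) hd.le hA.1 (hfin _ hS₁) (genClosed_span hS₁) hθ hθ1 (hfin _ fun x hx => hx.1.2)
    have p1 := delta_pt_pos (k := k) hd hA hη
    have p2 := delta_pt_pos (k := k) hd hA hθ
    have p3 : 0 ≤ TFOne27.delta k L 1 (TFOne27.OT
        (span ((span S₁ ∩ genericPoints (X : Type u)) \ {θ})) (hfin _ fun x hx => hx.1.2)) := by
      have h0 := NumPoly18.cdeg_nonneg_of_nef hA.1 (NumPoly18.nef_of_isAmple (k := k) hA)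
        (TFOne27.isCoh_OT (X := X) _ (hfin ((span S₁ ∩ genericPoints (X : Type u)) \ {θ}) fun x hx => hx.1.2))
        (Topology.IsInducing.subtypeVal.topologicalKrullDim_le.trans hd.le)
      rw [NumPoly18.cdeg_eq] at h0
      rw [TFOne27.delta, Nat.cast_one, one_mul]
      exact_mod_cast h0
    rw [← delta_eq_degOn hA.1 hT, e1, e2] at he
    omega
  have hi : IsIrreducible T := by
    have : T = closure {η} := subset_antisymm (fun x hx => by
      obtain ⟨θ, hθ, hθT, hsp⟩ := hg x hx
      rw [hall θ hθ hθT] at hsp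
      exact specializes_iff_mem_closure.mp hsp) (closure_minimal (Set.singleton_subset_iff.mpr hηT) hT)
    rw [this]
    exact isIrreducible_singleton.closure
  have hi' : IsIrreducible (Set.range (vI T hT).subschemeι) := by rwa [show Set.range (vI T hT).subschemeι = T from TFOne27.range_sub T hT]
  exact irreducibleSpace_of_range (vI T hT).subschemeι hi'

variable [IsAlgClosed k] {ω : X.Modules} (hω : PicF.IsInvertible ω) {t : Coh.HH X ω 1 →ₗ[k] k}
  (ht : IsTrace k ω t) (hd : topologicalKrullDim X = 1)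

include hω ht hd

theorem ample_dualizing (hg : 2 ≤ Curv2.genus k X) {L : X.Modules} (hA : CohB1.IsAmple L) (hb : Bal k ω L)
    (hD : (Curv2.genus k X : ℤ) - 1 ≤ Curv2.deg k X L 1) :
    NefSub k ω ∧ (∀ J : X.IdealSheafData, AlgebraicGeometry.IsReduced J.subscheme → ConnectedSpace J.subscheme →
      topologicalKrullDim J.subscheme = 1 → degOn k J ω = 0 → IrreducibleSpace J.subscheme) ∧
      (∀ J : X.IdealSheafData, AlgebraicGeometry.IsReduced J.subscheme → ConnectedSpace J.subscheme →
      topologicalKrullDim J.subscheme = 1 → degOn k J ω = 0 → degOn k J L = 1) := by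
  have key : ∀ J : X.IdealSheafData, AlgebraicGeometry.IsReduced J.subscheme → ConnectedSpace J.subscheme →
      topologicalKrullDim J.subscheme = 1 → 0 ≤ degOn k J ω ∧ (degOn k J ω = 0 → degOn k J L = 1) := by
    intro J hr hc h1
    obtain ⟨a, b, -⟩ := sub_data hω ht hd J hr hc h1
    obtain ⟨k1, k2, -⟩ := nef_arith (c := 2 * (Curv2.genus k X : ℤ) - 2) (D := Curv2.deg k X L 1)
      (by omega) (by omega) (Nat.cast_nonneg _) a b (hb J hr hc h1)
    have hp := deg_pos_sub (k := k) hA J hc h1
    refine ⟨by_contra fun hlt => ?_, fun hz => ?_⟩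
    · have := (k1 (not_le.mp hlt)).1; omega
    · have := k2 hz; omega
  exact ⟨fun J hr hc h1 => (key J hr hc h1).1,
    fun J hr hc h1 hz => irreducible_of_deg_one hd hA J hr hc h1 (by rw [(key J hr hc h1).2 hz]),
    fun J hr hc h1 hz => (key J hr hc h1).2 hz⟩

theorem ample_iff (hg : 2 ≤ Curv2.genus k X) {L : X.Modules} (hL : PicF.IsInvertible L) (hb : Bal k ω L)
    (hD : 3 * ((Curv2.genus k X : ℤ) - 1) < Curv2.deg k X L 1) :
    CohB1.IsAmple L ↔ NefSub k ω ∧ (∀ J : X.IdealSheafData, AlgebraicGeometry.IsReduced J.subscheme →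
      ConnectedSpace J.subscheme → topologicalKrullDim J.subscheme = 1 → degOn k J ω = 0 →
        IrreducibleSpace J.subscheme) ∧
      (∀ J : X.IdealSheafData, AlgebraicGeometry.IsReduced J.subscheme → ConnectedSpace J.subscheme →
      topologicalKrullDim J.subscheme = 1 → degOn k J ω = 0 → degOn k J L = 1) := by
  refine ⟨fun hA => ample_dualizing hω ht hd hg hA hb (by omega), fun ⟨hn, _, hex⟩ => ?_⟩
  refine (AmpleFin18.isAmple_iff_deg_pos k hd.le hL).2 fun Z hZ hdimZ => ?_
  let J := Scheme.IdealSheafData.vanishingIdeal Z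
  have hr : AlgebraicGeometry.IsReduced J.subscheme :=
    inferInstanceAs (AlgebraicGeometry.IsReduced (VecSt.subsch X (Z : Set X) Z.isClosed))
  haveI : IrreducibleSpace J.subscheme := by
    refine irreducibleSpace_of_range J.subschemeι ?_
    rw [Scheme.IdealSheafData.range_subschemeι, Scheme.IdealSheafData.coe_support_vanishingIdeal]
    exact hZ.1
  have hc : ConnectedSpace J.subscheme := inferInstance
  have h1 : topologicalKrullDim J.subscheme = 1 :=
    (AmpleFin18.dim_subscheme _ (Scheme.IdealSheafData.coe_support_vanishingIdeal _)).trans hdimZ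
  obtain ⟨a, b, -⟩ := sub_data hω ht hd J hr hc h1
  show 0 < degOn k J L
  rcases (hn J hr hc h1).lt_or_eq with hp | hz
  · have hB := (abs_le.mp (hb J hr hc h1)).1
    have q2 : (meetJ k J : ℤ) ≤ degOn k J ω + 2 := by omega
    have q3 := mul_le_mul_of_nonneg_left q2 (by omega : (0 : ℤ) ≤ 2 * (Curv2.genus k X : ℤ) - 2)
    have q4 := mul_nonneg (by omega : (0 : ℤ) ≤ 2 * Curv2.deg k X L 1 - 3 * (2 * (Curv2.genus k X : ℤ) - 2) - 1)
      (by omega : (0 : ℤ) ≤ degOn k J ω - 1)
    nlinarith
  · rw [hex J hr hc h1 hz.symm]; exact one_pos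

theorem two_genus_lt (hg : 2 ≤ Curv2.genus k X) {L : X.Modules} (hA : CohB1.IsAmple L) (hb : Bal k ω L)
    (hD : 3 * ((Curv2.genus k X : ℤ) - 1) < Curv2.deg k X L 1) (hD' : 2 * (Curv2.genus k X : ℤ) < Curv2.deg k X L 1)
    (J : X.IdealSheafData) (hr : AlgebraicGeometry.IsReduced J.subscheme) (hc : ConnectedSpace J.subscheme)
    (h1 : topologicalKrullDim J.subscheme = 1)
    (htail : genusOn k J = 1 → meetJ k J = 1 → 5 * ((Curv2.genus k X : ℤ) - 1) < Curv2.deg k X L 1) :
    2 * (genusOn k J : ℤ) < degOn k J L := by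
  obtain ⟨a, b, c⟩ := sub_data hω ht hd J hr hc h1
  have hn := (ample_dualizing hω ht hd hg hA hb (by omega)).1 J hr hc h1
  have hp := deg_pos_sub (k := k) hA J hc h1
  rcases Nat.eq_zero_or_pos (meetJ k J) with hm | hm
  · rw [c hm L hA.1]
    have := b hm
    omega
  rcases hn.lt_or_eq with hd1 | hz
  · have hB := (abs_le.mp (hb J hr hc h1)).1
    by_contra hlt
    have q2 : degOn k J L ≤ degOn k J ω + 2 - meetJ k J := by omega
    have q3 := mul_le_mul_of_nonneg_left q2 (by omega : (0 : ℤ) ≤ 2 * (Curv2.genus k X : ℤ) - 2)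
    by_cases htl : genusOn k J = 1 ∧ meetJ k J = 1
    · have hD5 := htail htl.1 htl.2
      have hd1 : degOn k J ω = 1 := by omega
      rw [hd1, htl.2] at hB q3
      push_cast at hB q3
      nlinarith
    · have hpar : 4 ≤ degOn k J ω + meetJ k J := by omega
      have q4 := mul_nonneg (by omega : (0 : ℤ) ≤ 2 * (Curv2.genus k X : ℤ) - 2)
        (by omega : (0 : ℤ) ≤ degOn k J ω + meetJ k J - 4)
      have q5 := mul_nonneg (by omega : (0 : ℤ) ≤ 2 * Curv2.deg k X L 1 - 3 * (2 * (Curv2.genus k X : ℤ) - 2) - 1)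
        (by omega : (0 : ℤ) ≤ degOn k J ω - 1)
      nlinarith
  · omega

end Groth.Agent.CurveH1Min27
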