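import Groth.Agent.Lib.CurveH1Min27.GorInv
import Groth.Agent.Lib.CurveH1Min27.GorAmple
import Groth.Agent.S1589

/-!
# The dualizing module of a connected nodal curve
-/

set_option autoImplicit false
set_option linter.style.haveILetI false
set_option linter.unusedSectionVars false
set_option backward.isDefEq.respectTransparency false

universe u

open CategoryTheory CategoryTheory.Limits AlgebraicGeometry TopologicalSpace
attribute [local instance] HasDerivedCategory.standard

namespace Groth.Agent.CurveH1Min27

variable (k : Type u) [Field k] (X : Scheme.{u}) [X.Over (Spec (CommRingCat.of k))]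
  [IsProper (X ↘ Spec (CommRingCat.of k))] [ConnectedSpace X]

include k in
theorem components_dim_one (hd : topologicalKrullDim X = 1) :
    ∀ Z ∈ irreducibleComponents (X : Type u), topologicalKrullDim Z = 1 := by
  haveI := CohFound.isNoetherian_of_isProper (X ↘ Spec (CommRingCat.of k))
  intro Z hZ
  obtain ⟨η, hη, hgen⟩ := TFOne27.exists_generic_of_component hZ
  have hZc := isClosed_of_mem_irreducibleComponents Z hZ
  obtain ⟨z, hz, hzc⟩ := hZc.exists_closed_singleton hZ.1.nonempty
  have hne : z ≠ η := fun e => not_closed_of_generic (k := k) hd hη (e ▸ hzc)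
  exact le_antisymm (Topology.IsInducing.subtypeVal.topologicalKrullDim_le.trans hd.le)
    (one_le_dim_of_specializes (a := (⟨η, hgen.mem⟩ : Z)) (b := ⟨z, hz⟩)
      (Topology.IsInducing.subtypeVal.specializes_iff.mp (hgen.specializes hz))
      fun e => hne (congrArg Subtype.val e))

theorem isInvertible_dualizing_nodal (hd : topologicalKrullDim X = 1) (hX : Curv2.AtWorstNodal k X)
    [DCoh.HasRpush (X ↘ Spec (CommRingCat.of k))] (h : DCoh.RpushPreservesQCoh (X ↘ Spec (CommRingCat.of k)))
    [DCoh.HasShriek (X ↘ Spec (CommRingCat.of k)) h]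
    (OY : DCoh.DQCoh (Spec (CommRingCat.of k)))
    (hOY : Nonempty (OY.obj ≅ DCoh.inD (Spec (CommRingCat.of k)) (Coh.structureModule (Spec (CommRingCat.of k))))) :
    PicF.IsInvertible (DCoh.dualizingMod (X ↘ Spec (CommRingCat.of k)) h OY 1) :=
  isInvertible_dualizing_equi k X hd (components_dim_one k X hd)
    (S1589.result k X (components_dim_one k X hd) hX).1 h OY hOY

end Groth.Agent.CurveH1Min27
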