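import Groth.Agent.Lib.CurveH1Min27.TreeRestrict
import Groth.Agent.Lib.CurveH1Min27.NodalOmega
import Groth.Agent.Lib.DlzCurve17.EndScalar
import Groth.Agent.Lib.TensorMod.PullSupport

/-!
# Deformation ampleness on rational trees
-/

set_option autoImplicit false
set_option linter.style.haveILetI false
set_option linter.unusedSectionVars false
set_option backward.isDefEq.respectTransparency false
set_option maxHeartbeats 800000

universe u

open CategoryTheory CategoryTheory.Limits AlgebraicGeometry TopologicalSpace Opposite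
attribute [local instance] HasDerivedCategory.standard

namespace Groth.Agent.CurveH1Min27

open Groth.Agent.M1 Groth.Agent.CurveCoh17

variable {X : Scheme.{u}} {k : Type u} [Field k] [IsAlgClosed k] [X.Over (Spec (CommRingCat.of k))]
  [IsProper (X ↘ Spec (CommRingCat.of k))] [AlgebraicGeometry.IsReduced X]

include k

/-- Sections lift from a component. -/
theorem surjective_restrict_sections [ConnectedSpace X] (hd : topologicalKrullDim X ≤ 1)
    (hg : Subsingleton (Coh.HH X (Coh.structureModule X) 1)) {E : X.Modules} (hE : FlatMod.IsFinLocFree E)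
    (hgg : ∀ η ∈ genericPoints (X : Type u),
      Curv2.IsGloballyGenerated ((Scheme.Modules.pullback (vI (closure ({η} : Set X)) isClosed_closure).subschemeι).obj E))
    {Z : Set X} (hZ : IsClosed Z) (hZc : _root_.IsConnected Z) :
    Function.Surjective (((Scheme.Modules.pullbackPushforwardAdjunction (vI Z hZ).subschemeι).unit.app E).app ⊤) := by
  haveI := CohFound.isNoetherian_of_isProper (X ↘ Spec (CommRingCat.of k))
  let J := vI Z hZ
  let i := J.subschemeι
  let adj := Scheme.Modules.pullbackPushforwardAdjunction i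
  have hEc := CohFound.isCoh_of_isFinLocFree hE
  letI : J.subscheme.Over (Spec (CommRingCat.of k)) := ⟨i ≫ (X ↘ (Spec (CommRingCat.of k)))⟩
  haveI : IsProper (J.subscheme ↘ Spec (CommRingCat.of k)) :=
    inferInstanceAs (IsProper (i ≫ (X ↘ (Spec (CommRingCat.of k)))))
  have hdJ : topologicalKrullDim J.subscheme ≤ 1 := i.isClosedEmbedding.isInducing.topologicalKrullDim_le.trans hd
  have hXc := CurveAmple18.curveLike k J.subscheme hdJ
  let M := (Scheme.Modules.pullback i).obj E
  let P := (Scheme.Modules.pushforward i).obj M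
  have hMc : Coh.IsCoh M := M1.isCoh_pullback i hEc
  haveI : M.IsQuasicoherent := hMc.1
  have hA1 := van_idealMod_tensor (k := k) hd hg hE (fun η hη _ => hgg η hη) _ Z hZ subset_rfl hZc le_rfl
  have hS := shortExact_tensorR (M2.shortExact_idealMod J) E (flat_stalk_finLocFree hE)
  obtain ⟨π⟩ := nonempty_proj_iso J hE (Coh.structureModule J.subscheme)
  let Θ := π ≪≫ (Scheme.Modules.pushforward i).mapIso (M2.tensorRUnit M)
  let g : E ⟶ P := (M2.tensorLUnit E).inv ≫ (M2.tensorR E).map (ClSub.toSubscheme J) ≫ Θ.hom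
  let θ : M ⟶ M := (adj.homEquiv E M).symm g
  have hfac : adj.unit.app E ≫ (Scheme.Modules.pushforward i).map θ = g := by
    exact (adj.homEquiv_unit E M θ).symm.trans (Equiv.apply_symm_apply _ _)
  have hg0 : Function.Surjective (hmap k g 0) := fun w => by
    obtain ⟨w₁, rfl⟩ := (hequiv k Θ 0).surjective w
    have hs : Function.Surjective (hmap k ((M2.tensorR E).map (ClSub.toSubscheme J)) 0) := fun y =>
      (exact_hmap_hdelta k hS 0 y).1 (by
        haveI : Subsingleton (Coh.HH X (CohB1.tensorMod (ClSub.idealMod J) E) 1) := hA1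
        exact Subsingleton.elim (α := Coh.HH X (CohB1.tensorMod (ClSub.idealMod J) E) 1) _ _)
    obtain ⟨w₂, rfl⟩ := hs w₁
    refine ⟨hmap k (M2.tensorLUnit E).hom 0 w₂, ?_⟩
    show hmap k g 0 _ = hmap k Θ.hom 0 (hmap k ((M2.tensorR E).map (ClSub.toSubscheme J)) 0 w₂)
    refine (CurveCoh17.hmap_comp k _ _ _ _).symm.trans (Eq.trans ?_ (CurveCoh17.hmap_comp k _ _ _ _))
    simp only [g, Iso.hom_inv_id_assoc]
    rfl
  obtain ⟨q⟩ := CurveCoh17.nonempty_hequiv_push k i rfl M 0
  haveI : Module.Finite k (Coh.HH J.subscheme M 0) := hXc.fin _ hMc 0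
  haveI : Module.Finite k (Coh.HH X P 0) := Module.Finite.equiv q.symm
  have hθ : Function.Surjective (hmap k ((Scheme.Modules.pushforward i).map θ) 0) := fun w => by
    obtain ⟨v, hv⟩ := hg0 w
    rw [← hfac, CurveCoh17.hmap_comp] at hv
    exact ⟨_, hv⟩
  have hθi : Function.Injective (hmap k ((Scheme.Modules.pushforward i).map θ) 0) :=
    LinearMap.injective_iff_surjective.mpr hθ
  intro t
  obtain ⟨v, hv⟩ := hg0 (hmap k ((Scheme.Modules.pushforward i).map θ) 0 ((hh0 P).symm t))
  rw [← hfac, CurveCoh17.hmap_comp] at hv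
  refine ⟨hh0 E v, ?_⟩
  exact (hh0_hmap k (adj.unit.app E) v).symm.trans ((congrArg (hh0 P) (hθi hv)).trans (AddEquiv.apply_symm_apply _ _))

/-- A bundle generated on every component of a rational tree is generated. -/
theorem isGloballyGenerated_of_components [ConnectedSpace X] (hd : topologicalKrullDim X ≤ 1)
    (hg : Subsingleton (Coh.HH X (Coh.structureModule X) 1)) {E : X.Modules} (hE : FlatMod.IsFinLocFree E)
    (hgg : ∀ η ∈ genericPoints (X : Type u),
      Curv2.IsGloballyGenerated ((Scheme.Modules.pullback (vI (closure ({η} : Set X)) isClosed_closure).subschemeι).obj E)) :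
    Curv2.IsGloballyGenerated E := by
  haveI := CohFound.isNoetherian_of_isProper (X ↘ Spec (CommRingCat.of k))
  have hEc := CohFound.isCoh_of_isFinLocFree hE
  refine ⟨Γ(E, ⊤), M1.freeHom (fun t : Γ(E, ⊤) => t), Preadditive.epi_of_cokernel_zero ?_⟩
  let p := M1.freeHom (fun t : Γ(E, ⊤) => t)
  let π := cokernel.π p
  have hCq : Coh.IsQCoh (cokernel p) := M1.isQCoh_cokernel (M1.isQCoh_fr X _) hEc.1 p
  have hCf : CohB1.IsFT (cokernel p) := M1.isFT_of_epi π hEc.2
  have hkill : CMReg18.Kills π := fun t => by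
    have h1 := congrArg (fun f => M1.freeSec f t) (cokernel.condition p)
    rw [M1.freeHom_comp] at h1
    simp only [M1.freeSec, M1.ιF_freeHom, M1.secHom_app_one] at h1
    refine h1.trans ?_
    rw [comp_zero]
    rfl
  have hsupp : ∀ x, x ∉ CohB1.support (cokernel p) := fun x hx => by
    obtain ⟨η, hη, hgen⟩ := TFOne27.exists_generic_of_component (irreducibleComponent_mem_irreducibleComponents x)
    have hxE : x ∈ closure ({η} : Set X) :=
      specializes_iff_mem_closure.mp (hgen.specializes (mem_irreducibleComponent (x := x)))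
    let i := (vI (closure ({η} : Set X)) isClosed_closure).subschemeι
    let adj := Scheme.Modules.pullbackPushforwardAdjunction i
    haveI : (Scheme.Modules.pullback i).IsLeftAdjoint := adj.isLeftAdjoint
    let φ := (Scheme.Modules.pullback i).map π
    haveI : Epi φ := inferInstance
    have hφ : φ = 0 := CMReg18.eq_zero_of_kills (hgg η hη) fun t => by
      obtain ⟨s, hs⟩ := surjective_restrict_sections (k := k) hd hg hE hgg isClosed_closure
        isIrreducible_singleton.closure.isConnected t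
      have hn := congrArg (fun ψ => ψ.app ⊤ s) (adj.unit.naturality π)
      show ((Scheme.Modules.pushforward i).map φ).app ⊤ t = 0
      rw [← hs]
      refine Eq.trans hn.symm ?_
      show (adj.unit.app (cokernel p)).app ⊤ (π.app ⊤ s) = 0
      rw [hkill, map_zero]
    have h0 : IsZero ((Scheme.Modules.pullback i).obj (cokernel p)) := IsZero.of_epi_eq_zero φ hφ
    obtain ⟨z, rfl⟩ : x ∈ Set.range i :=
      (TFOne27.range_sub (closure ({η} : Set X)) isClosed_closure).ge hxE
    have hz : z ∈ CohB1.support ((Scheme.Modules.pullback i).obj (cokernel p)) := by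
      rw [M2.support_pullback i hCq hCf]; exact hx
    exact TFOne27.not_isZero_of_mem_support hz h0
  refine IsZero.eq_of_tgt ((IsZero.iff_id_eq_zero _).mpr ?_) _ _
  refine Scheme.Modules.hom_ext _ _ fun U => ?_
  ext s
  refine M1.section_ext _ _ fun x hx => ?_
  exact @Subsingleton.elim _ (TFOne27.subsingleton_of_not_mem_support (hsupp x)) _ _

omit [AlgebraicGeometry.IsReduced X] in
/-- The dualizing module of a connected curve has `H¹`. -/
theorem not_subsingleton_h1_dualizing [ConnectedSpace X] [AlgebraicGeometry.IsReduced X]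
    (hdim : topologicalKrullDim X = 1)
    [DCoh.HasRpush (X ↘ Spec (CommRingCat.of k))] (h : DCoh.RpushPreservesQCoh (X ↘ Spec (CommRingCat.of k)))
    [DCoh.HasShriek (X ↘ Spec (CommRingCat.of k)) h]
    (OY : DCoh.DQCoh (Spec (CommRingCat.of k)))
    (hOY : Nonempty (OY.obj ≅ DCoh.inD (Spec (CommRingCat.of k)) (Coh.structureModule (Spec (CommRingCat.of k))))) :
    ¬ Subsingleton (Coh.HH X (DCoh.dualizingMod (X ↘ Spec (CommRingCat.of k)) h OY 1) 1) := fun hs => by
  have hXc := CurveAmple18.curveLike k X hdim.le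
  have h0 : Module.finrank k (Coh.HH X (Coh.structureModule X) 0) = 1 :=
    le_antisymm (h0_le_one hdim.le) (h0_structure_pos hXc)
  obtain ⟨t, ht⟩ := DlzCurve17.exists_trace k X hdim h OY hOY
  set ω := DCoh.dualizingMod (X ↘ Spec (CommRingCat.of k)) h OY 1
  have e : 𝟙 ω = 0 := (ht ω (DlzCurve17.isCoh_dualizingMod k X h OY hOY) 0).unique
    (fun x => by rw [Subsingleton.elim x 0, map_zero, map_zero, map_zero])
    (fun x => by rw [Subsingleton.elim x 0, map_zero, map_zero, map_zero])
  haveI := DlzCurve17.nontrivial_stalk_dualizing k h OY hOY h0 hdim (Classical.arbitrary X)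
  obtain ⟨a, b, hab⟩ := exists_pair_ne (ω.presheaf.stalk (Classical.arbitrary X))
  have key : ∀ a, a = (M1.stalkAb (Classical.arbitrary X)).map (0 : ω ⟶ ω) a := fun a => by
    rw [← e, CategoryTheory.Functor.map_id]; rfl
  refine hab ((key a).trans (Eq.trans ?_ (key b).symm))
  rw [Functor.map_zero]; rfl

/-- `H¹(E ⊗ ω)` vanishes for a generated bundle on a rational tree when it does on a connected subcurve. -/
theorem subsingleton_h1_tensor_dualizing [ConnectedSpace X] (hdim : topologicalKrullDim X = 1)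
    [DCoh.HasRpush (X ↘ Spec (CommRingCat.of k))] (h : DCoh.RpushPreservesQCoh (X ↘ Spec (CommRingCat.of k)))
    [DCoh.HasShriek (X ↘ Spec (CommRingCat.of k)) h]
    (OY : DCoh.DQCoh (Spec (CommRingCat.of k)))
    (hOY : Nonempty (OY.obj ≅ DCoh.inD (Spec (CommRingCat.of k)) (Coh.structureModule (Spec (CommRingCat.of k)))))
    (hω : PicF.IsInvertible (DCoh.dualizingMod (X ↘ Spec (CommRingCat.of k)) h OY 1))
    {E : X.Modules} (hE : FlatMod.IsFinLocFree E) (hgg : Curv2.IsGloballyGenerated E)
    {W : Scheme.{u}} (i : W ⟶ X) (ωW : W.Modules) [W.Over (Spec (CommRingCat.of k))]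
    (hW : ¬ Subsingleton (Coh.HH W ωW 1))
    (hvan : Subsingleton (Coh.HH W (CohB1.tensorMod ((Scheme.Modules.pullback i).obj E) ωW) 1)) :
    Subsingleton (Coh.HH X (CohB1.tensorMod E (DCoh.dualizingMod (X ↘ Spec (CommRingCat.of k)) h OY 1)) 1) := by
  classical
  haveI := CohFound.isNoetherian_of_isProper (X ↘ Spec (CommRingCat.of k))
  have hXc := CurveAmple18.curveLike k X hdim.le
  have h0 : Module.finrank k (Coh.HH X (Coh.structureModule X) 0) = 1 :=
    le_antisymm (h0_le_one hdim.le) (h0_structure_pos hXc)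
  have hEc := CohFound.isCoh_of_isFinLocFree hE
  set ω := DCoh.dualizingMod (X ↘ Spec (CommRingCat.of k)) h OY 1
  refine DlzCurve17.subsingleton_h1_of_forall_zero k h OY hOY hdim
    (CurveCoh17.isCoh_tensor hEc (Snapper.isCoh_of_isInvertible hω)) fun ψ => ?_
  obtain ⟨n, p, hp⟩ := CohFound.exists_epi_freeMod hEc hgg
  haveI : Epi (M2.tensorMap p (𝟙 ω)) := CohFound.epi_tensorMap p ω
  rw [← cancel_epi (M2.tensorMap p (𝟙 ω)), comp_zero]
  have key : ∀ t : Coh.structureModule X ⟶ E, (M2.tensorR ω).map t ≫ ψ = 0 := by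
    intro t
    let j : ω ⟶ CohB1.tensorMod E ω := (M2.tensorLUnit ω).inv ≫ (M2.tensorR ω).map t
    obtain ⟨c, hc, hθ⟩ := DlzCurve17.exists_scalar k h OY hOY hdim h0 (j ≫ ψ)
    rcases hc with rfl | hu
    · have hz : j ≫ ψ = 0 := Scheme.Modules.hom_ext _ _ fun U => ConcreteCategory.hom_ext _ _ fun m =>
        M1.section_ext _ _ fun x hx => by
          have e := hθ x (ω.presheaf.germ U x hx m)
          rw [RefHull.stalkMapₗ_germ, map_zero, zero_smul] at e
          exact e.trans (map_zero _).symm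
      rw [← cancel_epi (M2.tensorLUnit ω).inv, ← Category.assoc, comp_zero]
      exact hz
    · exfalso
      haveI : IsIso (j ≫ ψ) := (RH26.isIso_iff_stalkMapₗ _).mpr fun x => by
        have hbij : Function.Bijective fun v : ω.presheaf.stalk x => X.presheaf.germ ⊤ x trivial c • v :=
          (hu.map (X.presheaf.germ ⊤ x trivial).hom).smul_bijective
        convert hbij using 1
        exact funext (hθ x)
      let r : CohB1.tensorMod E ω ⟶ ω := ψ ≫ inv (j ≫ ψ)
      have hjr : j ≫ r = 𝟙 ω := by
        show j ≫ ψ ≫ inv (j ≫ ψ) = 𝟙 ω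
        rw [← Category.assoc, IsIso.hom_inv_id]
      obtain ⟨D, -, ⟨e⟩⟩ := M2.exists_inverse hω
      let pb := Scheme.Modules.pullback i
      let M := CohB1.tensorMod (pb.obj D) ωW
      let Φ := pb ⋙ M2.tensorR M
      let a : CohB1.tensorMod (pb.obj ω) M ≅ ωW := (M2.tensorAssoc (pb.obj ω) (pb.obj D) ωW).symm ≪≫
        M2.tensorIso ((M2.pullTensorIso i ω D).symm ≪≫ pb.mapIso e ≪≫ PicLoc.pullbackStructureIso i) (Iso.refl ωW) ≪≫
        M2.tensorLUnit ωW
      let b : CohB1.tensorMod (pb.obj (CohB1.tensorMod E ω)) M ≅ CohB1.tensorMod (pb.obj E) ωW :=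
        M2.tensorIso (M2.pullTensorIso i E ω) (Iso.refl M) ≪≫ M2.tensorAssoc (pb.obj E) (pb.obj ω) M ≪≫
          M2.tensorIso (Iso.refl (pb.obj E)) a
      have hbv : Subsingleton (Coh.HH W (Φ.obj (CohB1.tensorMod E ω)) 1) := CMReg18.van_iso k b.symm hvan
      refine hW (CMReg18.van_iso k (N := ωW) (M := Φ.obj ω) a (subsingleton_of_forall_eq 0 fun v => ?_))
      have e1 : hmap k (Φ.map j ≫ Φ.map r) 1 v = v := by
        rw [← Φ.map_comp, hjr, Φ.map_id]
        exact CurveCoh17.hmap_id k _ 1 v
      rw [CurveCoh17.hmap_comp, Subsingleton.elim (α := Coh.HH W (Φ.obj (CohB1.tensorMod E ω)) 1) (hmap k (Φ.map j) 1 v) 0,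
        map_zero] at e1
      exact e1.symm
  let ι₀ : ∀ i : Fin n, Coh.structureModule X ⟶ FlatMod.freeMod X n :=
    Sigma.ι (fun _ : Fin n => Coh.structureModule X)
  let π₀ : ∀ i : Fin n, FlatMod.freeMod X n ⟶ Coh.structureModule X := fun i =>
    Sigma.desc fun i' => if i' = i then 𝟙 _ else 0
  have hsum : ∑ i, π₀ i ≫ ι₀ i = 𝟙 (FlatMod.freeMod X n) := Sigma.hom_ext _ _ fun i => by
    rw [Preadditive.comp_sum, Finset.sum_eq_single i]
    · simp [ι₀, π₀]
    · intro b _ hb
      simp [π₀, Ne.symm hb]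
    · simp
  show (M2.tensorR ω).map p ≫ ψ = 0
  have hpsum : p = ∑ i, π₀ i ≫ (ι₀ i ≫ p) := by
    conv_lhs => rw [← Category.id_comp p, ← hsum, Preadditive.sum_comp]
    simp only [Category.assoc]
  rw [hpsum, Functor.map_sum, Preadditive.sum_comp]
  refine Finset.sum_eq_zero fun i _ => ?_
  rw [Functor.map_comp, Category.assoc, key, comp_zero]

end Groth.Agent.CurveH1Min27
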