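import Groth.Agent.Lib.CurveH1Min27.Bound

/-!
# Riemann's inequality from non-injectivity on every component
-/

set_option autoImplicit false
set_option linter.style.haveILetI false
set_option backward.isDefEq.respectTransparency false

universe u

open CategoryTheory CategoryTheory.Limits AlgebraicGeometry TopologicalSpace Opposite

namespace Groth.Agent.CurveH1Min27

open Groth.Agent.M1 Groth.Agent.CurveCoh17
open TFOne27 (GenClosed)

variable {X : Scheme.{u}} {k : Type u} [Field k] [X.Over (Spec (CommRingCat.of k))]

/-- Classes killed by a quotient come from a map which is onto where the quotient forgets. -/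
theorem exists_preimage_h1 (hX : CurveLike k X) {A N G : X.Modules} (hA : Coh.IsCoh A) (hN : Coh.IsCoh N)
    (hG : Coh.IsCoh G) (φ : A ⟶ N) (π : N ⟶ G) [Epi π] (hz : φ ≫ π = 0)
    (h : ∀ g ∈ genericPoints (X : Type u),
      Function.Injective (stalkLin π g) ∨ Function.Surjective (stalkLin φ g))
    (x : Coh.HH X N 1) (hx : hmap k π 1 x = 0) : ∃ a, hmap k φ 1 a = x := by
  haveI := hX.noetherian
  haveI := hX.separated
  let π' : cokernel φ ⟶ G := cokernel.desc _ π hz
  haveI : Epi π' := by
    haveI : Epi (cokernel.π φ ≫ π') := by rw [cokernel.π_desc]; infer_instance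
    exact epi_of_epi (cokernel.π φ) π'
  have hC : Coh.IsCoh (cokernel φ) := M1.isCoh_cokernel hA.1 hN φ
  obtain ⟨S, hS⟩ := exists_suppIn_of_maximal hX.dim (CurveCoh17.isCoh_kernel hC hG.1 π') fun g hg => by
    refine eq_zero_stalk_kernel π' g ((injective_iff_map_eq_zero _).mpr fun b hb => ?_)
    obtain ⟨b', rfl⟩ := TFOne27.surjective_stalkLin (cokernel.π φ) g b
    rw [← stalkLin_comp, cokernel.π_desc] at hb
    rcases h g (TFOne27.mem_genericPoints.mpr hg) with hi | hs
    · rw [hi (hb.trans (map_zero _).symm), map_zero]
    · obtain ⟨a, rfl⟩ := hs b'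
      rw [← stalkLin_comp, cokernel.condition, TFOne27.stalkLin_zero]
  have h0 : hmap k (cokernel.π φ) 1 x = 0 := by
    refine hmap_injective_of_epi hX π' hS (Eq.trans ?_ (map_zero _).symm)
    rw [← hmap_comp, cokernel.π_desc]
    exact hx
  obtain ⟨y, hy⟩ := (exact_hmap_hmap k (cokerSC_shortExact φ) 1 x).1 h0
  haveI : Subsingleton (Coh.HH X (kerSC φ).X₁ (1 + 1)) :=
    subsingleton_HH_of_dim hX.dim (kernel φ) (CurveCoh17.isCoh_kernel hA hN.1 φ).1 0
  obtain ⟨z, hz'⟩ := (exact_hmap_hdelta k (kerSC_shortExact φ) 1 y).1 (Subsingleton.elim _ _)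
  refine ⟨z, ?_⟩
  rw [← hy, ← hz', ← hmap_comp]
  exact congrArg (fun φ => hmap k φ 1 z) (Abelian.image.fac φ).symm

/-- The reduced ideal of the components with the given generic points. -/
noncomputable abbrev J (S : Set X) (hS : S.Finite) : X.IdealSheafData :=
  Scheme.IdealSheafData.vanishingIdeal ⟨span S, isClosed_span hS⟩

theorem stalk_idealι_eq_zero [AlgebraicGeometry.IsReduced X] [IsLocallyNoetherian X] {S : Set X} (hS : S.Finite)
    (hSg : S ⊆ genericPoints (X : Type u)) {η : X} (hη : η ∈ S)
    (a : (ClSub.idealMod (J S hS)).presheaf.stalk η) : stalkLin (ClSub.idealModι (J S hS)) η a = 0 := by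
  let q : Coh.structureModule X ⟶ TFOne27.OT (span S) (isClosed_span hS) := ClSub.toSubscheme (J S hS)
  haveI : Epi q := M2.epi_toSubscheme _
  refine TFOne27.injective_at_generic TFOne27.isTF1_structureModule.2.2 q (hSg hη) ?_ ?_
  · exact (TFOne27.support_OT _ _).ge ((mem_span_iff hSg (hSg hη)).mpr hη)
  · rw [← stalkLin_comp, show ClSub.idealModι (J S hS) ≫ q = 0 from kernel.condition _, TFOne27.stalkLin_zero,
      map_zero]

theorem surjective_stalk_idealι {S : Set X} (hS : S.Finite) (hSg : S ⊆ genericPoints (X : Type u)) {η : X}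
    (hη : η ∈ genericPoints (X : Type u)) (hn : η ∉ S) :
    Function.Surjective (stalkLin (ClSub.idealModι (J S hS)) η) := by
  refine surjective_stalk_idealModι _ ?_
  rw [Scheme.IdealSheafData.coe_support_vanishingIdeal]
  exact fun h => hn ((mem_span_iff hSg hη).mp h)

/-- If `H¹` drops on omitting any component then `h⁰(N) ≤ h¹(O)`. -/
theorem h0_le_h1 [AlgebraicGeometry.IsReduced X] (hX : CurveLike k X) {N : X.Modules} (hN : TFOne.IsTF1 X N)
    (h : ∀ η ∈ genericPoints (X : Type u), ∃ (G : X.Modules) (π : N ⟶ G),
      TFOne.IsQuotOn X N (span (genericPoints (X : Type u) \ {η})) G π ∧ ¬ Function.Injective (hmap k π 1)) :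
    Module.finrank k (Coh.HH X N 0) ≤ Module.finrank k (Coh.HH X (Coh.structureModule X) 1) := by
  classical
  haveI := hX.noetherian
  haveI := hX.fin _ (CurveCoh17.isCoh_structureModule (X := X)) 1
  haveI := hX.fin N hN.1 0
  haveI := hX.fin N hN.1 1
  have hfin : (genericPoints (X : Type u)).Finite := genericPoints.finite NoetherianSpace.finite_irreducibleComponents
  have hq : ∀ S : Set X, ∃ (G : X.Modules) (π : N ⟶ G),
      TFOne.IsQuotOn X N (span (genericPoints (X : Type u) \ S)) G π := fun S =>
    TFOne27.exists_isQuotOn hN _ (isClosed_span (hfin.subset Set.diff_subset)) (genClosed_span Set.diff_subset)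
  choose GS πS hGS using hq
  let V : Set X → Submodule k (Coh.HH X N 0) := fun S => LinearMap.ker (hmap k (πS S) 0)
  have hV : ∀ (S : Set X) (z : Coh.HH X N 0), z ∈ V S ↔
      ∀ η ∈ genericPoints (X : Type u), η ∉ S → ∀ a, stalkLin (secHom (hh0 N z)) η a = 0 := by
    intro S z
    haveI := (hGS S).1
    have e : z ∈ V S ↔ secHom (hh0 N z) ≫ πS S = 0 := by
      rw [CurveCoh17.secHom_comp, ← hh0_hmap (A := k), LinearMap.mem_ker]
      refine ⟨fun h => ?_, fun h => (hh0 _).injective ?_⟩
      · rw [h, map_zero]; exact unit_hom_ext ((secHom_app_one _).trans rfl)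
      · rw [← secHom_app_one (hh0 (GS S) (hmap k (πS S) 0 z)), h]; exact (map_zero _).symm
    rw [e]
    constructor
    · intro h0 η hη hn a
      refine TFOne27.injective_at_generic hN.2.2 (πS S) hη ?_ ?_
      · rw [(hGS S).2.2.2]; exact (mem_span_iff Set.diff_subset hη).mpr ⟨hη, hn⟩
      · rw [← stalkLin_comp, h0, TFOne27.stalkLin_zero, map_zero]
    · intro h0
      refine TFOne27.hom_eq_zero (hGS S).2.1 (hGS S).2.2.1 _ fun η hη a => ?_
      rw [stalkLin_comp]
      by_cases hn : η ∈ S
      · haveI := TFOne27.subsingleton_of_not_mem_support (F := GS S) (x := η) (by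
          rw [(hGS S).2.2.2]; exact fun h' => ((mem_span_iff Set.diff_subset hη).mp h').2 hn)
        exact Subsingleton.elim _ _
      · rw [h0 η hη hn a, map_zero]
  have key : ∀ (S : Set X) (hS : S.Finite), S ⊆ genericPoints (X : Type u) →
      Module.finrank k (V S) + Module.finrank k (LinearMap.range (hmap k (ClSub.idealModι (J S hS)) 1)) ≤
        Module.finrank k (Coh.HH X (Coh.structureModule X) 1) := by
    intro S hS
    refine Set.Finite.induction_on S hS (motive := fun S hS => S ⊆ genericPoints (X : Type u) →
      Module.finrank k (V S) + Module.finrank k (LinearMap.range (hmap k (ClSub.idealModι (J S hS)) 1)) ≤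
        Module.finrank k (Coh.HH X (Coh.structureModule X) 1)) ?_ ?_
    · intro _
      have h0 : V ∅ = ⊥ := (Submodule.eq_bot_iff _).mpr fun z hz => by
        by_contra hne
        refine hh0_ne_zero hne ?_
        rw [← secHom_app_one (hh0 N z),
          TFOne27.hom_eq_zero hN.1 hN.2.1 _ fun η hη a => (hV ∅ z).mp hz η hη (by simp) a]
        rfl
      rw [h0, finrank_bot, zero_add]
      exact Submodule.finrank_le _
    · intro η S hηS hS ih hsub
      have hSg : S ⊆ genericPoints (X : Type u) := (Set.subset_insert η S).trans hsub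
      have hη : η ∈ genericPoints (X : Type u) := hsub (Set.mem_insert η S)
      have ih' := ih hSg
      obtain ⟨Gη, πη, hGη, hninj⟩ := h η hη
      haveI := hGη.1
      obtain ⟨t, ht, ht0⟩ : ∃ t, hmap k πη 1 t = 0 ∧ t ≠ 0 := by
        by_contra! hh
        exact hninj ((injective_iff_map_eq_zero _).mpr fun t ht => hh t ht)
      haveI : Module.Free k (Coh.HH X N 1) := Module.Free.of_divisionRing k _
      haveI : Module.Projective k (Coh.HH X N 1) := Module.Projective.of_free
      obtain ⟨μ, hμ⟩ := Module.Projective.exists_dual_ne_zero k ht0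
      let A := LinearMap.range (hmap k (ClSub.idealModι (J S hS)) 1)
      let A' := LinearMap.range (hmap k (ClSub.idealModι (J (insert η S) (hS.insert η))) 1)
      have hA' : A' ≤ A := by
        rintro _ ⟨a, rfl⟩
        have hz : ClSub.idealModι (J (insert η S) (hS.insert η)) ≫ ClSub.toSubscheme (J S hS) = 0 := by
          refine idealModι_comp_eq_zero _ _ fun U b hb => ?_
          have hle : J (insert η S) (hS.insert η) ≤ J S hS :=
            Scheme.IdealSheafData.vanishingIdeal_antimono (Set.biUnion_subset_biUnion_left (Set.subset_insert η S))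
          obtain ⟨b', hb'⟩ := (M2.range_idealIncl (J S hS) U).ge (hle U hb)
          rw [← hb']
          exact M2.subschemeι_app_idealIncl (J S hS) b'
        refine ⟨hmap k (kernel.lift _ _ hz) 1 a, ?_⟩
        refine Eq.trans (hmap_comp (A := k) _ _ _ a).symm ?_
        exact congrArg (fun φ => hmap k φ 1 a) (kernel.lift_ι (ClSub.toSubscheme (J S hS)) _ hz)
      haveI : Module.Finite k A := FiniteDimensional.finiteDimensional_submodule A
      let Φ : V (insert η S) →ₗ[k] Module.Dual k A :=
        (LinearMap.lcomp k k A.subtype).comp (((LinearMap.compRight k μ).comp (cupH1 k N)).comp (V (insert η S)).subtype)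
      have hrange : LinearMap.range Φ ≤ (A'.comap A.subtype).dualAnnihilator := by
        rintro _ ⟨z, rfl⟩
        rw [Submodule.mem_dualAnnihilator]
        rintro ⟨a, ha⟩ ha'
        have ha'' : a ∈ A' := ha'
        obtain ⟨b, hb⟩ := ha''
        show μ (hmap k (secHom (hh0 N z.1)) 1 a) = 0
        rw [← hb, ← hmap_comp]
        have h0 : ClSub.idealModι (J (insert η S) (hS.insert η)) ≫ secHom (hh0 N z.1) = 0 := by
          refine TFOne27.hom_eq_zero hN.1 hN.2.1 _ fun ξ hξ c => ?_
          rw [stalkLin_comp]
          by_cases hm : ξ ∈ insert η S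
          · rw [stalk_idealι_eq_zero _ hsub hm c, map_zero]
          · exact (hV _ z.1).mp z.2 ξ hξ hm _
        rw [h0]
        exact (congrArg μ (hmap_zero (A := k) 1 b)).trans (map_zero μ)
      have hker : LinearMap.ker Φ ≤ (V S).comap (V (insert η S)).subtype := by
        intro z hz
        rw [Submodule.mem_comap, Submodule.subtype_apply, hV]
        by_contra hne
        push Not at hne
        obtain ⟨ξ, hξ, hξS, c, hc⟩ := hne
        have hξη : ξ = η := by
          by_contra hh
          exact hc ((hV _ z.1).mp z.2 ξ hξ (fun h' => (Set.mem_insert_iff.mp h').elim hh hξS) c)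
        subst hξη
        let φ := ClSub.idealModι (J S hS) ≫ secHom (hh0 N z.1)
        have hφ : ∀ g ∈ genericPoints (X : Type u), g ≠ ξ → ∀ b, stalkLin φ g b = 0 := by
          intro g hg hgξ b
          rw [stalkLin_comp]
          by_cases hm : g ∈ S
          · rw [stalk_idealι_eq_zero _ hSg hm b, map_zero]
          · exact (hV _ z.1).mp z.2 g hg (fun h' => (Set.mem_insert_iff.mp h').elim hgξ hm) _
        have hz0 : φ ≫ πη = 0 := TFOne27.hom_eq_zero hGη.2.1 hGη.2.2.1 _ fun g hg b => by
          rw [stalkLin_comp]
          by_cases hgξ : g = ξ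
          · haveI := TFOne27.subsingleton_of_not_mem_support (F := Gη) (x := g) (by
              rw [hGη.2.2.2]; exact fun h' => ((mem_span_iff Set.diff_subset hg).mp h').2 hgξ)
            exact Subsingleton.elim _ _
          · rw [hφ g hg hgξ b, map_zero]
        obtain ⟨a, ha⟩ := exists_preimage_h1 hX
          (CurveCoh17.isCoh_kernel CurveCoh17.isCoh_structureModule (M1.isQCoh_push _ (M1.isQCoh_structureModule _)) _)
          hN.1 hGη.2.1 φ πη hz0 (fun g hg => by
            by_cases hgξ : g = ξ
            · subst hgξ
              refine Or.inr fun b => ?_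
              obtain ⟨e⟩ := hN.2.2 g hg
              letI := (TFOne27.isField_stalk hg).toField
              have hd : e (stalkLin (secHom (hh0 N z.1)) g c) ≠ 0 := fun h' => hc (e.injective (h'.trans (map_zero _).symm))
              obtain ⟨c', hc'⟩ := surjective_stalk_idealι hS hSg hg hξS c
              refine ⟨(e b / e (stalkLin (secHom (hh0 N z.1)) g c)) • c', ?_⟩
              rw [map_smul, stalkLin_comp]
              erw [hc']
              exact e.injective (by rw [map_smul, smul_eq_mul, div_mul_cancel₀ _ hd])
            · refine Or.inl (TFOne27.injective_at_generic hN.2.2 πη hg ?_)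
              rw [hGη.2.2.2]; exact (mem_span_iff Set.diff_subset hg).mpr ⟨hg, hgξ⟩) t ht
        refine hμ ?_
        rw [← ha, hmap_comp]
        exact LinearMap.congr_fun (LinearMap.mem_ker.mp hz) ⟨_, LinearMap.mem_range_self _ a⟩
      have e1 := Φ.finrank_range_add_finrank_ker
      have e2 : Module.finrank k (LinearMap.ker Φ) ≤ Module.finrank k (V S) := by
        refine (Submodule.finrank_mono hker).trans ?_
        refine LinearMap.finrank_le_finrank_of_injective
          (f := ((V (insert η S)).subtype.comp ((V S).comap (V (insert η S)).subtype).subtype).codRestrict (V S) fun w => w.2) ?_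
        intro a b hab
        exact Subtype.ext (Subtype.ext (by exact (congrArg (fun v : V S => (v : Coh.HH X N 0)) hab)))
      have e3 := Submodule.finrank_mono hrange
      have e4 := Subspace.finrank_add_finrank_dualAnnihilator_eq (W := (A'.comap A.subtype : Submodule k A))
      have e5 : Module.finrank k (A'.comap A.subtype) = Module.finrank k A' :=
        (Submodule.comapSubtypeEquivOfLe hA').finrank_eq
      have e4' : Module.finrank k A' + Module.finrank k ↥((A'.comap A.subtype).dualAnnihilator) = Module.finrank k A := by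
        rw [← e5]; exact e4
      show Module.finrank k (V (insert η S)) + Module.finrank k A' ≤ _
      change Module.finrank k (V S) + Module.finrank k A ≤ _ at ih'
      omega
  have := key (genericPoints (X : Type u)) hfin le_rfl
  have htop : V (genericPoints (X : Type u)) = ⊤ := (Submodule.eq_top_iff').mpr fun z =>
    (hV _ z).mpr fun η hη hn => absurd hη hn
  rw [htop, finrank_top] at this
  omega

end Groth.Agent.CurveH1Min27
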