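import Groth.Agent.Lib.CurveH1Min27.Filt
import Groth.Agent.Lib.RelAmple18.Generation

/-!
# Global generation from degrees on subcurves
-/

set_option autoImplicit false
set_option linter.style.haveILetI false
set_option backward.isDefEq.respectTransparency false

universe u

open CategoryTheory CategoryTheory.Limits AlgebraicGeometry TopologicalSpace Opposite

namespace Groth.Agent.CurveH1Min27

open Groth.Agent.M1 Groth.Agent.CurveCoh17
open TFOne27 (GenClosed)

variable {X : Scheme.{u}}

theorem shortExact_kerι {A B : X.Modules} (f : A ⟶ B) [Epi f] :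
    (ShortComplex.mk (kernel.ι f) f (kernel.condition f)).ShortExact :=
  { exact := ShortComplex.exact_of_f_is_kernel _ (kernelIsKernel f), epi_g := inferInstance }

variable {k : Type u} [Field k] [X.Over (Spec (CommRingCat.of k))]

theorem finrank_h0_quot_eq_zero (Q : X.IdealSheafData) (h : ∀ z : X, z ∉ (Q.support : Set X)) :
    Module.finrank k (Coh.HH X (ClSub.quotMod Q) 0) = 0 := by
  have hs : SuppIn (ClSub.quotMod Q) (∅ : Finset X) := ⟨by simp, fun z _ a =>
    Subsingleton.elim (h := TFOne27.subsingleton_of_not_mem_support (F := ClSub.quotMod Q)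
      (fun hz => h z (NumPoly18.support_quotMod_subset _ hz))) _ _⟩
  haveI : Subsingleton (Coh.HH X (ClSub.quotMod Q) 0) :=
    ⟨fun a b => (hs.h0Equiv k).injective (funext fun x => absurd x.2 (Finset.notMem_empty _))⟩
  exact Module.finrank_zero_of_subsingleton

theorem h0_structure_pos (hX : CurveLike k X) [Nonempty X] :
    0 < Module.finrank k (Coh.HH X (Coh.structureModule X) 0) := by
  haveI := hX.noetherian
  haveI := hX.fin _ (CurveCoh17.isCoh_structureModule (X := X)) 0
  haveI : Nontrivial Γ(X, (⊤ : X.Opens)) :=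
    (X.presheaf.germ ⊤ (Classical.arbitrary X) trivial).hom.domain_nontrivial
  haveI : Nontrivial Γ(Coh.structureModule X, (⊤ : X.Opens)) := inferInstanceAs (Nontrivial Γ(X, (⊤ : X.Opens)))
  haveI : Nontrivial (Coh.HH X (Coh.structureModule X) 0) := (hh0 _).toEquiv.nontrivial
  exact Module.finrank_pos

variable [IsProper (X ↘ Spec (CommRingCat.of k))]

theorem euler_OT_eq {T : Set X} (hT : IsClosed T) (hd : topologicalKrullDim X ≤ 1) :
    Curv2.euler k X (TFOne27.OT T hT) =
      letI : (VecSt.subsch X T hT).Over (Spec (CommRingCat.of k)) := ⟨VecSt.subschι X T hT ≫ (X ↘ Spec (CommRingCat.of k))⟩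
      (Module.finrank k (Coh.HH (VecSt.subsch X T hT) (Coh.structureModule _) 0) : ℤ) -
        Module.finrank k (Coh.HH (VecSt.subsch X T hT) (Coh.structureModule _) 1) := by
  haveI := CohFound.isNoetherian_of_isProper (X ↘ Spec (CommRingCat.of k))
  let i := VecSt.subschι X T hT
  letI : (VecSt.subsch X T hT).Over (Spec (CommRingCat.of k)) := ⟨i ≫ (X ↘ Spec (CommRingCat.of k))⟩
  haveI : IsProper ((VecSt.subsch X T hT) ↘ Spec (CommRingCat.of k)) :=
    inferInstanceAs (IsProper (i ≫ (X ↘ Spec (CommRingCat.of k))))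
  have hXT := CurveAmple18.curveLike k (VecSt.subsch X T hT)
    (i.isClosedEmbedding.isEmbedding.isInducing.topologicalKrullDim_le.trans hd)
  haveI := hXT.noetherian
  rw [show TFOne27.OT T hT = (Scheme.Modules.pushforward i).obj (Coh.structureModule _) from rfl,
    TFOne27.euler_push T hT _ (M1.isQCoh_structureModule _)]
  exact (hXT.adm CurveCoh17.isCoh_structureModule).euler_eq

/-- The hypothesis on the degrees of subcurves. -/
def DegBig (k : Type u) [Field k] [X.Over (Spec (CommRingCat.of k))] (L : X.Modules) : Prop :=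
  ∀ (T : Set X) (hT : IsClosed T), GenClosed T → ConnectedSpace (VecSt.subsch X T hT) →
    topologicalKrullDim (VecSt.subsch X T hT) = 1 →
      letI : (VecSt.subsch X T hT).Over (Spec (CommRingCat.of k)) := ⟨VecSt.subschι X T hT ≫ (X ↘ Spec (CommRingCat.of k))⟩
      2 * (Module.finrank k (Coh.HH (VecSt.subsch X T hT) (Coh.structureModule _) 1) : ℤ) ≤
        TFOne27.delta k L 1 (TFOne27.OT T hT)

/-- A subcurve missing `Z` carries no `H¹`. -/
theorem subsingleton_h1_of_disjoint [AlgebraicGeometry.IsReduced X] (hd : topologicalKrullDim X ≤ 1) {L : X.Modules}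
    (hL : PicF.IsInvertible L) (hdeg : DegBig k L) (Z : X.IdealSheafData)
    (hgenZ : ∀ η ∈ genericPoints (X : Type u), η ∉ (Z.support : Set X)) {S : Set X}
    (hS : S ⊆ genericPoints (X : Type u)) (hdis : ∀ z ∈ span S, z ∉ (Z.support : Set X)) {G : X.Modules}
    {π : CohB1.tensorMod (ClSub.idealMod Z) L ⟶ G}
    (hG : TFOne.IsQuotOn X (CohB1.tensorMod (ClSub.idealMod Z) L) (span S) G π) :
    Subsingleton (Coh.HH X G 1) := by
  by_contra hne
  haveI := CohFound.isNoetherian_of_isProper (X ↘ Spec (CommRingCat.of k))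
  have hF := isTF1_twist k hd hL Z hgenZ
  obtain ⟨T, hT, G', π', hTS, hTg, hG', hconn, hdimT, hle⟩ :=
    exists_subcurve_within (k := k) hd hF hS hG (not_subsingleton_iff_nontrivial.mp hne)
  let i := VecSt.subschι X T hT
  letI : (VecSt.subsch X T hT).Over (Spec (CommRingCat.of k)) := ⟨i ≫ (X ↘ Spec (CommRingCat.of k))⟩
  haveI : IsProper ((VecSt.subsch X T hT) ↘ Spec (CommRingCat.of k)) :=
    inferInstanceAs (IsProper (i ≫ (X ↘ Spec (CommRingCat.of k))))
  haveI := hconn
  have h1 := delta_le (k := k) hd hL Z hgenZ hT hTg hG'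
  have h2 := hdeg T hT hTg hconn hdimT
  have h3 := euler_OT_eq (k := k) hT hd
  have h4 := h0_structure_pos (CurveAmple18.curveLike k (VecSt.subsch X T hT) hdimT.le)
  rw [finrank_h0_quot_eq_zero (k := k) _ fun z hz => hdis z (hTS ?_)
    (Scheme.IdealSheafData.support_antitone le_sup_left hz)] at h1
  · omega
  · have := Scheme.IdealSheafData.support_antitone (le_sup_right : _ ≤ Z ⊔ Scheme.IdealSheafData.vanishingIdeal ⟨T, hT⟩) hz
    exact (Scheme.IdealSheafData.coe_support_vanishingIdeal (⟨T, hT⟩ : Closeds X)).le this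

/-- A point where no section generates gives classes in `H¹(I_x ⊗ L)`. -/
theorem finrank_le_h1_of_no_gen (hX : CurveLike k X) {L : X.Modules} (hL : PicF.IsInvertible L) {x : X}
    (hx : IsClosed ({x} : Set X)) (hno : ∀ t : Coh.structureModule X ⟶ L, x ∉ CohB1.genLocus L t) :
    Module.finrank k (Coh.HH X (ClSub.quotMod (Scheme.IdealSheafData.vanishingIdeal (⟨{x}, hx⟩ : Closeds X))) 0) ≤
      Module.finrank k (Coh.HH X (CohB1.tensorMod (ClSub.idealMod (Scheme.IdealSheafData.vanishingIdeal (⟨{x}, hx⟩ : Closeds X))) L) 1) := by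
  haveI := hX.noetherian
  let Z := Scheme.IdealSheafData.vanishingIdeal (⟨{x}, hx⟩ : Closeds X)
  have h1L := (M2.isInvertible_iff_isFinLocFreeOfRank_one L).1 hL
  have hLc := CurveCoh17.isCoh_of_ofRank h1L
  have hflat : ∀ y : X, Module.Flat (X.presheaf.stalk y) (L.presheaf.stalk y) := fun y =>
    Module.Flat.of_linearEquiv (CurveCoh17.nonempty_stalk_equiv h1L y).some
  have hT := shortExact_tensorR (M2.shortExact_idealMod (I := Z)) L hflat
  have hIc : Coh.IsCoh (ClSub.idealMod Z) :=
    CurveCoh17.isCoh_kernel CurveCoh17.isCoh_structureModule (M1.isQCoh_push _ (M1.isQCoh_structureModule _)) _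
  let g : CohB1.tensorMod (Coh.structureModule X) L ⟶ CohB1.tensorMod (ClSub.quotMod Z) L :=
    (M2.tensorR L).map (ClSub.toSubscheme Z)
  let eL : CohB1.tensorMod (Coh.structureModule X) L ≅ L := M2.tensorLUnit L
  have hM : PicF.IsInvertible (CohB1.tensorMod (Coh.structureModule X) L) :=
    M2.isInvertible_of_iso eL.symm hL
  have hsup := (suppIn_quotMod_point hx).tensor L
  have hzero : ∀ z, hmap k g 0 z = 0 := fun z => by
    apply (hh0 _).injective
    rw [hh0_hmap, map_zero]
    refine M1.section_ext _ _ fun y hy => ?_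
    rw [map_zero, ← germ_naturality]
    set s := hh0 (CohB1.tensorMod (Coh.structureModule X) L) z with hs
    by_cases hyx : y = x
    · subst hyx
      have hng : ¬ Amp.Gen (Amp.gm _ y (U := ⊤) trivial (Amp.gval (secHom s))) := fun h => by
        have := (Amp.mem_genLocus_iff hM (secHom s)).mpr h
        exact hno (secHom s ≫ eL.hom) (by rw [Amp.genLocus_comp_iso]; exact this)
      rw [Amp.gval_secHom] at hng
      obtain ⟨e⟩ := CurveCoh17.nonempty_stalk_equiv ((M2.isInvertible_iff_isFinLocFreeOfRank_one _).1 hM) y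
      let e' := e ≪≫ₗ LinearEquiv.funUnique (Fin 1) _ _
      set a := (CohB1.tensorMod (Coh.structureModule X) L).presheaf.germ ⊤ y trivial s with ha
      have hm : e' a ∈ IsLocalRing.maximalIdeal (X.presheaf.stalk y) := by
        intro hu
        refine hng ⟨fun r r' hr => ?_, fun b => ?_⟩
        · have := congrArg e' hr
          simp only [map_smul, smul_eq_mul] at this
          exact hu.mul_left_injective this
        · obtain ⟨r, hr⟩ := hu.exists_left_inv
          refine ⟨e' b * r, e'.injective ?_⟩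
          show e' ((e' b * r) • a) = e' b
          rw [map_smul, smul_eq_mul, mul_assoc, hr, mul_one]
      have hae : a = e' a • e'.symm 1 := e'.injective (by rw [map_smul, LinearEquiv.apply_symm_apply, smul_eq_mul, mul_one])
      obtain ⟨eQ⟩ := nonempty_twEquiv (ClSub.quotMod Z) hL y
      show stalkLin g y a = 0
      rw [hae, map_smul]
      refine eQ.injective ?_
      rw [map_smul, map_zero, (quot_point_props hx).1 _ hm]
    · exact hsup.2 y (by simpa using hyx) _
  haveI : Module.Finite k (Coh.HH X ((ShortComplex.mk (ClSub.idealModι Z) (ClSub.toSubscheme Z) (kernel.condition _)).map (M2.tensorR L)).X₁ (0 + 1)) :=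
    hX.fin _ (CurveCoh17.isCoh_tensor hIc hLc) 1
  have hfinQ := hX.fin _ (CurveCoh17.isCoh_quotMod Z) 0
  have hinj : Function.Injective (hdelta k hT 0) := (injective_iff_map_eq_zero _).mpr fun w hw => by
    obtain ⟨z, hz⟩ := (exact_hmap_hdelta k hT 0 w).1 hw
    exact hz.symm.trans (hzero z)
  have := LinearMap.finrank_le_finrank_of_injective hinj
  refine le_trans (le_of_eq ?_) this
  exact ((suppIn_quotMod_point hx).finrank_tensor hfinQ L (CurveCoh17.nonempty_stalk_equiv h1L)).trans (one_mul _) |>.symm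

set_option maxHeartbeats 3200000 in
/-- Sections generate `L` at every closed point. -/
theorem exists_gen_closed [AlgebraicGeometry.IsReduced X] [ConnectedSpace X] (hd : topologicalKrullDim X = 1)
    {L : X.Modules} (hL : PicF.IsInvertible L) (hdeg : DegBig k L) {x : X} (hx : IsClosed ({x} : Set X)) :
    ∃ t : Coh.structureModule X ⟶ L, x ∈ CohB1.genLocus L t := by
  classical
  by_contra! hno
  have hX := CurveAmple18.curveLike k X hd.le
  haveI := hX.noetherian
  let Z := Scheme.IdealSheafData.vanishingIdeal (⟨{x}, hx⟩ : Closeds X)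
  have hZsupp : (Z.support : Set X) = {x} := by simp [Z]
  have hdimx : topologicalKrullDim ({x} : Set X) ≤ 0 := topologicalKrullDim_zero_of_discreteTopology _
  have hgenZ : ∀ η ∈ genericPoints (X : Type u), η ∉ (Z.support : Set X) := fun η hη => by
    rw [hZsupp]; exact generic_not_mem k hd hx hdimx hη
  let F := CohB1.tensorMod (ClSub.idealMod Z) L
  have hF : TFOne.IsTF1 X F := isTF1_twist k hd.le hL Z hgenZ
  let d := Module.finrank k (Coh.HH X (ClSub.quotMod Z) 0)
  have hdF : d ≤ Module.finrank k (Coh.HH X F 1) := finrank_le_h1_of_no_gen hX hL hx hno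
  have hd0 : 0 < d := by
    haveI := hX.fin _ (CurveCoh17.isCoh_quotMod Z) 0
    rw [Module.finrank_pos_iff]
    refine not_subsingleton_iff_nontrivial.mp fun hs => ?_
    obtain ⟨-, a₀, ha₀⟩ := quot_point_props hx
    obtain ⟨z, hz⟩ := ((suppIn_quotMod_point hx).h0Equiv k).surjective fun i =>
      (Finset.mem_singleton.1 i.2).symm ▸ a₀
    exact ha₀ (((congrFun hz ⟨x, Finset.mem_singleton_self x⟩).symm).trans (by
      rw [Subsingleton.elim z 0, map_zero]; rfl))
  have hfin : (genericPoints (X : Type u)).Finite := genericPoints.finite NoetherianSpace.finite_irreducibleComponents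
  let P : ℕ → Prop := fun n => ∃ S ⊆ genericPoints (X : Type u), S.ncard = n ∧
    ∃ (G : X.Modules) (π : F ⟶ G), TFOne.IsQuotOn X F (span S) G π ∧ d ≤ Module.finrank k (Coh.HH X G 1)
  have hP : ∃ n, P n := by
    obtain ⟨G, π, hG⟩ := TFOne27.exists_isQuotOn hF (span (genericPoints (X : Type u))) (isClosed_span hfin)
      (genClosed_span le_rfl)
    refine ⟨_, _, le_rfl, rfl, G, π, hG, ?_⟩
    haveI := hG.1
    obtain ⟨e, -⟩ := TFOne27.nonempty_iso_of_quot hF.2.2 π (𝟙 F) hG.2.1 hG.2.2.1 hF.1 hF.2.1 fun η hη => by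
      simp [hG.2.2.2, (mem_span_iff (le_refl (genericPoints (X : Type u))) hη).mpr hη, TFOne27.mem_support_of_rkOne hF.2.2 hη]
    rwa [(hequiv k e 1).finrank_eq]
  obtain ⟨S, hS, hcard, G, π, hG, hG1⟩ := Nat.find_spec hP
  let T := span S
  have hT : IsClosed T := isClosed_span (hfin.subset hS)
  have hTg : GenClosed T := genClosed_span hS
  have small : ∀ S' ⊆ genericPoints (X : Type u), S'.ncard < S.ncard → ∀ (G' : X.Modules) (π' : F ⟶ G'),
      TFOne.IsQuotOn X F (span S') G' π' → Module.finrank k (Coh.HH X G' 1) < d ∧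
        (x ∉ span S' → Module.finrank k (Coh.HH X G' 1) = 0) := fun S' hS' hlt G' π' hG' => by
    refine ⟨not_le.mp fun h => Nat.find_min hP (hcard ▸ hlt) ⟨S', hS', rfl, G', π', hG', h⟩, fun hxS => ?_⟩
    haveI := subsingleton_h1_of_disjoint (k := k) hd.le hL hdeg Z hgenZ hS'
      (fun z hz hzZ => hxS ((hZsupp.le hzZ : z = x) ▸ hz)) hG'
    exact Module.finrank_zero_of_subsingleton
  have hxT : x ∈ T := by
    by_contra hxT
    haveI := subsingleton_h1_of_disjoint (k := k) hd.le hL hdeg Z hgenZ hS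
      (fun z hz hzZ => hxT ((hZsupp.le hzZ : z = x) ▸ hz)) hG
    rw [Module.finrank_zero_of_subsingleton] at hG1
    omega
  obtain ⟨heG, hcG, htG, hsG⟩ := hG
  haveI := heG
  let i := VecSt.subschι X T hT
  letI : (VecSt.subsch X T hT).Over (Spec (CommRingCat.of k)) := ⟨i ≫ (X ↘ Spec (CommRingCat.of k))⟩
  haveI : IsProper ((VecSt.subsch X T hT) ↘ Spec (CommRingCat.of k)) :=
    inferInstanceAs (IsProper (i ≫ (X ↘ Spec (CommRingCat.of k))))
  have hdT : topologicalKrullDim (VecSt.subsch X T hT) ≤ 1 :=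
    i.isClosedEmbedding.isEmbedding.isInducing.topologicalKrullDim_le.trans hd.le
  have hXT := CurveAmple18.curveLike k (VecSt.subsch X T hT) hdT
  haveI := hXT.noetherian
  obtain ⟨w, hw⟩ := (TFOne27.range_sub T hT).ge hxT
  haveI : Nonempty (VecSt.subsch X T hT) := ⟨w⟩
  let N := (Scheme.Modules.pullback i).obj G
  have hN := TFOne27.isTF1_pullback hF π hT hTg ⟨heG, hcG, htG, hsG⟩
  haveI : N.IsQuasicoherent := hN.1.1
  let u : G ⟶ (Scheme.Modules.pushforward i).obj N := (Scheme.Modules.pullbackPushforwardAdjunction i).unit.app G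
  haveI : IsIso u := TFOne27.isIso_unit_of_support hcG htG T hT hsG
  have eN : Module.finrank k (Coh.HH X G 1) = Module.finrank k (Coh.HH (VecSt.subsch X T hT) N 1) :=
    ((hequiv k (asIso u) 1).trans (nonempty_hequiv_push k i rfl N 1).some).finrank_eq
  haveI := hXT.fin N hN.1 1
  have key : ∀ T' : Set (VecSt.subsch X T hT), IsClosed T' → GenClosed T' → T' ≠ Set.univ →
      ∀ (H : (VecSt.subsch X T hT).Modules) (p : N ⟶ H), TFOne.IsQuotOn _ N T' H p →
        Module.finrank k (Coh.HH (VecSt.subsch X T hT) H 1) < d ∧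
          (w ∉ T' → Module.finrank k (Coh.HH (VecSt.subsch X T hT) H 1) = 0) := by
    intro T' hT' hT'g hne H p hH
    obtain ⟨heH, hcH, htH, hsH⟩ := hH
    haveI := heH
    haveI := TFOne27.epi_push_closed i p
    have hq : TFOne.IsQuotOn X F (i '' T') ((Scheme.Modules.pushforward i).obj H)
        (π ≫ u ≫ (Scheme.Modules.pushforward i).map p) :=
      ⟨inferInstance, ProperFormalH7.isCoh_pushforward_of_isProper i hcH, TFOne27.isTorsionFree_push T hT hTg hcH htH,
        by rw [TFOne27.support_push, hsH]⟩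
    have hcl : IsClosed (i '' T') := i.isClosedEmbedding.isClosedMap T' hT'
    have heq := eq_span hcl (TFOne27.genClosed_image hT hTg hT'g)
    rw [heq] at hq
    have hlt : (i '' T' ∩ genericPoints (X : Type u)).ncard < S.ncard := by
      refine Set.ncard_lt_ncard ⟨fun z hz => ?_, fun hsub => hne ?_⟩ (hfin.subset hS)
      · obtain ⟨⟨v, -, rfl⟩, hz⟩ := hz
        exact (mem_span_iff hS hz).mp ((TFOne27.range_sub T hT).le ⟨v, rfl⟩)
      · refine Set.eq_univ_of_forall fun v => ?_
        obtain ⟨ξ, hξ, hvξ⟩ := Set.mem_iUnion₂.mp ((TFOne27.range_sub T hT).le ⟨v, rfl⟩ : i v ∈ span S)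
        exact i.isClosedEmbedding.injective.mem_set_image.mp
          ((specializes_iff_mem_closure.mpr hvξ).mem_closed hcl (hsub hξ).1)
    haveI : H.IsQuasicoherent := hcH.1
    have eH : Module.finrank k (Coh.HH X ((Scheme.Modules.pushforward i).obj H) 1) =
        Module.finrank k (Coh.HH (VecSt.subsch X T hT) H 1) := (nonempty_hequiv_push k i rfl H 1).some.finrank_eq
    obtain ⟨h1, h2⟩ := small _ Set.inter_subset_right hlt _ _ hq
    rw [eH] at h1 h2
    exact ⟨h1, fun hw' => h2 fun hxs => hw' (i.isClosedEmbedding.injective.mem_set_image.mp (by rw [hw]; exact heq.ge hxs))⟩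
  have hconn : ConnectedSpace (VecSt.subsch X T hT) := by
    haveI : PreconnectedSpace (VecSt.subsch X T hT) := by
      rw [preconnectedSpace_iff_clopen]
      intro A₀ hA₀
      by_contra! hA₀ne
      obtain ⟨A, hA, hAe, hAu, hwA⟩ : ∃ A : Set (VecSt.subsch X T hT), IsClopen A ∧ A ≠ ∅ ∧ A ≠ Set.univ ∧ w ∉ A := by
        by_cases hwA : w ∈ A₀
        · exact ⟨A₀ᶜ, hA₀.compl, fun h => hA₀ne.2 (Set.compl_empty_iff.mp h),
            fun h => hA₀ne.1.ne_empty (Set.compl_univ_iff.mp h), fun h => h hwA⟩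
        · exact ⟨A₀, hA₀, hA₀ne.1.ne_empty, hA₀ne.2, hwA⟩
      have hgen : ∀ B : Set (VecSt.subsch X T hT), IsClopen B → GenClosed B := fun B hB z hz => by
        obtain ⟨g, hgz, hg⟩ := exists_maximal_generization z
        exact ⟨g, TFOne27.mem_genericPoints.mpr hg, hgz.mem_open hB.2 hz, hgz⟩
      obtain ⟨GA, pA, hGA⟩ := TFOne27.exists_isQuotOn hN A hA.1 (hgen A hA)
      obtain ⟨GB, pB, hGB⟩ := TFOne27.exists_isQuotOn hN Aᶜ hA.compl.1 (hgen _ hA.compl)
      obtain ⟨-, hA0⟩ := key A hA.1 (hgen A hA) hAu GA pA hGA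
      obtain ⟨hBd, -⟩ := key Aᶜ hA.compl.1 (hgen _ hA.compl) (fun h => hAe (Set.compl_univ_iff.mp h)) GB pB hGB
      haveI := hGA.1; haveI := hGB.1
      haveI := hXT.fin GA hGA.2.1 1
      haveI := hXT.fin GB hGB.2.1 1
      haveI : Subsingleton (Coh.HH (VecSt.subsch X T hT) GA 1) := Module.finrank_zero_iff.mp (hA0 hwA)
      let ψ : kernel pB ⟶ GA := kernel.ι pB ≫ pA
      haveI : Epi ψ := (epi_iff_stalk ψ).mpr fun y a => by
        by_cases hy : y ∈ A
        · obtain ⟨b, hb⟩ := TFOne27.surjective_stalkLin pA y a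
          haveI : Subsingleton ((stalkAb y).obj GB) :=
            TFOne27.subsingleton_of_not_mem_support (F := GB) (hGB.2.2.2.symm ▸ fun h => h hy)
          obtain ⟨c, hc⟩ := (exact_iff_stalk_eq_zero _).1 (shortExact_kerι pB).exact y b (Subsingleton.elim _ _)
          exact ⟨c, (stalkLin_comp _ _ y c).trans ((congrArg (stalkLin pA y) hc).trans hb)⟩
        · haveI : Subsingleton ((stalkAb y).obj GA) :=
            TFOne27.subsingleton_of_not_mem_support (F := GA) (hGA.2.2.2.symm ▸ hy)
          exact ⟨0, Subsingleton.elim _ _⟩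
      have hKc : Coh.IsCoh (kernel pB) := CurveCoh17.isCoh_kernel hN.1 hGB.2.1.1 pB
      obtain ⟨Sψ, hSψ⟩ := exists_suppIn_of_maximal hXT.dim (CurveCoh17.isCoh_kernel hKc hGA.2.1.1 ψ) fun g hg => by
        refine eq_zero_stalk_kernel ψ g ((injective_iff_map_eq_zero _).mpr fun c hc => ?_)
        refine (mono_iff_stalk (kernel.ι pB)).1 inferInstance g (Eq.trans ?_ (map_zero _).symm)
        have hg' := TFOne27.mem_genericPoints.mpr hg
        by_cases hy : g ∈ A
        · refine TFOne27.injective_at_generic hN.2.2 pA hg' (hGA.2.2.2.symm ▸ hy) (Eq.trans ?_ (map_zero _).symm)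
          exact (stalkLin_comp _ _ g c).symm.trans hc
        · refine TFOne27.injective_at_generic hN.2.2 pB hg' (hGB.2.2.2.symm ▸ hy) (Eq.trans ?_ (map_zero _).symm)
          show stalkLin pB g (stalkLin (kernel.ι pB) g c) = 0
          rw [← stalkLin_comp, kernel.condition, TFOne27.stalkLin_zero]
      haveI : Subsingleton (Coh.HH (VecSt.subsch X T hT) (kernel pB) 1) :=
        (hmap_injective_of_epi hXT ψ hSψ).subsingleton
      have hinj : Function.Injective (hmap k pB 1) := (injective_iff_map_eq_zero _).mpr fun z hz => by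
        obtain ⟨y, hy⟩ := (exact_hmap_hmap k (shortExact_kerι pB) 1 z).1 hz
        rw [← hy]
        exact (congrArg _ (Subsingleton.elim y 0)).trans (map_zero _)
      have : Module.finrank k (Coh.HH (VecSt.subsch X T hT) N 1) ≤ Module.finrank k (Coh.HH (VecSt.subsch X T hT) GB 1) :=
        LinearMap.finrank_le_finrank_of_injective hinj
      omega
    exact ⟨⟨w⟩⟩
  haveI := hconn
  have hdimT : topologicalKrullDim (VecSt.subsch X T hT) = 1 := by
    refine le_antisymm hdT ?_
    obtain ⟨η, hη, hηx⟩ := Set.mem_iUnion₂.mp hxT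
    have hne : η ≠ x := fun h => generic_not_mem k hd hx hdimx (hS hη) h
    obtain ⟨a, ha⟩ := (TFOne27.range_sub T hT).ge (Set.mem_iUnion₂.mpr ⟨η, hη, subset_closure rfl⟩ : η ∈ span S)
    exact one_le_dim_of_specializes (a := a) (b := w)
      (i.isClosedEmbedding.isInducing.specializes_iff.mp (by rw [hw, ha]; exact specializes_iff_mem_closure.mpr hηx))
      fun e => hne (by rw [← ha, ← hw, e])
  have h0N : Module.finrank k (Coh.HH (VecSt.subsch X T hT) N 0) ≤
      Module.finrank k (Coh.HH (VecSt.subsch X T hT) (Coh.structureModule _) 1) := by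
    refine h0_le_h1 hXT hN fun η hη => ?_
    have hfin' : (genericPoints ((VecSt.subsch X T hT) : Type u)).Finite :=
      genericPoints.finite NoetherianSpace.finite_irreducibleComponents
    obtain ⟨H, p, hH⟩ := TFOne27.exists_isQuotOn hN
      (span (genericPoints ((VecSt.subsch X T hT) : Type u) \ {η})) (isClosed_span (hfin'.subset Set.sdiff_subset))
      (genClosed_span Set.sdiff_subset)
    haveI := hXT.fin H hH.2.1 1
    refine ⟨H, p, hH, fun hinj => ?_⟩
    have h1 := (key (span (genericPoints ((VecSt.subsch X T hT) : Type u) \ {η})) (isClosed_span (hfin'.subset Set.sdiff_subset)) (genClosed_span Set.sdiff_subset)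
      (fun h => ((mem_span_iff Set.sdiff_subset hη).mp (h.ge (Set.mem_univ η))).2 rfl) H p hH).1
    have h2 : Module.finrank k (Coh.HH (VecSt.subsch X T hT) N 1) ≤ Module.finrank k (Coh.HH (VecSt.subsch X T hT) H 1) :=
      LinearMap.finrank_le_finrank_of_injective hinj
    omega
  have hGe : Curv2.euler k X G = (Module.finrank k (Coh.HH (VecSt.subsch X T hT) N 0) : ℤ) -
      Module.finrank k (Coh.HH (VecSt.subsch X T hT) N 1) := by
    rw [euler_iso (asIso u), TFOne27.euler_push T hT N hN.1.1]
    exact (hXT.adm hN.1).euler_eq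
  have hQ : Module.finrank k (Coh.HH X (ClSub.quotMod (Z ⊔ Scheme.IdealSheafData.vanishingIdeal ⟨T, hT⟩)) 0) ≤ d := by
    let Q := Z ⊔ Scheme.IdealSheafData.vanishingIdeal ⟨T, hT⟩
    have hkill : ClSub.idealModι Z ≫ ClSub.toSubscheme Q = 0 := idealModι_comp_eq_zero Z _ fun U a ha => by
      obtain ⟨b, hb⟩ := (M2.range_idealIncl Q U).ge ((le_sup_left : Z ≤ Q) U ha)
      rw [← hb]
      exact M2.subschemeι_app_idealIncl Q b
    haveI := (M2.shortExact_idealMod Z).epi_g
    obtain ⟨v, hv⟩ := CokernelCofork.IsColimit.desc' (M2.shortExact_idealMod Z).exact.gIsCokernel _ hkill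
    let v' : ClSub.quotMod Z ⟶ ClSub.quotMod Q := v
    haveI : Epi v' := by
      haveI : Epi (ClSub.toSubscheme Z ≫ v') := by
        rw [show ClSub.toSubscheme Z ≫ v' = ClSub.toSubscheme Q from hv]
        exact M2.epi_toSubscheme Q
      exact epi_of_epi (ClSub.toSubscheme Z) v'
    exact finrank_h0_le_of_epi (k := k) hX v' (CurveCoh17.isCoh_quotMod Z) (CurveCoh17.isCoh_quotMod Q) fun g hg =>
      TFOne27.subsingleton_of_not_mem_support (F := ClSub.quotMod Z) (x := g) fun h =>
        hgenZ g hg (NumPoly18.support_quotMod_subset _ h)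
  have h1 := delta_le (k := k) hd.le hL Z hgenZ hT hTg ⟨heG, hcG, htG, hsG⟩
  have h2 := hdeg T hT hTg hconn hdimT
  have h3 := euler_OT_eq (k := k) hT hd.le
  have h4 := h0_structure_pos hXT
  omega

end Groth.Agent.CurveH1Min27
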