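import Groth.Agent.Lib.CurveH1Min27.AnyApps

/-!
# The dualizing sheaf of a nodal curve of genus one without rational tails
-/

set_option autoImplicit false
set_option linter.style.haveILetI false
set_option linter.unusedSectionVars false
set_option backward.isDefEq.respectTransparency false

universe u

open CategoryTheory CategoryTheory.Limits AlgebraicGeometry TopologicalSpace Opposite

namespace Groth.Agent.CurveH1Min27

open Groth.Agent.M1 Groth.Agent.CurveCoh17
open TFOne27 (GenClosed)

open scoped TensorProduct in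
theorem surjective_of_rTensor_surjective {R A B M : Type*} [CommRing R] [IsLocalRing R] [AddCommGroup A] [Module R A]
    [AddCommGroup B] [Module R B] [AddCommGroup M] [Module R M] [Module.Finite R M] [Nontrivial M]
    (eA : A ≃ₗ[R] R) (eB : B ≃ₗ[R] R) (f : A →ₗ[R] B) (h : Function.Surjective (f.rTensor M)) :
    Function.Surjective f := by
  let r := eB (f (eA.symm 1))
  have hf : ∀ a, f a = eA a • eB.symm r := fun a => by
    conv_lhs => rw [← eA.symm_apply_apply a, ← mul_one (eA a), ← smul_eq_mul, map_smul, map_smul]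
    simp [r]
  let ψ : B ⊗[R] M →ₗ[R] M := TensorProduct.lift ((LinearMap.lsmul R M).comp eB.toLinearMap)
  have hM : ∀ m : M, ∃ m' : M, r • m' = m := fun m => by
    obtain ⟨x, hx⟩ := h (eB.symm 1 ⊗ₜ m)
    have hall : ∀ x : A ⊗[R] M, ∃ m' : M, r • m' = ψ (f.rTensor M x) := by
      intro x
      induction x using TensorProduct.induction_on with
      | zero => exact ⟨0, by simp⟩
      | add x y hx hy =>
        obtain ⟨a, ha⟩ := hx; obtain ⟨b, hb⟩ := hy
        exact ⟨a + b, by rw [smul_add, ha, hb, map_add, map_add]⟩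
      | tmul a m =>
        refine ⟨eA a • m, ?_⟩
        simp [ψ, hf, smul_smul, mul_comm]
    obtain ⟨m', hm'⟩ := hall x
    refine ⟨m', hm'.trans ?_⟩
    rw [hx]; simp [ψ]
  have hr : IsUnit r := by
    by_contra hn
    have hle : (⊤ : Submodule R M) ≤ Ideal.span {r} • (⊤ : Submodule R M) := fun m _ => by
      obtain ⟨m', rfl⟩ := hM m
      exact Submodule.smul_mem_smul (Ideal.mem_span_singleton_self r) trivial
    have hj : Ideal.span {r} ≤ Ideal.jacobson (⊥ : Ideal R) := by
      rw [IsLocalRing.jacobson_eq_maximalIdeal _ bot_ne_top, Ideal.span_singleton_le_iff_mem]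
      exact (IsLocalRing.mem_maximalIdeal r).2 hn
    exact top_ne_bot (Submodule.eq_bot_of_le_smul_of_le_jacobson_bot _ _ Module.Finite.fg_top hle hj)
  intro b
  obtain ⟨u, hu⟩ := hr
  refine ⟨eA.symm (eB b * ((u⁻¹ : Rˣ) : R)), eB.injective ?_⟩
  rw [hf, map_smul, LinearEquiv.apply_symm_apply, LinearEquiv.apply_symm_apply, smul_eq_mul, mul_assoc, ← hu,
    Units.inv_mul, mul_one]

variable {X : Scheme.{u}} {k : Type u} [Field k] [X.Over (Spec (CommRingCat.of k))]
  [IsProper (X ↘ Spec (CommRingCat.of k))] [AlgebraicGeometry.IsReduced X] [ConnectedSpace X]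

theorem stalk_zero_of_h0_zero {M : X.Modules} {S : Finset X} (h : SuppIn M S)
    (hfin : Module.Finite k (Coh.HH X M 0)) (h0 : Module.finrank k (Coh.HH X M 0) = 0) (x : X)
    (a : M.presheaf.stalk x) : a = 0 := by
  classical
  by_contra ha
  have := ncard_le_h0 (k := k) h hfin (A := {x}) fun y hy => by
    rw [Set.mem_singleton_iff.mp hy]; exact nontrivial_of_ne a 0 ha
  rw [Set.ncard_singleton, h0] at this
  omega

variable {ω : X.Modules} (hω : PicF.IsInvertible ω) {t : Coh.HH X ω 1 →ₗ[k] k} (ht : IsTrace k ω t)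
  (hd : topologicalKrullDim X = 1)
  (hnt : ∀ (C : Set X) (hC : C ∈ irreducibleComponents (X : Type u)), ¬ Curv2.IsRationalTail X C hC)

include hω ht hd hnt

theorem nonempty_iso_of_genus_one (h0 : Module.finrank k (Coh.HH X (Coh.structureModule X) 0) = 1)
    (hg : Curv2.genus k X = 1) : Nonempty (ω ≅ Coh.structureModule X) := by
  have hX := CurveAmple18.curveLike k X hd.le
  haveI := hX.noetherian
  have h1L := (M2.isInvertible_iff_isFinLocFreeOfRank_one ω).1 hω
  have hωc := CurveCoh17.isCoh_of_ofRank h1L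
  have hOc := CurveCoh17.isCoh_structureModule (X := X)
  have eω : ∀ x : X, Nonempty (ω.presheaf.stalk x ≃ₗ[X.presheaf.stalk x] X.presheaf.stalk x) := fun x =>
    ⟨(CurveCoh17.nonempty_stalk_equiv h1L x).some ≪≫ₗ LinearEquiv.funUnique (Fin 1) _ _⟩
  have eO : ∀ x : X, Nonempty ((Coh.structureModule X).presheaf.stalk x ≃ₗ[X.presheaf.stalk x] X.presheaf.stalk x) :=
    fun x => ⟨(CurveCoh17.nonempty_stalk_equiv_structureModule x).some ≪≫ₗ LinearEquiv.funUnique (Fin 1) _ _⟩
  have hωnt : ∀ x : X, Nontrivial (ω.presheaf.stalk x) := fun x => (eω x).some.toEquiv.nontrivial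
  have hdeg : Curv2.deg k X ω 1 = 0 := by rw [deg_univ hω ht hd h0, hg]; norm_num
  have heu : Curv2.euler k X ω = 0 := by
    rw [euler_trace hω ht hd.le, (hX.adm hOc).euler_eq, h0]
    rw [Curv2.genus] at hg
    rw [hg]; norm_num
  haveI := hX.fin _ hωc 0
  haveI := hX.fin _ hωc 1
  obtain ⟨z₀, hz₀⟩ : ∃ z : Coh.HH X ω 0, z ≠ 0 := by
    by_contra hn
    push Not at hn
    haveI : Subsingleton (Coh.HH X ω 0) := subsingleton_of_forall_eq 0 hn
    rw [(hX.adm hωc).euler_eq, Module.finrank_zero_of_subsingleton (M := Coh.HH X ω 0)] at heu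
    haveI : Subsingleton (Coh.HH X ω 1) := Module.finrank_zero_iff.mp (by omega : Module.finrank k (Coh.HH X ω 1) = 0)
    have hid : 𝟙 ω = 0 := ht.ext hωc fun x => by rw [Subsingleton.elim x 0]; simp
    obtain ⟨x⟩ := (inferInstance : Nonempty X)
    haveI := hωnt x
    obtain ⟨a, ha⟩ := exists_ne (0 : ω.presheaf.stalk x)
    refine ha ?_
    calc a = stalkLin (𝟙 ω) x a := (congrArg (fun φ => φ a) ((stalkAb x).map_id ω)).symm
      _ = 0 := by rw [hid, TFOne27.stalkLin_zero]
  let s : Coh.structureModule X ⟶ ω := secHom (hh0 ω z₀)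
  let S : Set X := {η | η ∈ genericPoints (X : Type u) ∧ ∃ a, stalkLin s η a ≠ 0}
  have hS : S ⊆ genericPoints (X : Type u) := fun η hη => hη.1
  let T := span S
  have hT : IsClosed T := isClosed_span ((genericPoints.finite NoetherianSpace.finite_irreducibleComponents).subset hS)
  have hTg : GenClosed T := genClosed_span hS
  have hbij : ∀ η ∈ S, Function.Bijective (stalkLin s η) := fun η hη => by
    obtain ⟨hg', a, ha⟩ := hη
    have hF := TFOne27.isField_stalk hg'
    obtain ⟨e1⟩ := eω η
    obtain ⟨e0⟩ := eO η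
    let c := e1 (stalkLin s η (e0.symm 1))
    have hf : ∀ b, e1 (stalkLin s η b) = e0 b * c := fun b => by
      conv_lhs => rw [← e0.symm_apply_apply b, ← mul_one (e0 b), ← smul_eq_mul, map_smul, map_smul, map_smul]
      rfl
    have hc : c ≠ 0 := fun hc => ha (e1.injective (by rw [hf, hc, mul_zero, map_zero]))
    obtain ⟨d, hd'⟩ := hF.mul_inv_cancel hc
    refine ⟨(injective_iff_map_eq_zero _).2 fun b hb => ?_, fun w => ⟨e0.symm (e1 w * d), e1.injective ?_⟩⟩
    · have h2 := hf b
      rw [hb, map_zero] at h2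
      refine e0.injective ?_
      rw [map_zero]
      calc e0 b = e0 b * (c * d) := by rw [hd', mul_one]
        _ = 0 := by rw [← mul_assoc, ← h2, zero_mul]
    · rw [hf, LinearEquiv.apply_symm_apply, mul_assoc, mul_comm d c, hd', mul_one]
  by_cases hTu : T = Set.univ
  · have hall : ∀ η ∈ genericPoints (X : Type u), η ∈ S := fun η hη =>
      (mem_span_iff hS hη).1 (hTu.ge trivial)
    have hOt : TorSh.IsTorsionFree (Coh.structureModule X) := (TFOne27.isTF1_structureModule (X := X)).2.1
    haveI : Mono s := Preadditive.mono_of_kernel_zero (TFOne27.hom_eq_zero hOc hOt _ fun η hη a =>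
      (hbij η (hall η hη)).1 (by rw [← stalkLin_comp, kernel.condition, TFOne27.stalkLin_zero, map_zero]))
    have hSE : (ShortComplex.mk s (cokernel.π s) (cokernel.condition s)).ShortExact :=
      { exact := ShortComplex.exact_of_g_is_cokernel _ (cokernelIsCokernel s) }
    have hC : Coh.IsCoh (cokernel s) := M1.isCoh_cokernel hOc.1 hωc s
    obtain ⟨S', hS'⟩ := exists_suppIn_of_maximal hd.le hC fun g hg' =>
      eq_zero_stalk_cokernel s g (hbij g (hall g (TFOne27.mem_genericPoints.mpr hg'))).2
    have e := euler_add' hX hSE hOc hC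
    rw [hS'.euler_eq (hX.fin _ hC 0), heu, (hX.adm hOc).euler_eq, h0] at e
    rw [Curv2.genus] at hg
    rw [hg] at e
    have hz : Module.finrank k (Coh.HH X (cokernel s) 0) = 0 := by omega
    haveI : Epi s := by
      refine Preadditive.epi_of_cokernel_zero (TFOne27.hom_eq_zero_stalks _ fun x a => ?_)
      exact stalk_zero_of_h0_zero hS' (hX.fin _ hC 0) hz x _
    haveI : IsIso s := isIso_of_mono_of_epi s
    exact ⟨(asIso s).symm⟩
  exfalso
  have hnef : ∀ (E : Set X) (hE : IsClosed E), 0 ≤ TFOne27.delta k ω 1 (TFOne27.OT E hE) := by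
    intro E hE
    refine delta_nonneg_of_comp hd.le hω (fun C hC hC1 => ?_) E hE
    obtain ⟨E', hE', rfl, -⟩ := component_of_integral k hd C hC hC1
    show 0 ≤ degOn k _ ω
    rw [← delta_eq_degOn hω]
    by_cases hu : E' = Set.univ
    · subst hu
      rw [TFOne27.delta_univ, hdeg]
    · exact (comp_deg hω ht hd hnt E' hE' hu).1
  have hcs := isComplSub_closure hT hTg
  obtain ⟨-, -, c3⟩ := euler_compl (k := k) hd.le hT isClosed_closure hcs
  have hsum := (c3 ω hω).2
  have hT0 : TFOne27.delta k ω 1 (TFOne27.OT T hT) = 0 := by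
    have a := hnef T hT
    have b := hnef (closure Tᶜ) isClosed_closure
    omega
  obtain ⟨z, hzT, hzT'⟩ : (T ∩ closure Tᶜ).Nonempty := by
    by_contra he
    rw [Set.not_nonempty_iff_eq_empty] at he
    have hcl : IsClopen T := ⟨hT, by
      rw [show T = (closure Tᶜ)ᶜ from Set.Subset.antisymm
        (fun w hw hw' => (Set.eq_empty_iff_forall_notMem.mp he w) ⟨hw, hw'⟩)
        (fun w hw => by_contra fun hwn => hw (subset_closure hwn))]
      exact isClosed_closure.isOpen_compl⟩
    rcases isClopen_iff.mp hcl with h' | h'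
    · have hs0 : s = 0 := TFOne27.hom_eq_zero hωc (fun x => by
        obtain ⟨e⟩ := eω x
        obtain ⟨e'⟩ := eO x
        haveI := (TFOne27.isTF1_structureModule (X := X)).2.1 x
        exact Function.Injective.moduleIsTorsionFree (e ≪≫ₗ e'.symm) (LinearEquiv.injective _) (map_smul _)) _
        fun η hη a => by
          by_contra hne
          have hm : η ∈ T := (mem_span_iff hS hη).2 ⟨hη, a, hne⟩
          rw [h'] at hm
          exact hm
      refine hz₀ ((hh0 ω).injective ?_)
      rw [← secHom_app_one (hh0 ω z₀), show secHom (hh0 ω z₀) = 0 from hs0, map_zero]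
      rfl
    · exact hTu h'
  let m := M2.tensorMap s (𝟙 (TFOne27.OT T hT))
  have hc := TFOne27.isCoh_OT (X := X) T hT
  have hAc : Coh.IsCoh (CohB1.tensorMod (Coh.structureModule X) (TFOne27.OT T hT)) := CurveCoh17.isCoh_tensor hOc hc
  have hBc : Coh.IsCoh (CohB1.tensorMod ω (TFOne27.OT T hT)) := CurveCoh17.isCoh_tensor hωc hc
  have hgen : ∀ η ∈ genericPoints (X : Type u), Function.Bijective (stalkLin m η) := fun η hη => by
    by_cases hηT : η ∈ T
    · let eι := LinearEquiv.ofBijective (stalkLin s η) (hbij η ((mem_span_iff hS hη).1 hηT))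
      have : (fun a => M2.stalkEquiv ω (TFOne27.OT T hT) η (stalkLin m η a)) =
          fun a => (eι.rTensor ((TFOne27.OT T hT).presheaf.stalk η))
            (M2.stalkEquiv (Coh.structureModule X) (TFOne27.OT T hT) η a) :=
        funext fun a => stalkEquiv_natural _ _ _ a
      have hb : Function.Bijective fun a => (eι.rTensor ((TFOne27.OT T hT).presheaf.stalk η))
          (M2.stalkEquiv (Coh.structureModule X) (TFOne27.OT T hT) η a) :=
        (LinearEquiv.bijective _).comp (LinearEquiv.bijective _)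
      rw [← this] at hb
      exact (Function.Bijective.of_comp_iff' (M2.stalkEquiv ω (TFOne27.OT T hT) η).bijective _).1 hb
    · haveI : Subsingleton ((TFOne27.OT T hT).presheaf.stalk η) :=
        TFOne27.subsingleton_of_not_mem_support (F := TFOne27.OT T hT) (x := η)
          ((TFOne27.support_OT (X := X) T hT).symm ▸ hηT)
      haveI : ∀ A : X.Modules, Subsingleton ((CohB1.tensorMod A (TFOne27.OT T hT)).presheaf.stalk η) := fun A =>
        (M2.stalkEquiv A (TFOne27.OT T hT) η).toEquiv.subsingleton_congr.mpr (subsingleton_of_forall_eq 0 fun x => by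
          induction x using TensorProduct.induction_on with
          | zero => rfl
          | tmul a b => rw [Subsingleton.elim b 0, TensorProduct.tmul_zero]
          | add x y hx hy => rw [hx, hy, add_zero])
      exact ⟨fun a b _ => Subsingleton.elim a b, fun b => ⟨0, Subsingleton.elim _ _⟩⟩
  have hAt : TorSh.IsTorsionFree (CohB1.tensorMod (Coh.structureModule X) (TFOne27.OT T hT)) :=
    TFOne27.tf_of_mono (M2.tensorLUnit (TFOne27.OT T hT)).hom
      (TFOne27.isTorsionFree_push T hT hTg TFOne27.isTF1_structureModule.1 TFOne27.isTF1_structureModule.2.1)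
  haveI : Mono m := Preadditive.mono_of_kernel_zero (TFOne27.hom_eq_zero hAc hAt _ fun η hη a =>
    (hgen η hη).1 (by rw [← stalkLin_comp, kernel.condition, TFOne27.stalkLin_zero, map_zero]))
  have hSE : (ShortComplex.mk m (cokernel.π m) (cokernel.condition m)).ShortExact :=
    { exact := ShortComplex.exact_of_g_is_cokernel _ (cokernelIsCokernel m) }
  have hC : Coh.IsCoh (cokernel m) := M1.isCoh_cokernel hAc.1 hBc m
  obtain ⟨S', hS'⟩ := exists_suppIn_of_maximal hd.le hC fun g hg' =>
    eq_zero_stalk_cokernel m g (hgen g (TFOne27.mem_genericPoints.mpr hg')).2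
  have e := euler_add' hX hSE hAc hC
  rw [hS'.euler_eq (hX.fin _ hC 0), CurveCoh17.euler_iso (M2.tensorLUnit (TFOne27.OT T hT)),
    CurveCoh17.euler_iso (M2.tensorComm ω (TFOne27.OT T hT))] at e
  rw [TFOne27.delta, Nat.cast_one, one_mul] at hT0
  have hz : Module.finrank k (Coh.HH X (cokernel m) 0) = 0 := by omega
  have hsurj : Function.Surjective (stalkLin m z) := fun b =>
    (exact_iff_stalk_eq_zero _).1 hSE.exact z b (stalk_zero_of_h0_zero hS' (hX.fin _ hC 0) hz z _)
  have hsz : Function.Surjective (stalkLin s z) := by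
    haveI : Nontrivial ((TFOne27.OT T hT).presheaf.stalk z) :=
      not_subsingleton_iff_nontrivial.mp ((TFOne27.support_OT (X := X) T hT).ge hzT)
    haveI : Module.Finite (X.presheaf.stalk z) ((TFOne27.OT T hT).presheaf.stalk z) :=
      M1.finite_stalk hc.1 (M1.isFP_isFT (M1.isFP_of_isCoh hc)) z
    refine surjective_of_rTensor_surjective (M := (TFOne27.OT T hT).presheaf.stalk z) (eO z).some (eω z).some _ fun y => ?_
    obtain ⟨a, ha⟩ := hsurj ((M2.stalkEquiv ω (TFOne27.OT T hT) z).symm y)
    refine ⟨M2.stalkEquiv (Coh.structureModule X) (TFOne27.OT T hT) z a, ?_⟩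
    rw [← stalkEquiv_natural s (TFOne27.OT T hT) z a, ha, LinearEquiv.apply_symm_apply]
  obtain ⟨η, hη, hηT', hsp⟩ := hcs.2.1 z hzT'
  have hCs : Coh.IsCoh (cokernel s) := M1.isCoh_cokernel hOc.1 hωc s
  have hηmem : η ∈ CohB1.support (cokernel s) := by
    intro hsub
    haveI : Subsingleton ((cokernel s).presheaf.stalk η) := hsub
    haveI := hωnt η
    obtain ⟨b, hb⟩ := exists_ne (0 : ω.presheaf.stalk η)
    obtain ⟨a, ha⟩ := (exact_iff_stalk_eq_zero _).1
      (ShortComplex.exact_of_g_is_cokernel (ShortComplex.mk s (cokernel.π s) (cokernel.condition s)) (cokernelIsCokernel s))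
      η b (@Subsingleton.elim _ hsub _ _)
    refine hb ?_
    rw [← ha]
    by_contra hne
    exact (hcs.2.2 η hη).1 hηT' ((mem_span_iff hS hη).2 ⟨hη, a, hne⟩)
  exact hsp.mem_closed (M1.isClosed_support hCs.2) hηmem
    (subsingleton_of_forall_eq 0 (eq_zero_stalk_cokernel s z hsz))

end Groth.Agent.CurveH1Min27
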