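import Groth.Agent.Lib.CurveH1Min27.Adj
import Groth.Agent.Lib.SchImage.ReducedKer
import Groth.Agent.Lib.AlgClosedExt25.Geometry
import Groth.Agent.Lib.AmpleFin18.Curves
import Groth.Agent.S1536

/-!
# Connected subcurves of a reduced Gorenstein curve
-/

set_option autoImplicit false
set_option linter.style.haveILetI false
set_option linter.unusedSectionVars false
set_option backward.isDefEq.respectTransparency false

universe u

open CategoryTheory CategoryTheory.Limits AlgebraicGeometry TopologicalSpace Opposite

namespace Groth.Agent.CurveH1Min27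

open Groth.Agent.M1 Groth.Agent.CurveCoh17
open TFOne27 (GenClosed)

variable {X : Scheme.{u}}

/-- An ideal with reduced subscheme is the reduced ideal of its support. -/
theorem eq_vI (J : X.IdealSheafData) [AlgebraicGeometry.IsReduced J.subscheme] :
    J = vI (J.support : Set X) J.support.isClosed := by
  conv_lhs => rw [← J.ker_subschemeι, SchImage.ker_eq_vanishingIdeal J.subschemeι]
  congr 1
  exact Closeds.ext (by
    show closure (Set.range J.subschemeι) = (J.support : Set X)
    rw [Scheme.IdealSheafData.range_subschemeι]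
    exact J.support.isClosed.closure_eq)

theorem mem_genericPoints_of_not_closed [CompactSpace X] (hd : topologicalKrullDim X ≤ 1) {η : X}
    (h : ¬ IsClosed ({η} : Set X)) : η ∈ genericPoints (X : Type u) := by
  refine TFOne27.mem_genericPoints.mpr fun ξ hξ => ?_
  by_contra hne
  obtain ⟨z, hz, hzc⟩ := (isClosed_closure (s := ({η} : Set X))).exists_closed_singleton ((Set.singleton_nonempty η).closure)
  let P : X → IrreducibleCloseds X := fun y => ⟨closure {y}, isIrreducible_singleton.closure, isClosed_closure⟩
  have hlt : ∀ {a b : X}, a ⤳ b → b ≠ a → P b < P a := fun {a b} hab hne => lt_of_le_of_ne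
    (fun w hw => closure_minimal (Set.singleton_subset_iff.mpr (specializes_iff_mem_closure.mp hab)) isClosed_closure hw)
    fun he => hne (Specializes.antisymm (specializes_iff_mem_closure.mpr (by
      have h1 : a ∈ (P a : Set X) := subset_closure rfl
      rw [← he] at h1; exact h1)) hab).eq
  have h1 := hlt (specializes_iff_mem_closure.mpr hz) fun e => h (e ▸ hzc)
  have h2 := hlt hξ fun e => hne e.symm
  let s : LTSeries (IrreducibleCloseds X) := ((RelSeries.singleton _ (P z)).snoc (P η) h1).snoc (P ξ) (by simpa using h2)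
  have h3 := (Order.LTSeries.length_le_krullDim s).trans hd
  simp [s] at h3

variable [IsNoetherian X]

theorem isComplSub_closure {T : Set X} (hT : IsClosed T) (hTg : GenClosed T) :
    IsComplSub T (closure Tᶜ) := by
  let S := genericPoints (X : Type u) \ T
  have hfin : (genericPoints (X : Type u)).Finite := genericPoints.finite NoetherianSpace.finite_irreducibleComponents
  have hsub : closure Tᶜ ⊆ span S := by
    refine closure_minimal (fun y hy => ?_) (isClosed_span (hfin.subset Set.diff_subset))
    obtain ⟨η, hη, hgen⟩ := TFOne27.exists_generic_of_component (irreducibleComponent_mem_irreducibleComponents y)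
    have hsp : η ⤳ y := hgen.specializes mem_irreducibleComponent
    exact Set.mem_iUnion₂.mpr ⟨η, ⟨hη, fun hh => hy (hsp.mem_closed hT hh)⟩, specializes_iff_mem_closure.mp hsp⟩
  refine ⟨hTg, fun x hx => ?_, fun η hη => ⟨fun h => ?_, fun h => subset_closure h⟩⟩
  · obtain ⟨η, hη, hηx⟩ := Set.mem_iUnion₂.mp (hsub hx)
    exact ⟨η, hη.1, subset_closure hη.2, specializes_iff_mem_closure.mpr hηx⟩
  · exact ((mem_span_iff (S := S) Set.diff_subset hη).1 (hsub h)).2

theorem genClosed_of_dim_one (hd : topologicalKrullDim X ≤ 1) {T : Set X} (hT : IsClosed T)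
    (hc : ConnectedSpace (vI T hT).subscheme) (hd1 : topologicalKrullDim (vI T hT).subscheme = 1) :
    GenClosed T := by
  let Y := (vI T hT).subscheme
  let i := (vI T hT).subschemeι
  haveI : IsNoetherian Y := by
    haveI : IsLocallyNoetherian Y := LocallyOfFiniteType.isLocallyNoetherian i
    haveI : CompactSpace Y := QuasiCompact.compactSpace_of_compactSpace i
    exact { }
  have hr : Set.range i = T := TFOne27.range_sub T hT
  intro x hx
  obtain ⟨y, rfl⟩ := hr.ge hx
  obtain ⟨η, hη, hgen⟩ := TFOne27.exists_generic_of_component (irreducibleComponent_mem_irreducibleComponents y)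
  have hsp : η ⤳ y := hgen.specializes mem_irreducibleComponent
  refine ⟨i η, mem_genericPoints_of_not_closed hd fun hcl => ?_, hr.le ⟨η, rfl⟩, hsp.map i.continuous⟩
  have hclη : IsClosed ({η} : Set Y) := by
    have : ({η} : Set Y) = i ⁻¹' {i η} := Set.ext fun w => ⟨fun h => by rw [Set.mem_singleton_iff.mp h]; rfl,
      fun h => i.isClosedEmbedding.injective h⟩
    rw [this]
    exact hcl.preimage i.continuous
  have hop : IsOpen ({η} : Set Y) := by
    let S := genericPoints (Y : Type u) \ {η}
    have hS : ({η} : Set Y)ᶜ = span S := by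
      ext w
      refine ⟨fun hw => ?_, fun hw => ?_⟩
      · obtain ⟨θ, hθ, hg⟩ := TFOne27.exists_generic_of_component (irreducibleComponent_mem_irreducibleComponents w)
        have hs : θ ⤳ w := hg.specializes mem_irreducibleComponent
        refine Set.mem_iUnion₂.mpr ⟨θ, ⟨hθ, fun e => hw ?_⟩, specializes_iff_mem_closure.mp hs⟩
        rw [Set.mem_singleton_iff.mp e] at hs
        exact hs.mem_closed hclη rfl
      · rintro (rfl : w = η)
        exact ((mem_span_iff (S := S) Set.diff_subset hη).1 hw).2 rfl
    exact isClosed_compl_iff.mp (hS ▸ isClosed_span ((genericPoints.finite NoetherianSpace.finite_irreducibleComponents).subset Set.diff_subset))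
  haveI := hc
  have hu : ({η} : Set Y) = Set.univ := IsClopen.eq_univ ⟨hclη, hop⟩ (Set.singleton_nonempty η)
  haveI : Subsingleton Y := ⟨fun a b => (hu.ge trivial : a ∈ ({η} : Set Y)).trans (hu.ge trivial : b ∈ ({η} : Set Y)).symm⟩
  haveI : Subsingleton (IrreducibleCloseds Y) := ⟨fun a b => IrreducibleCloseds.ext
    ((Set.univ_subset_iff.mp fun w _ => by obtain ⟨v, hv⟩ := a.isIrreducible.nonempty; exact Subsingleton.elim v w ▸ hv).trans
      (Set.univ_subset_iff.mp fun w _ => by obtain ⟨v, hv⟩ := b.isIrreducible.nonempty; exact Subsingleton.elim v w ▸ hv).symm)⟩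
  have h0 : topologicalKrullDim Y ≤ 0 := Order.krullDim_nonpos_of_subsingleton
  rw [show topologicalKrullDim Y = 1 from hd1] at h0
  exact absurd h0 (by decide)

variable {k : Type u} [Field k] [X.Over (Spec (CommRingCat.of k))] [IsProper (X ↘ Spec (CommRingCat.of k))]

variable (k) in
/-- The degree of `L` on a subscheme. -/
noncomputable abbrev degOn (J : X.IdealSheafData) (L : X.Modules) : ℤ :=
  @Curv2.deg k _ J.subscheme ⟨J.subschemeι ≫ (X ↘ Spec (CommRingCat.of k))⟩
    ((Scheme.Modules.pullback J.subschemeι).obj L) 1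

variable (k) in
/-- The genus of a subscheme. -/
noncomputable abbrev genusOn (J : X.IdealSheafData) : ℕ :=
  @Curv2.genus k _ J.subscheme ⟨J.subschemeι ≫ (X ↘ Spec (CommRingCat.of k))⟩

variable (k) in
/-- The length of the meeting of a subcurve with the rest. -/
noncomputable abbrev meetJ (J : X.IdealSheafData) : ℕ :=
  Module.finrank k (Coh.HH X (ClSub.quotMod (J ⊔ (Scheme.IdealSheafData.vanishingIdeal
    ⟨closure ((J.support : Set X)ᶜ), isClosed_closure⟩))) 0)

theorem delta_eq_degOn {L : X.Modules} (hL : PicF.IsInvertible L) {T : Set X} (hT : IsClosed T) :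
    TFOne27.delta k L 1 (TFOne27.OT T hT) = degOn k (vI T hT) L :=
  TFOne27.delta_OT (k := k) T hT ((M2.isInvertible_iff_isFinLocFreeOfRank_one L).1 hL)

theorem degOn_pow {L : X.Modules} (hL : PicF.IsInvertible L) (hd : topologicalKrullDim X ≤ 1) {T : Set X}
    (hT : IsClosed T) : ∀ n : ℕ, TFOne27.delta k (CohB1.tensorPow L n) 1 (TFOne27.OT T hT) =
      n * TFOne27.delta k L 1 (TFOne27.OT T hT) := by
  have hdelta : ∀ M : X.Modules,
      NumPoly18.cdeg k M (TFOne27.OT T hT) = TFOne27.delta k M 1 (TFOne27.OT T hT) := fun M => by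
    rw [NumPoly18.cdeg_eq, TFOne27.delta, Nat.cast_one, one_mul, Int.cast_sub]
  have hs : topologicalKrullDim (CohB1.support (TFOne27.OT (X := X) T hT)) ≤ ((0 + 1 : ℕ) : WithBot ℕ∞) := by
    simpa using Topology.IsInducing.subtypeVal.topologicalKrullDim_le.trans hd
  intro n
  induction n with
  | zero =>
    have h0 := hdelta (CohB1.tensorPow L 0)
    rw [show CohB1.tensorPow L 0 = Coh.structureModule X from rfl, NumPoly18.cdeg, NumPoly18.const_eq_cons,
      NumPoly18.md_cons_unit] at h0
    rw [Nat.cast_zero, zero_mul, show CohB1.tensorPow L 0 = Coh.structureModule X from rfl]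
    exact_mod_cast h0.symm
  | succ n ih =>
    have e := NumPoly18.md_cons_tensor (k := k) (M2.isInvertible_tensorPow hL n) hL (M := fun i : Fin 0 => i.elim0)
      (fun i => i.elim0) (TFOne27.isCoh_OT (X := X) T hT) hs
    have hc : ∀ A : X.Modules, (Fin.cons A (fun i : Fin 0 => i.elim0) : Fin (0 + 1) → X.Modules) = fun _ => A :=
      fun A => funext fun i => Fin.cases (by simp) (fun j => j.elim0) i
    simp only [hc] at e
    change NumPoly18.cdeg k (CohB1.tensorPow L (n + 1)) (TFOne27.OT T hT) =
      NumPoly18.cdeg k (CohB1.tensorPow L n) (TFOne27.OT T hT) + NumPoly18.cdeg k L (TFOne27.OT T hT) at e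
    rw [hdelta, hdelta, hdelta, ih] at e
    have e' : TFOne27.delta k (CohB1.tensorPow L (n + 1)) 1 (TFOne27.OT T hT) =
        (n : ℤ) * TFOne27.delta k L 1 (TFOne27.OT T hT) + TFOne27.delta k L 1 (TFOne27.OT T hT) := by
      exact_mod_cast e
    rw [e']
    push_cast
    ring

variable [AlgebraicGeometry.IsReduced X] [IsAlgClosed k] [ConnectedSpace X]

theorem euler_connected_sub (hd : topologicalKrullDim X ≤ 1) {T : Set X} (hT : IsClosed T)
    (hc : ConnectedSpace (vI T hT).subscheme) :
    Curv2.euler k X (TFOne27.OT T hT) = 1 - genusOn k (vI T hT) := by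
  letI : (vI T hT).subscheme.Over (Spec (CommRingCat.of k)) :=
    ⟨(vI T hT).subschemeι ≫ (X ↘ Spec (CommRingCat.of k))⟩
  haveI := hc
  haveI : AlgebraicGeometry.IsReduced (vI T hT).subscheme :=
    inferInstanceAs (AlgebraicGeometry.IsReduced (VecSt.subsch X T hT))
  haveI : IsProper ((vI T hT).subscheme ↘ Spec (CommRingCat.of k)) :=
    inferInstanceAs (IsProper ((vI T hT).subschemeι ≫ (X ↘ Spec (CommRingCat.of k))))
  haveI := AlgClosedExt25.geometricallyReduced_of_isReduced ((vI T hT).subscheme ↘ Spec (CommRingCat.of k))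
  haveI := AlgClosedExt25.geometricallyConnected_of_connected ((vI T hT).subscheme ↘ Spec (CommRingCat.of k))
  rw [euler_OT_eq hT hd]
  have h := S1536.result k (vI T hT).subscheme
  rw [show Module.finrank k (Coh.HH (VecSt.subsch X T hT) (Coh.structureModule _) 0) = 1 from h]
  rfl

theorem euler_X (hd : topologicalKrullDim X ≤ 1) :
    Curv2.euler k X (Coh.structureModule X) = 1 - Curv2.genus k X := by
  haveI := AlgClosedExt25.geometricallyReduced_of_isReduced (X ↘ Spec (CommRingCat.of k))
  haveI := AlgClosedExt25.geometricallyConnected_of_connected (X ↘ Spec (CommRingCat.of k))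
  rw [((CurveAmple18.curveLike k X hd).adm CurveCoh17.isCoh_structureModule).euler_eq, S1536.result k X]
  rfl

/-- The numerical data of a connected subcurve. -/
theorem gor_data {ω : X.Modules} (hω : PicF.IsInvertible ω) {t : Coh.HH X ω 1 →ₗ[k] k}
    (ht : IsTrace k ω t) (hd : topologicalKrullDim X ≤ 1) (J : X.IdealSheafData)
    (hr : AlgebraicGeometry.IsReduced J.subscheme) (hc : ConnectedSpace J.subscheme)
    (h1 : topologicalKrullDim J.subscheme = 1) :
    degOn k J ω = 2 * (genusOn k J : ℤ) - 2 + meetJ k J ∧
      (meetJ k J = 0 → ∀ L : X.Modules, PicF.IsInvertible L → degOn k J L = Curv2.deg k X L 1) := by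
  obtain ⟨T, hT, rfl⟩ : ∃ (T : Set X) (hT : IsClosed T), J = vI T hT := ⟨_, _, eq_vI J⟩
  have hg := genClosed_of_dim_one hd hT hc h1
  have hsupp : ((vI T hT).support : Set X) = T := Scheme.IdealSheafData.coe_support_vanishingIdeal _
  have hm : meetJ k (vI T hT) = meet k T (closure Tᶜ) hT isClosed_closure := by
    have : (⟨closure (((vI T hT).support : Set X)ᶜ), isClosed_closure⟩ : Closeds X) =
        ⟨closure Tᶜ, isClosed_closure⟩ := Closeds.ext (by rw [hsupp])
    unfold meetJ meet vI
    rw [this]
  have hcs := isComplSub_closure hT hg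
  refine ⟨?_, fun h0 => ?_⟩
  · rw [← delta_eq_degOn hω hT, adjunction hω ht hd hT isClosed_closure hcs,
      euler_connected_sub hd hT hc, hm]
    ring
  · rw [hm] at h0
    have hu : T = Set.univ := by
      by_contra hne
      let Q := vI T hT ⊔ vI (closure Tᶜ) isClosed_closure
      obtain ⟨z, hz⟩ : ((Q.support : Set X)).Nonempty := by
        by_contra he
        rw [Set.not_nonempty_iff_eq_empty, Scheme.IdealSheafData.support_sup, Closeds.coe_inf,
          Scheme.IdealSheafData.coe_support_vanishingIdeal, Scheme.IdealSheafData.coe_support_vanishingIdeal] at he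
        have hcl : IsClopen T := ⟨hT, by
          rw [show T = (closure Tᶜ)ᶜ from Set.Subset.antisymm
            (fun w hw hw' => (Set.eq_empty_iff_forall_notMem.mp he w) ⟨hw, hw'⟩)
            (fun w hw => by_contra fun hwn => hw (subset_closure hwn))]
          exact isClosed_closure.isOpen_compl⟩
        rcases isClopen_iff.mp hcl with h' | h'
        · haveI := hc
          obtain ⟨y⟩ := (inferInstance : Nonempty (vI T hT).subscheme)
          have := (TFOne27.range_sub T hT).le ⟨y, rfl⟩
          exact (Set.ext_iff.mp h' _).1 this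
        · exact hne h'
      letI : Q.subscheme.Over (Spec (CommRingCat.of k)) := ⟨Q.subschemeι ≫ (X ↘ Spec (CommRingCat.of k))⟩
      haveI : IsProper (Q.subscheme ↘ Spec (CommRingCat.of k)) :=
        inferInstanceAs (IsProper (Q.subschemeι ≫ (X ↘ Spec (CommRingCat.of k))))
      haveI : Nonempty Q.subscheme := by
        obtain ⟨w, -⟩ := Q.range_subschemeι.ge hz
        exact ⟨w⟩
      haveI : (Coh.structureModule Q.subscheme).IsQuasicoherent := M1.isQCoh_structureModule _
      have hpos := h0_structure_pos (k := k) (CurveAmple18.curveLike k Q.subscheme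
        (Q.subschemeι.isClosedEmbedding.isInducing.topologicalKrullDim_le.trans hd))
      rw [← (CurveCoh17.nonempty_hequiv_push k Q.subschemeι rfl (Coh.structureModule Q.subscheme) 0).some.finrank_eq] at hpos
      exact absurd h0 (Nat.pos_iff_ne_zero.mp hpos)
    intro L hL
    subst hu
    rw [← delta_eq_degOn hL hT, TFOne27.delta_univ]

theorem gor_total {ω : X.Modules} (hω : PicF.IsInvertible ω) {t : Coh.HH X ω 1 →ₗ[k] k}
    (ht : IsTrace k ω t) (hd : topologicalKrullDim X ≤ 1) :
    Curv2.deg k X ω 1 = 2 * (Curv2.genus k X : ℤ) - 2 := by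
  rw [Curv2.deg, euler_trace hω ht hd, euler_X hd]
  push_cast
  ring

end Groth.Agent.CurveH1Min27
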