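import Groth.Agent.Lib.CurveH1Min27.GorApps

/-!
# Balanced invertible sheaves on reduced Gorenstein curves
-/

set_option autoImplicit false
set_option linter.style.haveILetI false
set_option linter.unusedSectionVars false
set_option backward.isDefEq.respectTransparency false

universe u

open CategoryTheory CategoryTheory.Limits AlgebraicGeometry TopologicalSpace Opposite

namespace Groth.Agent.CurveH1Min27

open Groth.Agent.M1 Groth.Agent.CurveCoh17
open TFOne27 (GenClosed)

variable {X : Scheme.{u}} {k : Type u} [Field k] [X.Over (Spec (CommRingCat.of k))]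

variable (k) in
/-- The balancing condition. -/
def Bal (ω L : X.Modules) : Prop :=
  ∀ J : X.IdealSheafData, AlgebraicGeometry.IsReduced J.subscheme → ConnectedSpace J.subscheme →
    topologicalKrullDim J.subscheme = 1 →
      |2 * (2 * (Curv2.genus k X : ℤ) - 2) * degOn k J L - 2 * Curv2.deg k X L 1 * degOn k J ω|
        ≤ (2 * (Curv2.genus k X : ℤ) - 2) * (meetJ k J : ℤ)

variable (k) in
/-- Degrees on connected subcurves are nonnegative. -/
def NefSub (L : X.Modules) : Prop :=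
  ∀ J : X.IdealSheafData, AlgebraicGeometry.IsReduced J.subscheme → ConnectedSpace J.subscheme →
    topologicalKrullDim J.subscheme = 1 → 0 ≤ degOn k J L

/-! ### Arithmetic -/

theorem nef_arith {c D e d gY : ℤ} {m : ℕ} (hc : 2 ≤ c) (hD : c ≤ 2 * D) (hgY : 0 ≤ gY)
    (hd : d = 2 * gY - 2 + m) (h0 : m = 0 → d = c) (hb : |2 * c * e - 2 * D * d| ≤ c * m) :
    (d < 0 → e ≤ 0 ∧ (c < 2 * D → e < 0)) ∧ (d = 0 → -1 ≤ e ∧ e ≤ 1) ∧ (1 ≤ d → c < 2 * D → 0 ≤ e) := by
  rw [abs_le] at hb
  refine ⟨fun hneg => ?_, fun hz => ?_, fun hp hlt => ?_⟩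
  · have hm : m = 1 := by
      rcases Nat.eq_zero_or_pos m with hm | hm
      · have := h0 hm; omega
      · omega
    subst hm
    have : d = -1 := by omega
    subst this
    refine ⟨?_, fun hlt => ?_⟩ <;> nlinarith
  · have hm : (m : ℤ) ≤ 2 := by omega
    subst hz
    constructor <;> nlinarith
  · have h2 : (m : ℤ) ≤ d + 2 := by omega
    nlinarith [mul_nonneg (by linarith : (0 : ℤ) ≤ 2 * D - c - 1) (by linarith : (0 : ℤ) ≤ d - 1)]

variable [IsProper (X ↘ Spec (CommRingCat.of k))] [AlgebraicGeometry.IsReduced X] [IsAlgClosed k] [ConnectedSpace X]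
variable {ω : X.Modules} (hω : PicF.IsInvertible ω) {t : Coh.HH X ω 1 →ₗ[k] k} (ht : IsTrace k ω t)
  (hd : topologicalKrullDim X = 1)

include hω ht hd

theorem sub_data (J : X.IdealSheafData) (hr : AlgebraicGeometry.IsReduced J.subscheme)
    (hc : ConnectedSpace J.subscheme) (h1 : topologicalKrullDim J.subscheme = 1) :
    degOn k J ω = 2 * (genusOn k J : ℤ) - 2 + meetJ k J ∧
      (meetJ k J = 0 → degOn k J ω = 2 * (Curv2.genus k X : ℤ) - 2) ∧
      (meetJ k J = 0 → ∀ L : X.Modules, PicF.IsInvertible L → degOn k J L = Curv2.deg k X L 1) := by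
  haveI := CohFound.isNoetherian_of_isProper (X ↘ Spec (CommRingCat.of k))
  obtain ⟨a, b⟩ := gor_data hω ht hd.le J hr hc h1
  exact ⟨a, fun h => (b h ω hω).trans (gor_total hω ht hd.le), b⟩

omit hω ht in
theorem pow_deg {L : X.Modules} (hL : PicF.IsInvertible L) (T : Set X) (hT : IsClosed T) (n : ℕ) :
    TFOne27.delta k (CohB1.tensorPow L n) 1 (TFOne27.OT T hT) = n * degOn k (vI T hT) L := by
  haveI := CohFound.isNoetherian_of_isProper (X ↘ Spec (CommRingCat.of k))
  rw [degOn_pow hL hd.le hT, delta_eq_degOn hL]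

/-- Criterion for vanishing of `H¹`. -/
theorem subsingleton_h1 {L : X.Modules} (hL : PicF.IsInvertible L)
    (h : ∀ (T : Set X) (hT : IsClosed T), ConnectedSpace (vI T hT).subscheme →
      topologicalKrullDim (vI T hT).subscheme = 1 → TFOne27.delta k L 1 (TFOne27.OT T hT) ≤
        2 * (genusOn k (vI T hT) : ℤ) - 2 → False) :
    Subsingleton (Coh.HH X L 1) := by
  haveI := CohFound.isNoetherian_of_isProper (X ↘ Spec (CommRingCat.of k))
  by_contra hn
  obtain ⟨T, hT, -, hc, h1, hle⟩ := exists_deg_le_of_h1 (k := k) hd hL (not_subsingleton_iff_nontrivial.mp hn)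
  rw [euler_connected_sub hd.le hT hc] at hle
  exact h T hT hc h1 (by linarith)

theorem dualizing_pow (hg : 2 ≤ Curv2.genus k X) (hss : NefSub k ω) (i : ℕ) (hi : 2 ≤ i) :
    Subsingleton (Coh.HH X (CohB1.tensorPow ω i) 1) ∧ Curv2.IsGloballyGenerated (CohB1.tensorPow ω i) := by
  refine ⟨subsingleton_h1 hω ht hd (M2.isInvertible_tensorPow hω i) fun T hT hc h1 hle => ?_,
    globallyGenerated_of_degBig (k := k) hd (M2.isInvertible_tensorPow hω i) fun T hT _ hc h1 => ?_⟩
  · have hr : AlgebraicGeometry.IsReduced (vI T hT).subscheme :=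
      inferInstanceAs (AlgebraicGeometry.IsReduced (VecSt.subsch X T hT))
    obtain ⟨a, b, -⟩ := sub_data hω ht hd _ hr hc h1
    have h0 := hss _ hr hc h1
    rw [pow_deg hd hω] at hle
    have hi' : (2 : ℤ) ≤ i := by exact_mod_cast hi
    have := mul_nonneg (by linarith : (0 : ℤ) ≤ (i : ℤ) - 2) h0
    have hm : meetJ k (vI T hT) = 0 := by nlinarith
    have := b hm
    nlinarith
  · have hr : AlgebraicGeometry.IsReduced (vI T hT).subscheme :=
      inferInstanceAs (AlgebraicGeometry.IsReduced (VecSt.subsch X T hT))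
    obtain ⟨a, b, -⟩ := sub_data hω ht hd _ hr hc h1
    have h0 := hss _ hr hc h1
    rw [pow_deg hd hω]
    show 2 * (genusOn k (vI T hT) : ℤ) ≤ _
    have hi' : (2 : ℤ) ≤ i := by exact_mod_cast hi
    have := mul_nonneg (by linarith : (0 : ℤ) ≤ (i : ℤ) - 2) h0
    rcases h0.lt_or_eq with hp | hz
    · rcases Nat.eq_zero_or_pos (meetJ k (vI T hT)) with hm | hm
      · have := b hm; nlinarith
      · nlinarith
    · have : (meetJ k (vI T hT)) ≠ 0 := fun hm => by have := b hm; omega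
      rw [← hz] at a ⊢
      simp only [mul_zero]
      omega

theorem bal_h1 (hg : 2 ≤ Curv2.genus k X) {L : X.Modules} (hL : PicF.IsInvertible L) (hb : Bal k ω L)
    (hss : NefSub k ω) (hD : 2 * (Curv2.genus k X : ℤ) - 2 < Curv2.deg k X L 1) :
    Subsingleton (Coh.HH X L 1) := by
  refine subsingleton_h1 hω ht hd hL fun T hT hc h1 hle => ?_
  have hr : AlgebraicGeometry.IsReduced (vI T hT).subscheme :=
    inferInstanceAs (AlgebraicGeometry.IsReduced (VecSt.subsch X T hT))
  haveI := CohFound.isNoetherian_of_isProper (X ↘ Spec (CommRingCat.of k))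
  obtain ⟨a, b, -⟩ := sub_data hω ht hd _ hr hc h1
  rw [delta_eq_degOn hL] at hle
  have h0 := hss _ hr hc h1
  have hB := (abs_le.mp (hb _ hr hc h1)).1
  have hg' : (2 : ℤ) ≤ Curv2.genus k X := by exact_mod_cast hg
  have p1 := mul_nonneg (by linarith : (0 : ℤ) ≤ Curv2.deg k X L 1 - (2 * (Curv2.genus k X : ℤ) - 2)) h0
  have p2 : degOn k (vI T hT) L ≤ degOn k (vI T hT) ω - meetJ k (vI T hT) := by linarith
  have p3 := mul_le_mul_of_nonneg_left p2 (by linarith : (0 : ℤ) ≤ 2 * (Curv2.genus k X : ℤ) - 2)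
  have hm : meetJ k (vI T hT) = 0 := by nlinarith
  have hdd := b hm
  rw [hdd, hm, Nat.cast_zero] at hB
  nlinarith [mul_pos (by linarith : (0 : ℤ) < 2 * (Curv2.genus k X : ℤ) - 2)
    (by linarith : (0 : ℤ) < Curv2.deg k X L 1 - (2 * (Curv2.genus k X : ℤ) - 2))]

theorem bal_nef_iff (hg : 2 ≤ Curv2.genus k X) {L : X.Modules} (hL : PicF.IsInvertible L) (hb : Bal k ω L)
    (hD : (Curv2.genus k X : ℤ) - 1 < Curv2.deg k X L 1) :
    NefSub k L ↔ NefSub k ω ∧ ∀ J : X.IdealSheafData, AlgebraicGeometry.IsReduced J.subscheme →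
      ConnectedSpace J.subscheme → topologicalKrullDim J.subscheme = 1 →
        degOn k J ω = 0 → (degOn k J L = 0 ∨ degOn k J L = 1) := by
  have key := fun J hr hc h1 => by
    obtain ⟨a, b, -⟩ := sub_data hω ht hd J hr hc h1
    exact nef_arith (c := 2 * (Curv2.genus k X : ℤ) - 2) (D := Curv2.deg k X L 1)
      (by omega) (by omega) (Nat.cast_nonneg _) a b (hb J hr hc h1)
  refine ⟨fun hn => ⟨fun J hr hc h1 => ?_, fun J hr hc h1 hz => ?_⟩, fun ⟨hn, hex⟩ J hr hc h1 => ?_⟩
  · obtain ⟨k1, -, -⟩ := key J hr hc h1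
    have := hn J hr hc h1
    by_contra hlt
    have := (k1 (not_le.mp hlt)).2 (by omega)
    omega
  · obtain ⟨-, k2, -⟩ := key J hr hc h1
    have := hn J hr hc h1
    have := k2 hz
    omega
  · obtain ⟨-, -, k3⟩ := key J hr hc h1
    rcases (hn J hr hc h1).lt_or_eq with hp | hz
    · exact k3 hp (by omega)
    · rcases hex J hr hc h1 hz.symm with h | h <;> omega

theorem bal_gg (hg : 2 ≤ Curv2.genus k X) {L : X.Modules} (hL : PicF.IsInvertible L) (hb : Bal k ω L)
    (hn : NefSub k L) (hD : 3 * ((Curv2.genus k X : ℤ) - 1) < Curv2.deg k X L 1) :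
    Curv2.IsGloballyGenerated L := by
  haveI := CohFound.isNoetherian_of_isProper (X ↘ Spec (CommRingCat.of k))
  refine globallyGenerated_of_degBig (k := k) hd hL fun T hT _ hc h1 => ?_
  have hr : AlgebraicGeometry.IsReduced (vI T hT).subscheme :=
    inferInstanceAs (AlgebraicGeometry.IsReduced (VecSt.subsch X T hT))
  obtain ⟨a, b, -⟩ := sub_data hω ht hd _ hr hc h1
  have hdn := ((bal_nef_iff hω ht hd hg hL hb (by omega)).1 hn).1 _ hr hc h1
  rw [delta_eq_degOn hL]
  show 2 * (genusOn k (vI T hT) : ℤ) ≤ _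
  have hen := hn _ hr hc h1
  have hB := (abs_le.mp (hb _ hr hc h1)).1
  rcases hdn.lt_or_eq with hp | hz
  · have hpar : 2 ≤ degOn k (vI T hT) ω + meetJ k (vI T hT) := by omega
    have q := mul_nonneg (by linarith : (0 : ℤ) ≤ 2 * Curv2.deg k X L 1 - 3 * (2 * (Curv2.genus k X : ℤ) - 2) - 2)
      (by linarith : (0 : ℤ) ≤ degOn k (vI T hT) ω)
    by_contra hlt
    have q2 : degOn k (vI T hT) L ≤ degOn k (vI T hT) ω + 1 - meetJ k (vI T hT) := by omega
    have q3 := mul_le_mul_of_nonneg_left q2 (by linarith : (0 : ℤ) ≤ 2 * (Curv2.genus k X : ℤ) - 2)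
    have q4 := mul_nonneg (by linarith : (0 : ℤ) ≤ 2 * (Curv2.genus k X : ℤ) - 2)
      (by linarith : (0 : ℤ) ≤ degOn k (vI T hT) ω + meetJ k (vI T hT) - 2)
    nlinarith
  · have : meetJ k (vI T hT) ≠ 0 := fun hm => by have := b hm; omega
    omega

end Groth.Agent.CurveH1Min27
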