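import Groth.Agent.Lib.DlzCurve17.Duality
import Groth.Agent.Lib.BC8.GorExtend
import Groth.Agent.Lib.VB17.Setup
import Groth.Prelude.Def_DDual2

/-!
# The dualizing module of an equidimensional Gorenstein curve
-/

set_option autoImplicit false
set_option linter.style.haveILetI false
set_option backward.isDefEq.respectTransparency false
set_option backward.isDefEq.respectTransparency.types false
set_option maxHeartbeats 1000000

universe u

open CategoryTheory CategoryTheory.Limits AlgebraicGeometry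
attribute [local instance] HasDerivedCategory.standard

noncomputable section

namespace Groth.Agent.CurveH1Min27

variable (k : Type u) [Field k] (X : Scheme.{u}) [X.Over (Spec (CommRingCat.of k))]
  [IsProper (X ↘ Spec (CommRingCat.of k))]

/-- The dualizing module of an equidimensional Gorenstein proper curve is invertible. -/
theorem isInvertible_dualizing_equi (hdim : topologicalKrullDim X = 1)
    (hequi₁ : ∀ Z ∈ irreducibleComponents (X : Type u), topologicalKrullDim Z = 1)
    (hgor : ∀ x : X, LocCoh.IsGorensteinLocalRing (X.presheaf.stalk x))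
    [DCoh.HasRpush (X ↘ Spec (CommRingCat.of k))] (h : DCoh.RpushPreservesQCoh (X ↘ Spec (CommRingCat.of k)))
    [DCoh.HasShriek (X ↘ Spec (CommRingCat.of k)) h]
    (OY : DCoh.DQCoh (Spec (CommRingCat.of k)))
    (hOY : Nonempty (OY.obj ≅ DCoh.inD (Spec (CommRingCat.of k)) (Coh.structureModule (Spec (CommRingCat.of k))))) :
    PicF.IsInvertible (DCoh.dualizingMod (X ↘ Spec (CommRingCat.of k)) h OY 1) := by
  haveI : ∀ (R : CommRingCat.{u}), PreservesFiniteLimits (tilde.functor R) := fun R => M1.tilde_preservesFiniteLimits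
  haveI : ∀ (U V : Scheme.{u}) (j : U ⟶ V) [IsOpenImmersion j],
      PreservesFiniteLimits (Scheme.Modules.restrictFunctor j) := fun U V j _ => inferInstance
  let str := X ↘ Spec (CommRingCat.of k)
  haveI := VB17.isNoetherian_of_over (k := k) (X := X)
  haveI : Flat str := by
    haveI : Subsingleton (Spec (CommRingCat.of k)) := inferInstanceAs (Subsingleton (PrimeSpectrum k))
    haveI : IsReduced (Spec (CommRingCat.of k)) := inferInstance
    infer_instance
  haveI : IsIso (Spec.map (CommRingCat.ofHom (IsLocalRing.residue k))) := by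
    haveI : IsIso (CommRingCat.ofHom (IsLocalRing.residue k)) :=
      (RingEquiv.ofBijective (IsLocalRing.residue k)
        ⟨RingHom.injective _, IsLocalRing.residue_surjective⟩).toCommRingCatIso.isIso_hom
    infer_instance
  have hGM : Dual3.IsGorensteinMor str := S16185.result (A := k) str (𝟙 X)
    (str ≫ inv (Spec.map (CommRingCat.ofHom (IsLocalRing.residue k))))
    (IsPullback.of_horiz_isIso ⟨by simp⟩) ⟨inferInstance, hgor⟩
  obtain ⟨eO⟩ := hOY
  let eOY : BC8.oQ (Spec (CommRingCat.of k)) ≅ OY := ObjectProperty.isoMk _ eO.symm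
  let adjX := DCoh.shriekAdj str h
  let KX : DCoh.D X := DCoh.dualizingCx str h OY
  have hLS := BC8.locShift_of_gorenstein str hGM adjX
  let eK : ((DCoh.shriek str h).obj (BC8.oQ (Spec (CommRingCat.of k)))).obj ≅ KX :=
    (ObjectProperty.ι _).mapIso ((DCoh.shriek str h).mapIso eOY)
  obtain ⟨o⟩ := BC8.nonempty_tilde_shift (CommRingCat.of k) 0
  let eW : (BC8.W₀ k).obj ≅ (DPerf.tildeDD (CommRingCat.of k)).obj (Dual.inD k k) := Iso.refl _
  let eW' : (BC8.W₀ k).obj ≅ OY.obj := eW ≪≫
    (DPerf.tildeDD (CommRingCat.of k)).mapIso ((shiftFunctorZero (Dual.D k) ℤ).app _).symm ≪≫ o ≪≫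
    eqToIso (by rw [neg_zero]) ≪≫ eO.symm
  have hK := BC8.isDualizingSch_proper (A := CommRingCat.of k) (BC8.isDualizing_self_field k) str adjX eW
  have hcl := BC8.dlt_eq_zero_of_isClosed (A := CommRingCat.of k) (BC8.isDualizing_self_field k)
    (BC8.isNormalized_self_field k) str adjX eW
  have hCM : ∀ x : X, LocCoh.IsCohenMacaulayLocalRing (X.presheaf.stalk x) := fun x =>
    haveI := hgor x
    GorenLib.isCohenMacaulayLocalRing_of_gorenstein
  have hequi : ∀ Z ∈ irreducibleComponents (X : Type u), topologicalKrullDim Z = ((1 : ℕ) : WithBot ℕ∞) :=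
    fun Z hZ => (hequi₁ Z hZ).trans (by simp)
  have heq : ∀ x : X, IsClosed ({x} : Set X) → ringKrullDim (X.presheaf.stalk x) = ((1 : ℕ) : WithBot ℕ∞) := fun x hx => by
    obtain ⟨b, hb⟩ := ProjDual12.exists_dim_stalk_eq (X.presheaf.stalk x)
    have hp := ProjDual12.ringKrullDim_stalk_add_sdim_of_pure str hequi hb
    rw [(VarDim.sdim_eq_zero_iff_isClosed str x).2 hx, add_zero] at hp
    rw [hb, hp]
  let c : ℤ := -((1 : ℕ) : ℤ)
  have hz : ∀ t : ℤ, t ≠ c → IsZero (DCoh.HD KX t) := fun t ht =>
    (BC8.isZero_HD_of_CM hK hcl 1 (hdim.trans (by simp)) hCM heq t ht).of_iso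
      ((DerivedCategory.homologyFunctor _ t).mapIso
        ((ObjectProperty.ι _).mapIso ((DCoh.shriek str h).mapIso
          (ObjectProperty.isoMk _ eW'.symm : OY ≅ BC8.W₀ k))))
  haveI : DCoh.HasRpush (𝟙 X) := DBC9.hasRpush _
  let eI : (DMon9.lP (𝟙 X)).obj ((DCoh.shriek str h).obj (BC8.oQ (Spec (CommRingCat.of k)))).obj ≅ KX :=
    (DBC9.lPId X).app _ ≪≫ eK
  obtain ⟨L, hL, ⟨e⟩⟩ := BC8.exists_single_of_locShift (𝟙 X) (fun x => ⟨x, rfl⟩) hLS c fun t ht =>
    (hz t ht).of_iso ((DerivedCategory.homologyFunctor _ t).mapIso eI)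
  exact M2.isInvertible_of_iso (((DerivedCategory.homologyFunctor _ c).mapIso (eK.symm ≪≫ e) ≪≫
    (DerivedCategory.singleFunctorCompHomologyFunctorIso _ c).app L).symm) hL

end Groth.Agent.CurveH1Min27
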