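import Groth.Agent.Lib.CurveH1Min27.Points

/-!
# Vanishing of sections of small degree on curves of genus zero
-/

set_option autoImplicit false
set_option linter.style.haveILetI false
set_option linter.unusedSectionVars false
set_option backward.isDefEq.respectTransparency false

universe u

open CategoryTheory CategoryTheory.Limits AlgebraicGeometry TopologicalSpace Opposite

namespace Groth.Agent.CurveH1Min27

open Groth.Agent.M1 Groth.Agent.CurveCoh17
open TFOne27 (GenClosed)

variable {X : Scheme.{u}} {k : Type u} [Field k] [X.Over (Spec (CommRingCat.of k))]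

/-- A nondegenerate pairing into `ω` bounds sections. -/
theorem IsTrace.h0_le_h1 {ω : X.Modules} {t : Coh.HH X ω 1 →ₗ[k] k} (ht : IsTrace k ω t) {A B : X.Modules}
    (hB : Coh.IsCoh B) [Module.Finite k (Coh.HH X B 1)] (e : CohB1.tensorMod A B ⟶ ω)
    (he : ∀ s : Γ(A, (⊤ : X.Opens)), M2.tensorMap (secHom s) (𝟙 B) ≫ e = 0 → s = 0) :
    Module.finrank k (Coh.HH X A 0) ≤ Module.finrank k (Coh.HH X B 1) := by
  let Θ : Coh.HH X A 0 →ₗ[k] Module.Dual k (Coh.HH X B 1) :=
    LinearMap.mk₂ k (fun z x => t (hmap k e 1 (mulPair k A B 1 z (hmap k (M2.tensorLUnit B).inv 1 x))))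
      (fun z w x => by rw [map_add, LinearMap.add_apply, map_add, map_add])
      (fun c z x => by rw [map_smul, LinearMap.smul_apply, map_smul, map_smul])
      (fun z x y => by rw [map_add, map_add, map_add, map_add])
      (fun c z x => by rw [map_smul, map_smul, map_smul, map_smul])
  refine (LinearMap.finrank_le_finrank_of_injective (f := Θ) ((injective_iff_map_eq_zero Θ).2 fun z hz => ?_)).trans
    Subspace.dual_finrank_eq.le
  have h1 : (M2.tensorLUnit B).inv ≫ M2.tensorMap (secHom (hh0 _ z)) (𝟙 B) ≫ e = 0 := ht.ext hB fun x => by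
    refine Eq.trans ?_ ((congrArg t (CurveCoh17.hmap_zero k 1 x)).trans (map_zero t)).symm
    refine Eq.trans (congrArg t ?_) (LinearMap.congr_fun hz x)
    rw [hmap_comp, hmap_comp]
    rfl
  have h2 : M2.tensorMap (secHom (hh0 _ z)) (𝟙 B) ≫ e = 0 := by
    rw [← cancel_epi (M2.tensorLUnit B).inv, h1, comp_zero]
  exact (hh0 A).injective ((he _ h2).trans (map_zero _).symm)

variable [IsProper (X ↘ Spec (CommRingCat.of k))] [AlgebraicGeometry.IsReduced X]

/-- The degree on a subcurve is the sum over its components. -/
theorem delta_eq_sum (hd : topologicalKrullDim X ≤ 1) {L : X.Modules} (hL : PicF.IsInvertible L)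
    (hfin : ∀ S : Set X, S ⊆ genericPoints (X : Type u) → IsClosed (span S)) :
    ∀ (S : Finset X) (T : Set X) (hT : IsClosed T), GenClosed T → T ∩ genericPoints (X : Type u) = (S : Set X) →
      TFOne27.delta k L 1 (TFOne27.OT T hT) =
        ∑ η ∈ S, TFOne27.delta k L 1 (TFOne27.OT (closure ({η} : Set X)) isClosed_closure) := by
  classical
  intro S
  induction S using Finset.induction with
  | empty =>
    intro T hT hTg he
    have : T = ∅ := Set.eq_empty_of_forall_notMem fun x hx => by
      obtain ⟨η, hη, hηT, -⟩ := hTg x hx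
      have hm : η ∈ T ∩ genericPoints (X : Type u) := ⟨hηT, hη⟩
      rw [he] at hm
      simp at hm
    subst this
    simpa using delta_empty (k := k) hd hL
  | insert η S hηS ih =>
    intro T hT hTg he
    have hm : η ∈ T ∩ genericPoints (X : Type u) := by rw [he]; simp
    have hS' : (T ∩ genericPoints (X : Type u)) \ {η} = (S : Set X) := by
      rw [he, Finset.coe_insert]
      ext x
      constructor
      · rintro ⟨rfl | hx, hne⟩
        · exact absurd rfl hne
        · exact hx
      · exact fun hx => ⟨Or.inr hx, fun e => hηS (by rw [← Set.mem_singleton_iff.mp e]; exact hx)⟩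
    have hsub : (T ∩ genericPoints (X : Type u)) \ {η} ⊆ genericPoints (X : Type u) := fun x hx => hx.1.2
    rw [split_gen hd hL hT hTg hm.2 hm.1 (hfin _ hsub), Finset.sum_insert hηS,
      ih _ (hfin _ hsub) (genClosed_span hsub) (by
        rw [← hS']
        ext x
        exact ⟨fun hx => (mem_span_iff hsub hx.2).1 hx.1, fun hx => ⟨(mem_span_iff hsub hx.1.2).2 hx, hx.1.2⟩⟩)]

variable [IsAlgClosed k] [ConnectedSpace X]

/-- No sections of small degree on a curve of genus zero. -/
theorem subsingleton_h0_tree {ω : X.Modules} (hω : PicF.IsInvertible ω) {t : Coh.HH X ω 1 →ₗ[k] k}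
    (ht : IsTrace k ω t) (hd : topologicalKrullDim X = 1) (hg : Curv2.genus k X = 0) {L : X.Modules}
    (hL : PicF.IsInvertible L) (E₀ : Set X) (hE₀ : E₀ ∈ irreducibleComponents (X : Type u))
    (h₀ : degOn k (vI E₀ (isClosed_of_mem_irreducibleComponents E₀ hE₀)) L ≤ ((E₀ ∩ closure E₀ᶜ).ncard : ℤ) - 1)
    (hE : ∀ (E : Set X) (hE : E ∈ irreducibleComponents (X : Type u)), E ≠ E₀ →
      degOn k (vI E (isClosed_of_mem_irreducibleComponents E hE)) L ≤ ((E ∩ closure Eᶜ).ncard : ℤ) - 2) :
    Subsingleton (Coh.HH X L 0) := by
  have hX := CurveAmple18.curveLike k X hd.le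
  haveI := hX.noetherian
  obtain ⟨D, hD, ⟨eD⟩⟩ := M2.exists_inverse hL
  let B := CohB1.tensorMod D ω
  have hBi : PicF.IsInvertible B := M2.isInvertible_tensor hD hω
  have hBc := CurveCoh17.isCoh_of_ofRank ((M2.isInvertible_iff_isFinLocFreeOfRank_one B).1 hBi)
  haveI := hX.fin _ hBc 1
  let ee : CohB1.tensorMod L B ≅ ω :=
    (M2.tensorAssoc L D ω).symm ≪≫ M2.tensorIso eD (Iso.refl ω) ≪≫ M2.tensorLUnit ω
  have hle := ht.h0_le_h1 hBc ee.hom fun s hs => by
    have h1 : M2.tensorMap (secHom s) (𝟙 B) = 0 := by rw [← cancel_mono ee.hom, hs, zero_comp]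
    haveI := VB17.isEquivalence_tensorR hBi
    have h2 : secHom s = 0 := (M2.tensorR B).map_injective (h1.trans ((M2.tensorR B).map_zero _ _).symm)
    rw [← secHom_app_one s, h2]
    rfl
  have hcomp : ∀ η ∈ genericPoints (X : Type u),
      (-1 : ℤ) ≤ TFOne27.delta k B 1 (TFOne27.OT (closure ({η} : Set X)) isClosed_closure) ∧
      (closure ({η} : Set X) ≠ E₀ → 0 ≤ TFOne27.delta k B 1 (TFOne27.OT (closure ({η} : Set X)) isClosed_closure)) := by
    intro η hη
    let E : Set X := closure {η}
    have hEc : E ∈ irreducibleComponents (X : Type u) := hη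
    let J := vI E isClosed_closure
    have hr : AlgebraicGeometry.IsReduced J.subscheme :=
      inferInstanceAs (AlgebraicGeometry.IsReduced (VecSt.subsch X E isClosed_closure))
    haveI : IrreducibleSpace J.subscheme := irreducibleSpace_of_range J.subschemeι (by
      rw [show Set.range J.subschemeι = E from TFOne27.range_sub E isClosed_closure]
      exact isIrreducible_singleton.closure)
    have hc : ConnectedSpace J.subscheme := inferInstance
    have hsupp : (J.support : Set X) = E := Scheme.IdealSheafData.coe_support_vanishingIdeal _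
    obtain ⟨z, hz, hzc⟩ := (isClosed_closure (s := ({η} : Set X))).exists_closed_singleton ((Set.singleton_nonempty η).closure)
    have hne : z ≠ η := fun e => not_closed_of_generic (k := k) hd hη (e ▸ hzc)
    have h1 : topologicalKrullDim J.subscheme = 1 := (AmpleFin18.dim_subscheme _ hsupp).trans
      (le_antisymm (Topology.IsInducing.subtypeVal.topologicalKrullDim_le.trans hd.le)
        (one_le_dim_of_specializes (a := (⟨η, subset_closure rfl⟩ : closure ({η} : Set X))) (b := ⟨z, hz⟩)
          (Topology.IsInducing.subtypeVal.specializes_iff.mp (specializes_iff_mem_closure.mpr hz))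
          fun e => hne (congrArg Subtype.val e)))
    have hgE := genClosed_of_dim_one hd.le isClosed_closure hc h1
    obtain ⟨a, -⟩ := gor_data hω ht hd.le J hr hc h1
    have hg0 : genusOn k J = 0 := by
      have hb : genusOn k J ≤ Curv2.genus k X := h1_OT_le (k := k) hd.le E isClosed_closure
      omega
    have hcs := isComplSub_closure (T := E) isClosed_closure hgE
    have hm : (E ∩ closure Eᶜ).ncard ≤ meetJ k J := by
      refine ncard_le_quot (k := k) hd.le _ (isClosed_closure.inter isClosed_closure) (fun x hx => ?_) fun g hg' hmem => ?_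
      · rw [Scheme.IdealSheafData.support_sup]
        refine ⟨hsupp.ge hx.1, (Scheme.IdealSheafData.coe_support_vanishingIdeal _).ge ?_⟩
        show x ∈ closure ((J.support : Set X))ᶜ
        rw [hsupp]; exact hx.2
      · rw [Scheme.IdealSheafData.support_sup] at hmem
        have h2 : g ∈ closure ((J.support : Set X))ᶜ :=
          (Scheme.IdealSheafData.coe_support_vanishingIdeal _).le hmem.2
        rw [hsupp] at h2
        exact (hcs.2.2 g hg').1 h2 (hsupp.le hmem.1)
    have hdω := delta_eq_degOn (k := k) hω (isClosed_closure (s := ({η} : Set X)))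
    have hsum := delta_tensor (k := k) hD hω hd.le (isClosed_closure (s := ({η} : Set X)))
    have hu := delta_tensor (k := k) hL hD hd.le (isClosed_closure (s := ({η} : Set X)))
    rw [delta_congr eD, delta_unit hd.le] at hu
    have hdL := delta_eq_degOn (k := k) hL (isClosed_closure (s := ({η} : Set X)))
    refine ⟨?_, fun hne' => ?_⟩
    · by_cases he : E = E₀
      · subst he
        linarith
      · have := hE E hEc he
        linarith
    · have := hE E hEc hne'
      linarith
  have hfin : ∀ S : Set X, S ⊆ genericPoints (X : Type u) → IsClosed (span S) := fun S hS =>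
    isClosed_span ((genericPoints.finite NoetherianSpace.finite_irreducibleComponents).subset hS)
  have hsub : Subsingleton (Coh.HH X B 1) := subsingleton_h1 hω ht hd hBi fun T hT hc h1 hle' => by
    have hb : genusOn k (vI T hT) ≤ Curv2.genus k X := h1_OT_le (k := k) hd.le T hT
    have hg' := genClosed_of_dim_one hd.le hT hc h1
    classical
    have hTfin : (T ∩ genericPoints (X : Type u)).Finite :=
      (genericPoints.finite NoetherianSpace.finite_irreducibleComponents).subset Set.inter_subset_right
    rw [delta_eq_sum hd.le hBi hfin hTfin.toFinset T hT hg' hTfin.coe_toFinset.symm] at hle'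
    have hge : -1 ≤ ∑ η ∈ hTfin.toFinset, TFOne27.delta k B 1 (TFOne27.OT (closure ({η} : Set X)) isClosed_closure) := by
      by_cases hex : ∃ η ∈ hTfin.toFinset, closure ({η} : Set X) = E₀
      · obtain ⟨η, hη, he⟩ := hex
        rw [← Finset.add_sum_erase _ _ hη]
        have h1' := (hcomp η ((hTfin.mem_toFinset.mp hη).2)).1
        have h2' : 0 ≤ ∑ θ ∈ hTfin.toFinset.erase η,
            TFOne27.delta k B 1 (TFOne27.OT (closure ({θ} : Set X)) isClosed_closure) :=
          Finset.sum_nonneg fun θ hθ => by
            obtain ⟨hne, hθ'⟩ := Finset.mem_erase.mp hθ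
            have hgθ := (hTfin.mem_toFinset.mp hθ').2
            refine (hcomp θ hgθ).2 fun e => hne ?_
            have hη' := (hTfin.mem_toFinset.mp hη).2
            exact (TFOne27.mem_genericPoints.mp hη' θ (specializes_iff_mem_closure.mpr (by
              rw [e, ← he]; exact subset_closure rfl)))
        linarith
      · push Not at hex
        have := Finset.sum_nonneg (s := hTfin.toFinset) fun θ hθ => (hcomp θ (hTfin.mem_toFinset.mp hθ).2).2 (hex θ hθ)
        linarith
    omega
  haveI := hsub
  haveI := hX.fin L (CurveCoh17.isCoh_of_ofRank ((M2.isInvertible_iff_isFinLocFreeOfRank_one L).1 hL)) 0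
  rw [Module.finrank_zero_of_subsingleton (R := k) (M := Coh.HH X B 1)] at hle
  exact Module.finrank_zero_iff.mp (Nat.le_zero.mp hle)

end Groth.Agent.CurveH1Min27
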