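import Groth.Agent.Lib.CurveH1Min27.Pointed
import Groth.Agent.Lib.CurveH1Min27.Apps
import Groth.Agent.Lib.CurveH1Min27.AnyField
import Groth.Agent.Lib.CurveH1Min27.TreeH0
import Groth.Agent.Lib.YBlow2.Main

/-!
# Pointed curves of arithmetic genus zero
-/

set_option autoImplicit false
set_option linter.style.haveILetI false
set_option linter.unusedSectionVars false
set_option backward.isDefEq.respectTransparency false

universe u

open CategoryTheory CategoryTheory.Limits AlgebraicGeometry TopologicalSpace Opposite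

namespace Groth.Agent.CurveH1Min27

open Groth.Agent.M1 Groth.Agent.CurveCoh17
open TFOne27 (GenClosed)

section gamma

variable {Y : Scheme.{u}} {k : Type u} [Field k] [IsAlgClosed k] [Y.Over (Spec (CommRingCat.of k))]
  [AlgebraicGeometry.IsReduced Y]

/-- Global functions are determined by their values on a separating finite set. -/
theorem h0_le_ncard (hfin : Module.Finite k (Coh.HH Y (Coh.structureModule Y) 0)) (A : Set Y) (hAf : A.Finite)
    (hA : ∀ s : Γ(Y, (⊤ : Y.Opens)), (∀ a ∈ A, a ∉ Y.basicOpen s) → s = 0) :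
    Module.finrank k (Coh.HH Y (Coh.structureModule Y) 0) ≤ A.ncard := by
  classical
  haveI := hAf.fintype
  letI := (cst k Y).toAlgebra
  haveI : Module.Finite k Γ(Y, (⊤ : Y.Opens)) := finite_gamma hfin
  let P : A → Ideal Γ(Y, (⊤ : Y.Opens)) := fun a => RingHom.ker (Y.evaluation ⊤ (a : Y) trivial).hom
  haveI : ∀ a, (P a).IsPrime := fun a => RingHom.ker_isPrime _
  let χ : A → (Γ(Y, (⊤ : Y.Opens)) →ₗ[k] k) := fun a =>
    ((AlgEquiv.ofBijective (Algebra.ofId k (Γ(Y, (⊤ : Y.Opens)) ⧸ P a))
      IsAlgClosed.algebraMap_bijective_of_isIntegral).symm.toAlgHom.comp (Ideal.Quotient.mkₐ k (P a))).toLinearMap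
  have hinj : Function.Injective (LinearMap.pi χ) := (injective_iff_map_eq_zero _).mpr fun s hs => by
    refine hA s fun a ha => ?_
    have h0 : (AlgEquiv.ofBijective (Algebra.ofId k (Γ(Y, (⊤ : Y.Opens)) ⧸ P ⟨a, ha⟩))
        IsAlgClosed.algebraMap_bijective_of_isIntegral).symm (Ideal.Quotient.mk (P ⟨a, ha⟩) s) = 0 :=
      congrFun hs ⟨a, ha⟩
    exact (Y.evaluation_eq_zero_iff_notMem_basicOpen (U := ⊤) a trivial s).mp
      (Ideal.Quotient.eq_zero_iff_mem.mp ((EmbeddingLike.map_eq_zero_iff).mp h0))
  rw [← finrank_gamma]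
  refine (LinearMap.finrank_le_finrank_of_injective hinj).trans_eq ?_
  rw [Module.finrank_fintype_fun_eq_card, ← Nat.card_eq_fintype_card, Nat.card_coe_set_eq]

omit [IsAlgClosed k] in
/-- Non-vanishing loci of global functions are open and closed. -/
theorem isClosed_basicOpen (hfin : Module.Finite k (Coh.HH Y (Coh.structureModule Y) 0))
    (s : Γ(Y, (⊤ : Y.Opens))) : IsClosed (Y.basicOpen s : Set Y) := by
  letI := (cst k Y).toAlgebra
  haveI : Module.Finite k Γ(Y, (⊤ : Y.Opens)) := finite_gamma hfin
  haveI : IsArtinianRing Γ(Y, (⊤ : Y.Opens)) := isArtinian_of_tower k inferInstance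
  obtain ⟨n, y, hy⟩ := IsArtinian.exists_pow_succ_smul_dvd s (1 : Γ(Y, (⊤ : Y.Opens)))
  rw [smul_eq_mul, smul_eq_mul, mul_one] at hy
  have hz : s * (1 - s * y) = 0 := by
    haveI : _root_.IsReduced Γ(Y, (⊤ : Y.Opens)) := inferInstance
    refine IsNilpotent.eq_zero ⟨n + 1, ?_⟩
    have hy' : s ^ n * (1 - s * y) = 0 := by rw [mul_sub, mul_one, ← mul_assoc, ← pow_succ, hy, sub_self]
    rw [mul_pow, pow_succ s n, pow_succ' (1 - s * y) n]
    calc s ^ n * s * ((1 - s * y) * (1 - s * y) ^ n) = s * (1 - s * y) ^ n * (s ^ n * (1 - s * y)) := by ring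
      _ = 0 := by rw [hy', mul_zero]
  have hu : (s * y) * (1 - s * y) = 0 := by rw [mul_comm s y, mul_assoc, mul_comm y s, hz, mul_zero]
  have e : (Y.basicOpen s : Set Y) = (Y.basicOpen (1 - s * y) : Set Y)ᶜ := by
    refine Set.ext fun x => ⟨fun hx hx' => ?_, fun hx => ?_⟩
    · have hm : x ∈ Y.basicOpen (s * (1 - s * y)) := by rw [Scheme.basicOpen_mul]; exact ⟨hx, hx'⟩
      rw [hz, Scheme.basicOpen_zero] at hm
      exact hm
    · rcases IsLocalRing.isUnit_or_isUnit_one_sub_self (Y.presheaf.germ ⊤ x trivial (s * y)) with h | h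
      · rw [map_mul] at h
        exact (Scheme.mem_basicOpen Y s x (trivial : x ∈ (⊤ : Y.Opens))).mpr (isUnit_of_mul_isUnit_left h)
      · exact absurd ((Scheme.mem_basicOpen Y (1 - s * y : Γ(Y, (⊤ : Y.Opens))) x (trivial : x ∈ (⊤ : Y.Opens))).mpr
          (by rw [map_sub, map_one]; exact h)) hx
  rw [e]
  exact (Y.basicOpen (1 - s * y)).2.isClosed_compl

omit [IsAlgClosed k] in
/-- A function on part of a connected space, vanishing where the part meets the rest, is zero. -/
theorem eq_zero_of_vanish {W : Scheme.{u}} [ConnectedSpace W] (i : Y ⟶ W) [IsClosedImmersion i]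
    (hfin : Module.Finite k (Coh.HH Y (Coh.structureModule Y) 0)) (T : Set W) (hT : IsClosed T)
    (hne : T.Nonempty) (hcov : T ∪ Set.range i = Set.univ) (s : Γ(Y, (⊤ : Y.Opens)))
    (hs : ∀ y : Y, i y ∈ T → y ∉ Y.basicOpen s) : s = 0 := by
  refine eq_zero_of_basicOpen_eq_bot s (Opens.ext ?_)
  let D : Set W := i '' (Y.basicOpen s : Set Y)
  have hc : IsClosed D := i.isClosedEmbedding.isClosedMap _ (isClosed_basicOpen hfin s)
  have he : Dᶜ = T ∪ i '' ((Y.basicOpen s : Set Y)ᶜ) := by
    ext w
    constructor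
    · intro hw
      rcases hcov.ge (Set.mem_univ w) with h | ⟨y, rfl⟩
      · exact Or.inl h
      · exact Or.inr ⟨y, fun hy => hw ⟨y, hy, rfl⟩, rfl⟩
    · rintro (h | ⟨y, hy, rfl⟩) ⟨z, hz, he⟩
      · exact hs z (he ▸ h) hz
      · exact hy (i.isClosedEmbedding.injective he ▸ hz)
  have ho : IsOpen D := by
    rw [← isClosed_compl_iff, he]
    exact hT.union (i.isClosedEmbedding.isClosedMap _ (Y.basicOpen s).2.isClosed_compl)
  rcases isClopen_iff.mp ⟨hc, ho⟩ with h | h
  · exact Set.image_eq_empty.mp h
  · obtain ⟨w, hw⟩ := hne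
    obtain ⟨y, hy, rfl⟩ := h.ge (Set.mem_univ w)
    exact absurd hy (hs y hw)

end gamma

variable {X : Scheme.{u}} {k : Type u} [Field k] [X.Over (Spec (CommRingCat.of k))]
  [IsProper (X ↘ Spec (CommRingCat.of k))]

omit [IsProper (X ↘ Spec (CommRingCat.of k))] in
theorem finite_of_no_generic [IsNoetherian X] (hd : topologicalKrullDim X ≤ 1) {A : Set X} (hA : IsClosed A)
    (h : ∀ g ∈ genericPoints (X : Type u), g ∉ A) : A.Finite := by
  obtain ⟨S, hS⟩ := exists_suppIn_of_maximal hd (TFOne27.isCoh_OT (X := X) A hA) fun g hg a =>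
    Subsingleton.elim (h := TFOne27.subsingleton_of_not_mem_support (F := TFOne27.OT (X := X) A hA) (x := g) fun h' =>
      h g (TFOne27.mem_genericPoints.mpr hg) ((TFOne27.support_OT (X := X) A hA).le h')) _ _
  refine S.finite_toSet.subset fun a ha => ?_
  by_contra hn
  haveI : Nontrivial ((TFOne27.OT (X := X) A hA).presheaf.stalk a) :=
    not_subsingleton_iff_nontrivial.mp ((TFOne27.support_OT (X := X) A hA).ge ha)
  obtain ⟨b, hb⟩ := exists_ne (0 : (TFOne27.OT (X := X) A hA).presheaf.stalk a)
  exact hb (hS.zero a hn b)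

/-- A globally generated invertible module has non-negative degree on each component. -/
theorem delta_nonneg_of_gg [AlgebraicGeometry.IsReduced X] (hd : topologicalKrullDim X = 1) {M : X.Modules}
    (hM : PicF.IsInvertible M) (hgg : Curv2.IsGloballyGenerated M) (T : Set X) (hT : IsClosed T) :
    0 ≤ TFOne27.delta k M 1 (TFOne27.OT T hT) := by
  refine delta_nonneg_of_comp hd.le hM (fun C hC hC1 => ?_) T hT
  let i := C.subschemeι
  letI : C.subscheme.Over (Spec (CommRingCat.of k)) := ⟨i ≫ (X ↘ Spec (CommRingCat.of k))⟩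
  haveI : IsProper (C.subscheme ↘ Spec (CommRingCat.of k)) :=
    inferInstanceAs (IsProper (i ≫ (X ↘ Spec (CommRingCat.of k))))
  haveI := hC
  have h1 : topologicalKrullDim C.subscheme = 1 := (AmpleFin18.dim_subscheme _ rfl).trans hC1
  have hCl := CurveAmple18.curveLike k C.subscheme h1.le
  haveI := hCl.noetherian
  let x : C.subscheme := Classical.arbitrary _
  obtain ⟨s, hs⟩ := RA.exists_gen_of_isGloballyGenerated hM hgg (i x)
  have hN := PicLoc.isInvertible_pullback i hM
  let σ := YBlow2.pullHom i s
  have hx : x ∈ CohB1.genLocus _ σ := by rw [YBlow2.genLocus_pullHom i hM]; exact hs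
  let v : Γ((Scheme.Modules.pullback i).obj M, (⊤ : C.subscheme.Opens)) := σ.app ⊤ (M1.one ⊤)
  have hσ : M1.secHom v = σ := M1.unit_hom_ext (M1.secHom_app_one v)
  have hv : v ≠ 0 := fun h0 => by
    rw [← hσ, h0, Amp.genLocus_secHom_zero hN] at hx
    exact hx.elim
  obtain ⟨t, -, hχ, -, -, -, -⟩ := hCl.section_numerics (rkOne_of_invertible hCl.dim hN) hv
  rw [Curv2.deg, hχ]
  push_cast
  omega

variable [IsAlgClosed k] [AlgebraicGeometry.IsReduced X] [ConnectedSpace X]

theorem h0_le_one (hd : topologicalKrullDim X ≤ 1) : Module.finrank k (Coh.HH X (Coh.structureModule X) 0) ≤ 1 := by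
  have hX := CurveAmple18.curveLike k X hd
  haveI := hX.noetherian
  have hfin := hX.fin _ (CurveCoh17.isCoh_structureModule (X := X)) 0
  obtain ⟨z, -, hz⟩ := isClosed_univ.exists_closed_singleton (Set.univ_nonempty (α := X))
  refine (h0_le_ncard hfin {z} (Set.finite_singleton z) fun s hs =>
    eq_zero_of_vanish (𝟙 X) hfin {z} hz (Set.singleton_nonempty z) (by
      rw [show Set.range (𝟙 X : X ⟶ X) = Set.univ from Set.eq_univ_of_forall fun w => ⟨w, rfl⟩, Set.union_univ]) s
      fun y hy => hs y hy).trans_eq (Set.ncard_singleton z)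

variable {ω : X.Modules} (hω : PicF.IsInvertible ω) {t : Coh.HH X ω 1 →ₗ[k] k} (ht : IsTrace k ω t)

include hω ht in
/-- On a curve of genus zero the degree of the dualizing module on a component is at most the number of its
meeting points minus two. -/
theorem delta_dualizing_le (hd : topologicalKrullDim X = 1) (hg : Curv2.genus k X = 0) (E : Set X)
    (hE : E ∈ irreducibleComponents (X : Type u)) :
    TFOne27.delta k ω 1 (TFOne27.OT E (isClosed_of_mem_irreducibleComponents E hE)) ≤
      ((E ∩ closure Eᶜ).ncard : ℤ) - 2 := by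
  have hX := CurveAmple18.curveLike k X hd.le
  haveI := hX.noetherian
  have hEc := isClosed_of_mem_irreducibleComponents E hE
  have hgE : GenClosed E := fun x hx => by
    obtain ⟨η, hη, hgen⟩ := TFOne27.exists_generic_of_component hE
    exact ⟨η, hη, hgen.mem, hgen.specializes hx⟩
  have hcs := isComplSub_closure hEc hgE
  let E' : Set X := closure Eᶜ
  obtain ⟨-, hMV, -⟩ := euler_compl (k := k) hd.le hEc isClosed_closure hcs
  rw [adjunction hω ht hd.le hEc isClosed_closure hcs]
  -- the component
  let J := vI E hEc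
  letI : J.subscheme.Over (Spec (CommRingCat.of k)) := ⟨J.subschemeι ≫ (X ↘ Spec (CommRingCat.of k))⟩
  haveI : IsProper (J.subscheme ↘ Spec (CommRingCat.of k)) :=
    inferInstanceAs (IsProper (J.subschemeι ≫ (X ↘ Spec (CommRingCat.of k))))
  haveI : AlgebraicGeometry.IsReduced J.subscheme := inferInstanceAs (AlgebraicGeometry.IsReduced (VecSt.subsch X E hEc))
  haveI : IrreducibleSpace J.subscheme := irreducibleSpace_of_range J.subschemeι (by
    rw [show Set.range J.subschemeι = E from TFOne27.range_sub E hEc]; exact hE.1)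
  have hdJ : topologicalKrullDim J.subscheme ≤ 1 :=
    J.subschemeι.isClosedEmbedding.isInducing.topologicalKrullDim_le.trans hd.le
  have hJ : CurveLike k J.subscheme := CurveAmple18.curveLike k J.subscheme hdJ
  have hJ0 : Module.finrank k (Coh.HH J.subscheme (Coh.structureModule J.subscheme) 0) = 1 :=
    le_antisymm (h0_le_one hdJ) (h0_structure_pos (k := k) hJ)
  have hJ1 : Module.finrank k (Coh.HH J.subscheme (Coh.structureModule J.subscheme) 1) = 0 := by
    have := h1_OT_le (k := k) hd.le E hEc
    exact Nat.le_zero.mp (this.trans_eq hg)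
  have eE : Curv2.euler k X (TFOne27.OT E hEc) = 1 := by
    rw [euler_OT_eq hEc hd.le]
    show (Module.finrank k (Coh.HH J.subscheme (Coh.structureModule J.subscheme) 0) : ℤ) -
      Module.finrank k (Coh.HH J.subscheme (Coh.structureModule J.subscheme) 1) = 1
    rw [hJ0, hJ1]; rfl
  have eX : Curv2.euler k X (Coh.structureModule X) = 1 := by
    rw [(hX.adm CurveCoh17.isCoh_structureModule).euler_eq, le_antisymm (h0_le_one hd.le) (h0_structure_pos (k := k) hX)]
    rw [show Module.finrank k (Coh.HH X (Coh.structureModule X) 1) = 0 from hg]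
    rfl
  -- the rest
  let J' := vI E' isClosed_closure
  letI : J'.subscheme.Over (Spec (CommRingCat.of k)) := ⟨J'.subschemeι ≫ (X ↘ Spec (CommRingCat.of k))⟩
  haveI : IsProper (J'.subscheme ↘ Spec (CommRingCat.of k)) :=
    inferInstanceAs (IsProper (J'.subschemeι ≫ (X ↘ Spec (CommRingCat.of k))))
  haveI : AlgebraicGeometry.IsReduced J'.subscheme :=
    inferInstanceAs (AlgebraicGeometry.IsReduced (VecSt.subsch X E' isClosed_closure))
  have hdJ' : topologicalKrullDim J'.subscheme ≤ 1 :=
    J'.subschemeι.isClosedEmbedding.isInducing.topologicalKrullDim_le.trans hd.le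
  have hJ' := CurveAmple18.curveLike k J'.subscheme hdJ'
  haveI := hJ'.noetherian
  have hf' := hJ'.fin _ (CurveCoh17.isCoh_structureModule (X := J'.subscheme)) 0
  have hfinA : (E ∩ E').Finite := finite_of_no_generic hd.le (hEc.inter isClosed_closure) fun g hg hmem =>
    (hcs.2.2 g hg).1 hmem.2 hmem.1
  have hrange : Set.range J'.subschemeι = E' := TFOne27.range_sub E' isClosed_closure
  have hle : Module.finrank k (Coh.HH J'.subscheme (Coh.structureModule J'.subscheme) 0) ≤ (E ∩ E').ncard := by
    refine (h0_le_ncard hf' (J'.subschemeι ⁻¹' E)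
      (((hfinA.subset ?_).of_finite_image J'.subschemeι.isClosedEmbedding.injective.injOn)) fun s hs =>
      eq_zero_of_vanish J'.subschemeι hf' E hEc hE.1.nonempty ?_ s fun y hy => hs y hy).trans ?_
    · rintro _ ⟨y, hy, rfl⟩
      exact ⟨hy, hrange.le ⟨y, rfl⟩⟩
    · rw [hrange]
      exact Set.eq_univ_of_forall fun w => (em (w ∈ E)).imp id fun h => subset_closure h
    · refine le_of_eq ?_
      rw [← Set.ncard_image_of_injective _ J'.subschemeι.isClosedEmbedding.injective, Set.image_preimage_eq_inter_range,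
        hrange]
  have eE' : Curv2.euler k X (TFOne27.OT E' isClosed_closure) ≤ ((E ∩ E').ncard : ℤ) := by
    rw [euler_OT_eq isClosed_closure hd.le]
    show (Module.finrank k (Coh.HH J'.subscheme (Coh.structureModule J'.subscheme) 0) : ℤ) -
      Module.finrank k (Coh.HH J'.subscheme (Coh.structureModule J'.subscheme) 1) ≤ _
    omega
  rw [eE]
  rw [eE, eX] at hMV
  simp only [E'] at eE' hMV ⊢
  omega

include hω ht in
theorem pointed_gg_iff_zero (hd : topologicalKrullDim X = 1) (hg : Curv2.genus k X = 0) {n : ℕ} (hn : 3 ≤ n)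
    (p : Fin n → X) (hpinj : Function.Injective p) (hpcl : ∀ i, IsClosed ({p i} : Set X)) {N : X.Modules}
    (hN : ClSub.IsInverseOf N (ClSub.idealMod
      (Scheme.IdealSheafData.vanishingIdeal ⟨⋃ i, ({p i} : Set X), isClosed_iUnion_of_finite hpcl⟩)))
    (M : X.Modules) (hM : Nonempty (M ≅ CohB1.tensorMod ω N)) :
    (∀ (E : Set X), E ∈ irreducibleComponents (X : Type u) → 2 ≤ (E ∩ closure Eᶜ).ncard + (p ⁻¹' E).ncard) ↔
      Curv2.IsGloballyGenerated M := by
  classical
  obtain ⟨eM⟩ := hM
  have hX := CurveAmple18.curveLike k X hd.le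
  haveI := hX.noetherian
  let Z : X.IdealSheafData :=
    Scheme.IdealSheafData.vanishingIdeal ⟨⋃ i, ({p i} : Set X), isClosed_iUnion_of_finite hpcl⟩
  have hZs : (Z.support : Set X) = Set.range p := by
    rw [show (Z.support : Set X) = ⋃ i, ({p i} : Set X) from Scheme.IdealSheafData.coe_support_vanishingIdeal _,
      Set.iUnion_singleton_eq_range]
  have hgenZ : ∀ g ∈ genericPoints (X : Type u), g ∉ (Z.support : Set X) := fun g hg hgZ => by
    rw [hZs] at hgZ
    obtain ⟨i, rfl⟩ := hgZ
    exact not_closed_of_generic (k := k) hd hg (hpcl i)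
  have hNi : PicF.IsInvertible N := M2.isInvertible_of_tensor_iso_unit N _ hN.some
  have hMi : PicF.IsInvertible M := M2.isInvertible_of_iso eM.symm (M2.isInvertible_tensor hω hNi)
  have hgn : 0 < 2 * (Curv2.genus k X : ℤ) - 2 + n := by rw [hg]; omega
  constructor
  · intro hss
    refine globallyGenerated_of_degBig (k := k) hd hMi fun T hT _ hc h1 => ?_
    rw [delta_congr eM hT]
    have h0 := deg_pointed_nonneg hω hd p hpcl hgn ht hpinj hN (fun E hE _ => hss E hE) hNi T hT
    have hg0 := h1_OT_le (k := k) hd.le T hT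
    rw [hg] at hg0
    rw [Nat.le_zero.mp hg0]
    simpa using h0
  · intro hgg E hE
    have hEc := isClosed_of_mem_irreducibleComponents E hE
    have h0 := delta_nonneg_of_gg (k := k) hd hMi hgg E hEc
    rw [delta_congr eM hEc, delta_tensor (k := k) hω hNi hd.le hEc] at h0
    have h1 := delta_dualizing_le hω ht hd hg E hE
    -- exact degree of the twist on a component
    suffices key : TFOne27.delta k N 1 (TFOne27.OT E hEc) ≤ ((p ⁻¹' E).ncard : ℤ) by omega
    have hfinG : (genericPoints (X : Type u)).Finite := genericPoints.finite NoetherianSpace.finite_irreducibleComponents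
    have hgU : GenClosed (Set.univ : Set X) := fun x _ => by
      obtain ⟨η, hη, hgen⟩ := TFOne27.exists_generic_of_component (irreducibleComponent_mem_irreducibleComponents x)
      exact ⟨η, hη, trivial, hgen.specializes mem_irreducibleComponent⟩
    have hsum := delta_eq_sum (k := k) hd.le hNi (fun S hS => isClosed_span (hfinG.subset hS)) hfinG.toFinset Set.univ
      isClosed_univ hgU (by rw [Set.univ_inter, Set.Finite.coe_toFinset])
    rw [TFOne27.delta_univ] at hsum
    -- the total degree
    have htot : Curv2.deg k X N 1 ≤ n := by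
      have hIi : PicF.IsInvertible (ClSub.idealMod Z) :=
        M2.isInvertible_of_tensor_iso_unit _ N (M2.tensorComm _ N ≪≫ hN.some)
      have e0 := delta_tensor (k := k) hNi hIi hd.le (T := Set.univ) isClosed_univ
      rw [delta_congr hN.some, delta_unit hd.le, TFOne27.delta_univ, TFOne27.delta_univ] at e0
      have e1 := euler_add' hX (M2.shortExact_idealMod Z) (isCoh_idealMod Z) (CurveCoh17.isCoh_quotMod Z)
      have eI : Curv2.deg k X (ClSub.idealMod Z) 1 =
          Curv2.euler k X (ClSub.idealMod Z) - Curv2.euler k X (Coh.structureModule X) := by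
        simp [Curv2.deg]
      letI : Z.subscheme.Over (Spec (CommRingCat.of k)) := ⟨Z.subschemeι ≫ (X ↘ Spec (CommRingCat.of k))⟩
      haveI : IsProper (Z.subscheme ↘ Spec (CommRingCat.of k)) :=
        inferInstanceAs (IsProper (Z.subschemeι ≫ (X ↘ Spec (CommRingCat.of k))))
      haveI : AlgebraicGeometry.IsReduced Z.subscheme := inferInstanceAs (AlgebraicGeometry.IsReduced (VecSt.subsch X _ _))
      haveI : (Coh.structureModule Z.subscheme).IsQuasicoherent := M1.isQCoh_structureModule _
      have hZ := CurveAmple18.curveLike k Z.subscheme (Z.subschemeι.isClosedEmbedding.isInducing.topologicalKrullDim_le.trans hd.le)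
      haveI := hZ.noetherian
      have hr : Set.range Z.subschemeι = Set.range p := Z.range_subschemeι.trans hZs
      have huf : (Set.univ : Set Z.subscheme).Finite := by
        refine Set.Finite.of_finite_image ?_ Z.subschemeι.isClosedEmbedding.injective.injOn
        rw [Set.image_univ, hr]
        exact Set.finite_range p
      have hZle := h0_le_ncard (k := k) (hZ.fin _ (CurveCoh17.isCoh_structureModule (X := Z.subscheme)) 0) Set.univ huf
        fun s hs => eq_zero_of_basicOpen_eq_bot s (Opens.ext (Set.eq_empty_iff_forall_notMem.mpr fun y hy => hs y trivial hy))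
      rw [← Set.ncard_image_of_injective _ Z.subschemeι.isClosedEmbedding.injective, Set.image_univ, hr,
        ← Set.image_univ, Set.ncard_image_of_injective _ hpinj, Set.ncard_univ, Nat.card_fin] at hZle
      have e2 := (CurveCoh17.nonempty_hequiv_push k Z.subschemeι rfl (Coh.structureModule Z.subscheme) 0).some.finrank_eq
      change Module.finrank k (Coh.HH X (ClSub.quotMod Z) 0) = _ at e2
      have e3 := (hX.adm (CurveCoh17.isCoh_quotMod Z)).euler_eq (k := k)
      simp only [Z] at e0 eI e1 e2 e3 hZle ⊢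
      change _ = _ + Curv2.euler k X (ClSub.quotMod _) at e1
      omega
    let c : X → ℤ := fun η => ((p ⁻¹' closure ({η} : Set X)).ncard : ℤ)
    have hge : ∀ η ∈ hfinG.toFinset, c η ≤ TFOne27.delta k N 1 (TFOne27.OT (closure ({η} : Set X)) isClosed_closure) := by
      intro η hη
      have hη' := hfinG.mem_toFinset.mp hη
      have hgη : GenClosed (closure ({η} : Set X)) := fun x hx =>
        ⟨η, hη', subset_closure rfl, specializes_iff_mem_closure.mpr hx⟩
      have hh := (ncard_le_delta_inverse (k := k) hd.le Z hgenZ hN (isClosed_closure (s := ({η} : Set X))) hgη).2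
      have himg : closure ({η} : Set X) ∩ (Z.support : Set X) = p '' (p ⁻¹' closure ({η} : Set X)) := by
        rw [hZs, Set.image_preimage_eq_inter_range]
      rw [himg, Set.ncard_image_of_injective _ hpinj] at hh
      exact hh
    have hcsum : (n : ℤ) ≤ ∑ η ∈ hfinG.toFinset, c η := by
      simp only [c]
      rw [← Nat.cast_sum, Nat.cast_le]
      have hcov : (Finset.univ : Finset (Fin n)) ⊆
          hfinG.toFinset.biUnion fun η => Finset.univ.filter fun i => p i ∈ closure ({η} : Set X) := fun i _ => by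
        obtain ⟨η, hη, hgen⟩ := TFOne27.exists_generic_of_component (irreducibleComponent_mem_irreducibleComponents (p i))
        exact Finset.mem_biUnion.mpr ⟨η, hfinG.mem_toFinset.mpr hη, Finset.mem_filter.mpr ⟨Finset.mem_univ _,
          specializes_iff_mem_closure.mp (hgen.specializes mem_irreducibleComponent)⟩⟩
      refine le_trans (le_trans (le_of_eq (Finset.card_fin n).symm) ((Finset.card_le_card hcov).trans Finset.card_biUnion_le))
        (le_of_eq (Finset.sum_congr rfl fun η _ => ?_))
      rw [← Set.ncard_coe_finset, Finset.coe_filter]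
      congr 1
      ext i; simp
    have heq : ∑ η ∈ hfinG.toFinset, c η =
        ∑ η ∈ hfinG.toFinset, TFOne27.delta k N 1 (TFOne27.OT (closure ({η} : Set X)) isClosed_closure) :=
      le_antisymm (Finset.sum_le_sum hge) (by omega)
    obtain ⟨η, hη, hgen⟩ := TFOne27.exists_generic_of_component hE
    obtain rfl : closure ({η} : Set X) = E := hgen.def
    exact ((Finset.sum_eq_sum_iff_of_le hge).mp heq η (hfinG.mem_toFinset.mpr hη)).ge

end Groth.Agent.CurveH1Min27
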