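import Groth.Agent.Lib.CurveH1Min27.GorAmple
import Groth.Agent.Lib.TensorMod.InvCrit
import Groth.Agent.Lib.TensorMod.Dual
import Groth.Agent.Lib.DMon9.Mod
import Groth.Agent.Lib.TFOne27.Special

/-!
# Counting points in intersections of subcurves and twisting by points
-/

set_option autoImplicit false
set_option linter.style.haveILetI false
set_option linter.unusedSectionVars false
set_option backward.isDefEq.respectTransparency false

universe u

open CategoryTheory CategoryTheory.Limits AlgebraicGeometry TopologicalSpace Opposite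

namespace Groth.Agent.CurveH1Min27

open Groth.Agent.M1 Groth.Agent.CurveCoh17
open TFOne27 (GenClosed)

variable {X : Scheme.{u}} {k : Type u} [Field k] [X.Over (Spec (CommRingCat.of k))]

theorem ncard_le_h0 {M : X.Modules} {S : Finset X} (h : SuppIn M S) (hfin : Module.Finite k (Coh.HH X M 0))
    {A : Set X} (hA : ∀ a ∈ A, Nontrivial (M.presheaf.stalk a)) :
    A.ncard ≤ Module.finrank k (Coh.HH X M 0) := by
  classical
  letI : ∀ i : S, Module k (M.presheaf.stalk (i : X)) := fun i => stalkMod k M (i : X)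
  haveI : ∀ x : S, Module.Finite k (M.presheaf.stalk (x : X)) := h.finite_stalk hfin
  have hAS : A ⊆ S := fun a ha => by
    by_contra hn
    haveI := hA a ha
    obtain ⟨b, hb⟩ := exists_ne (0 : M.presheaf.stalk a)
    exact hb (h.zero a hn b)
  rw [(h.h0Equiv k).finrank_eq, Module.finrank_pi_fintype]
  refine le_trans ?_ (Finset.sum_le_sum (f := fun x : S => if (x : X) ∈ A then 1 else 0) fun x _ => ?_)
  · rw [Finset.sum_boole, ← Set.ncard_coe_finset]
    refine le_of_eq ?_
    rw [← Set.ncard_image_of_injective _ Subtype.val_injective]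
    refine congrArg Set.ncard (Set.ext fun a => ⟨fun ha => ?_, ?_⟩)
    · exact ⟨⟨a, hAS ha⟩, by simp [ha], rfl⟩
    · rintro ⟨x, hx, rfl⟩; simpa using hx
  · split
    · rename_i hx
      haveI := hA _ hx
      exact Module.finrank_pos
    · exact Nat.zero_le _

theorem exists_epi_quot {Q J : X.IdealSheafData} (h : Q ≤ J) :
    ∃ w : ClSub.quotMod Q ⟶ ClSub.quotMod J, Epi w := by
  have hkill : ClSub.idealModι Q ≫ ClSub.toSubscheme J = 0 := idealModι_comp_eq_zero Q _ fun U a ha => by
    obtain ⟨b, hb⟩ := (M2.range_idealIncl J U).ge (h U ha)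
    rw [← hb]
    exact M2.subschemeι_app_idealIncl J b
  haveI := (M2.shortExact_idealMod Q).epi_g
  obtain ⟨v, hv⟩ := CokernelCofork.IsColimit.desc' (M2.shortExact_idealMod Q).exact.gIsCokernel _ hkill
  haveI := M2.epi_toSubscheme J
  let v' : ClSub.quotMod Q ⟶ ClSub.quotMod J := v
  have hv' : ClSub.toSubscheme Q ≫ v' = ClSub.toSubscheme J := hv
  haveI : Epi (ClSub.toSubscheme Q ≫ v') := by rw [hv']; infer_instance
  exact ⟨v', epi_of_epi (ClSub.toSubscheme Q) v'⟩

variable [IsProper (X ↘ Spec (CommRingCat.of k))]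

/-- A finite closed set inside the support bounds the sections of the quotient. -/
theorem ncard_le_quot (hd : topologicalKrullDim X ≤ 1) (Q : X.IdealSheafData) {A : Set X} (hA : IsClosed A)
    (hAQ : A ⊆ (Q.support : Set X)) (hQ : ∀ g ∈ genericPoints (X : Type u), g ∉ (Q.support : Set X)) :
    A.ncard ≤ Module.finrank k (Coh.HH X (ClSub.quotMod Q) 0) := by
  have hX := CurveAmple18.curveLike k X hd
  haveI := hX.noetherian
  have hc := TFOne27.isCoh_OT (X := X) A hA
  obtain ⟨S, hS⟩ := exists_suppIn_of_maximal hd hc fun g hg a =>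
    Subsingleton.elim (h := TFOne27.subsingleton_of_not_mem_support (F := TFOne27.OT (X := X) A hA) (x := g) fun h =>
      hQ g (TFOne27.mem_genericPoints.mpr hg) (hAQ ((TFOne27.support_OT (X := X) A hA).le h))) _ _
  refine (ncard_le_h0 hS (hX.fin _ hc 0) fun a ha => not_subsingleton_iff_nontrivial.mp
    ((TFOne27.support_OT (X := X) A hA).ge ha)).trans ?_
  obtain ⟨w, hw⟩ := exists_epi_quot (Q := Q) (J := vI A hA)
    (Scheme.IdealSheafData.le_support_iff_le_vanishingIdeal.mp hAQ)
  haveI := hw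
  exact finrank_h0_le_of_epi (k := k) hX w (CurveCoh17.isCoh_quotMod _) hc fun g hg =>
    TFOne27.subsingleton_of_not_mem_support (F := ClSub.quotMod Q) (x := g) fun h =>
      hQ g hg (NumPoly18.support_quotMod_subset _ h)

theorem delta_tensor {L M : X.Modules} (hL : PicF.IsInvertible L) (hM : PicF.IsInvertible M)
    (hd : topologicalKrullDim X ≤ 1) {T : Set X} (hT : IsClosed T) :
    TFOne27.delta k (CohB1.tensorMod L M) 1 (TFOne27.OT T hT) =
      TFOne27.delta k L 1 (TFOne27.OT T hT) + TFOne27.delta k M 1 (TFOne27.OT T hT) := by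
  haveI := CohFound.isNoetherian_of_isProper (X ↘ Spec (CommRingCat.of k))
  have hdelta : ∀ M : X.Modules,
      NumPoly18.cdeg k M (TFOne27.OT T hT) = TFOne27.delta k M 1 (TFOne27.OT T hT) := fun M => by
    rw [NumPoly18.cdeg_eq, TFOne27.delta, Nat.cast_one, one_mul, Int.cast_sub]
  have hs : topologicalKrullDim (CohB1.support (TFOne27.OT (X := X) T hT)) ≤ ((0 + 1 : ℕ) : WithBot ℕ∞) := by
    simpa using Topology.IsInducing.subtypeVal.topologicalKrullDim_le.trans hd
  have e := NumPoly18.md_cons_tensor (k := k) hL hM (M := fun i : Fin 0 => i.elim0)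
    (fun i => i.elim0) (TFOne27.isCoh_OT (X := X) T hT) hs
  have hc : ∀ A : X.Modules, (Fin.cons A (fun i : Fin 0 => i.elim0) : Fin (0 + 1) → X.Modules) = fun _ => A :=
    fun A => funext fun i => Fin.cases (by simp) (fun j => j.elim0) i
  simp only [hc] at e
  change NumPoly18.cdeg k (CohB1.tensorMod L M) (TFOne27.OT T hT) =
    NumPoly18.cdeg k L (TFOne27.OT T hT) + NumPoly18.cdeg k M (TFOne27.OT T hT) at e
  rw [hdelta, hdelta, hdelta] at e
  exact_mod_cast e

theorem delta_unit (hd : topologicalKrullDim X ≤ 1) {T : Set X} (hT : IsClosed T) :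
    TFOne27.delta k (Coh.structureModule X) 1 (TFOne27.OT T hT) = 0 := by
  rw [TFOne27.delta, CurveCoh17.euler_iso (M2.tensorRUnit (TFOne27.OT T hT)), Nat.cast_one, one_mul, sub_self]

theorem delta_congr {L M : X.Modules} (e : L ≅ M) {T : Set X} (hT : IsClosed T) :
    TFOne27.delta k L 1 (TFOne27.OT T hT) = TFOne27.delta k M 1 (TFOne27.OT T hT) := by
  rw [TFOne27.delta, TFOne27.delta, CurveCoh17.euler_iso (M2.tensorIso (Iso.refl (TFOne27.OT T hT)) e)]

set_option maxHeartbeats 1600000 in
/-- Twisting down by points lowers the degree at least by their number. -/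
theorem ncard_le_delta_inverse [AlgebraicGeometry.IsReduced X] (hd : topologicalKrullDim X ≤ 1) (Z : X.IdealSheafData)
    (hgenZ : ∀ g ∈ genericPoints (X : Type u), g ∉ (Z.support : Set X)) {N : X.Modules}
    (hN : ClSub.IsInverseOf N (ClSub.idealMod Z)) {T : Set X} (hT : IsClosed T) (hTg : GenClosed T) :
    PicF.IsInvertible N ∧ ((T ∩ (Z.support : Set X)).ncard : ℤ) ≤ TFOne27.delta k N 1 (TFOne27.OT T hT) := by
  obtain ⟨eN⟩ := hN
  have hX := CurveAmple18.curveLike k X hd
  haveI := hX.noetherian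
  have hNi := M2.isInvertible_of_tensor_iso_unit N _ eN
  have hIi : PicF.IsInvertible (ClSub.idealMod Z) :=
    M2.isInvertible_of_tensor_iso_unit _ N (M2.tensorComm _ N ≪≫ eN)
  refine ⟨hNi, ?_⟩
  have h0 := delta_tensor (k := k) hNi hIi hd hT
  rw [delta_congr eN hT, delta_unit hd hT] at h0
  let I := ClSub.idealMod Z
  have hc := TFOne27.isCoh_OT (X := X) T hT
  have hIc := CurveCoh17.isCoh_of_ofRank ((M2.isInvertible_iff_isFinLocFreeOfRank_one _).1 hIi)
  have hBc : Coh.IsCoh (CohB1.tensorMod I (TFOne27.OT T hT)) := CurveCoh17.isCoh_tensor hIc hc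
  let m : CohB1.tensorMod I (TFOne27.OT T hT) ⟶ TFOne27.OT T hT :=
    M2.tensorMap (ClSub.idealModι Z) (𝟙 (TFOne27.OT T hT)) ≫ (M2.tensorLUnit (TFOne27.OT T hT)).hom
  haveI hmι : Mono (ClSub.idealModι Z) := inferInstanceAs (Mono (kernel.ι (ClSub.toSubscheme Z)))
  have hgen : ∀ η ∈ genericPoints (X : Type u), Function.Bijective (stalkLin m η) := fun η hη => by
    let eι := LinearEquiv.ofBijective (stalkLin (ClSub.idealModι Z) η)
      ⟨(mono_iff_stalk _).1 inferInstance η, surjective_stalk_idealModι Z (hgenZ η hη)⟩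
    have h1 : Function.Bijective (stalkLin (M2.tensorMap (ClSub.idealModι Z) (𝟙 (TFOne27.OT T hT))) η) := by
      have : (fun a => M2.stalkEquiv (Coh.structureModule X) (TFOne27.OT T hT) η
          (stalkLin (M2.tensorMap (ClSub.idealModι Z) (𝟙 (TFOne27.OT T hT))) η a)) =
          fun a => (eι.rTensor ((TFOne27.OT T hT).presheaf.stalk η)) (M2.stalkEquiv I (TFOne27.OT T hT) η a) :=
        funext fun a => stalkEquiv_natural _ _ _ a
      have hb : Function.Bijective fun a =>
          (eι.rTensor ((TFOne27.OT T hT).presheaf.stalk η)) (M2.stalkEquiv I (TFOne27.OT T hT) η a) :=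
        (LinearEquiv.bijective _).comp (LinearEquiv.bijective _)
      rw [← this] at hb
      exact (Function.Bijective.of_comp_iff' (M2.stalkEquiv _ (TFOne27.OT T hT) η).bijective _).1 hb
    have h2 : Function.Bijective (stalkLin (M2.tensorLUnit (TFOne27.OT T hT)).hom η) :=
      ⟨(mono_iff_stalk (M2.tensorLUnit (TFOne27.OT T hT)).hom).1 inferInstance η, TFOne27.surjective_stalkLin _ η⟩
    rw [show (stalkLin m η : _ → _) = stalkLin (M2.tensorLUnit (TFOne27.OT T hT)).hom η ∘
      stalkLin (M2.tensorMap (ClSub.idealModι Z) (𝟙 (TFOne27.OT T hT))) η from funext fun a => stalkLin_comp _ _ η a]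
    exact h2.comp h1
  have hBt : TorSh.IsTorsionFree (CohB1.tensorMod I (TFOne27.OT T hT)) :=
    TFOne27.tf_of_mono (M2.tensorComm I (TFOne27.OT T hT)).hom (isTorsionFree_tw hIi
      (TFOne27.isTorsionFree_push T hT hTg TFOne27.isTF1_structureModule.1 TFOne27.isTF1_structureModule.2.1))
  haveI hm : Mono m := by
    refine Preadditive.mono_of_kernel_zero (TFOne27.hom_eq_zero hBc hBt _ fun η hη a => (hgen η hη).1 ?_)
    rw [← stalkLin_comp, kernel.condition, TFOne27.stalkLin_zero, map_zero]
  have hS : (ShortComplex.mk m (cokernel.π m) (cokernel.condition m)).ShortExact :=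
    { exact := ShortComplex.exact_of_g_is_cokernel _ (cokernelIsCokernel m) }
  have hCc : Coh.IsCoh (cokernel m) := M1.isCoh_cokernel hBc.1 hc m
  have hC0 : ∀ g ∈ genericPoints (X : Type u), ∀ a : (cokernel m).presheaf.stalk g, a = 0 := fun g hg =>
    eq_zero_stalk_cokernel m g (hgen g hg).2
  obtain ⟨S, hsupp⟩ := exists_suppIn_of_maximal hd hCc fun g hg => hC0 g (TFOne27.mem_genericPoints.mpr hg)
  have e := euler_add' hX hS hBc hCc
  rw [hsupp.euler_eq (hX.fin _ hCc 0), CurveCoh17.euler_iso (M2.tensorComm I (TFOne27.OT T hT))] at e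
  let A : Set X := T ∩ (Z.support : Set X)
  have hA : IsClosed A := hT.inter Z.support.isClosed
  obtain ⟨v, hv⟩ : ∃ v : TFOne27.OT T hT ⟶ TFOne27.OT A hA,
      Epi v ∧ ClSub.toSubscheme (vI T hT) ≫ v = ClSub.toSubscheme (vI A hA) := by
    have hkill : ClSub.idealModι (vI T hT) ≫ ClSub.toSubscheme (vI A hA) = 0 :=
      idealModι_comp_eq_zero _ _ fun U a ha => by
        obtain ⟨b, hb⟩ := (M2.range_idealIncl (vI A hA) U).ge
          ((Scheme.IdealSheafData.le_support_iff_le_vanishingIdeal.mp (show (⟨A, hA⟩ : Closeds X) ≤ (vI T hT).support from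
            fun x hx => (Scheme.IdealSheafData.coe_support_vanishingIdeal _).ge hx.1)) U ha)
        rw [← hb]
        exact M2.subschemeι_app_idealIncl _ b
    haveI := (M2.shortExact_idealMod (vI T hT)).epi_g
    obtain ⟨v, hv⟩ := CokernelCofork.IsColimit.desc' (M2.shortExact_idealMod (vI T hT)).exact.gIsCokernel _ hkill
    let v' : TFOne27.OT T hT ⟶ TFOne27.OT A hA := v
    have hv' : ClSub.toSubscheme (vI T hT) ≫ v' = ClSub.toSubscheme (vI A hA) := hv
    haveI := M2.epi_toSubscheme (vI A hA)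
    haveI : Epi (ClSub.toSubscheme (vI T hT) ≫ v') := by rw [hv']; infer_instance
    exact ⟨v', epi_of_epi (ClSub.toSubscheme (vI T hT)) v', hv'⟩
  obtain ⟨hve, hvq⟩ := hv
  haveI := hve
  let qA : Coh.structureModule X ⟶ TFOne27.OT A hA := ClSub.toSubscheme (vI A hA)
  have hkillA : ClSub.idealModι Z ≫ qA = 0 := idealModι_comp_eq_zero _ _ fun U a ha => by
    obtain ⟨b, hb⟩ := (M2.range_idealIncl (vI A hA) U).ge
      ((Scheme.IdealSheafData.le_support_iff_le_vanishingIdeal.mp (show (⟨A, hA⟩ : Closeds X) ≤ Z.support from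
        fun x hx => hx.2)) U ha)
    rw [← hb]
    exact M2.subschemeι_app_idealIncl _ b
  have hmv : m ≫ v = 0 := by
    refine TFOne27.hom_eq_zero_stalks _ fun x c => ?_
    obtain ⟨c', rfl⟩ := (M2.stalkEquiv I (TFOne27.OT T hT) x).symm.surjective c
    induction c' using TensorProduct.induction_on with
    | zero => rw [map_zero, map_zero]
    | add c₁ c₂ h₁ h₂ => rw [map_add, map_add, h₁, h₂, add_zero]
    | tmul i o =>
      haveI := M2.epi_toSubscheme (vI T hT)
      obtain ⟨r', rfl⟩ := TFOne27.surjective_stalkLin (ClSub.toSubscheme (vI T hT) : _ ⟶ TFOne27.OT T hT) x o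
      obtain ⟨W₁, hW₁, i₀, rfl⟩ := TopCat.Presheaf.exists_germ_eq I.presheaf i
      obtain ⟨W₂, hW₂, r₀, rfl⟩ := TopCat.Presheaf.exists_germ_eq (Coh.structureModule X).presheaf r'
      let W : X.Opens := W₁ ⊓ W₂
      have hW : x ∈ W := ⟨hW₁, hW₂⟩
      let iW : Γ(I, W) := mres I (inf_le_left : W ≤ W₁) i₀
      let rW : Γ(Coh.structureModule X, W) := mres (Coh.structureModule X) (inf_le_right : W ≤ W₂) r₀
      let oW : Γ(TFOne27.OT T hT, W) :=
        (ClSub.toSubscheme (vI T hT) : Coh.structureModule X ⟶ TFOne27.OT T hT).app W rW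
      have ec : (M2.stalkEquiv I (TFOne27.OT T hT) x).symm
          (I.presheaf.germ W₁ x hW₁ i₀ ⊗ₜ stalkLin (ClSub.toSubscheme (vI T hT) : _ ⟶ TFOne27.OT T hT) x
            ((Coh.structureModule X).presheaf.germ W₂ x hW₂ r₀)) =
          (CohB1.tensorMod I (TFOne27.OT T hT)).presheaf.germ W x hW (M2.tsec I (TFOne27.OT T hT) iW oW) := by
        rw [LinearEquiv.symm_apply_eq, M2.stalkEquiv_tsec, ← stalk_germ, germ_mres, germ_mres]
      rw [ec, stalk_germ]
      refine Eq.trans (congrArg _ ?_) (map_zero _)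
      simp only [m, Scheme.Modules.Hom.comp_app, ConcreteCategory.comp_apply]
      erw [M2.tensorMap_tsec, DMon9.tensorLUnit_tsec, Scheme.Modules.Hom.app_smul]
      have e1 : v.app W oW = qA.app W rW := congrArg (fun φ => φ.app W rW) hvq
      have e2 : qA.app W ((ClSub.idealModι Z).app W iW) = 0 := congrArg (fun φ => φ.app W iW) hkillA
      refine (congrArg _ e1).trans ?_
      rw [← Scheme.Modules.Hom.app_smul]
      refine (congrArg (qA.app W) (mul_comm (show Γ(X, W) from (ClSub.idealModι Z).app W iW) (show Γ(X, W) from rW))).trans ?_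
      refine (Scheme.Modules.Hom.app_smul qA (show Γ(X, W) from rW) ((ClSub.idealModι Z).app W iW)).trans ?_
      rw [e2, smul_zero]
  let w := cokernel.desc m v hmv
  haveI : Epi w := by
    haveI : Epi (cokernel.π m ≫ w) := by rw [cokernel.π_desc]; infer_instance
    exact epi_of_epi (cokernel.π m) w
  have hAc := TFOne27.isCoh_OT (X := X) A hA
  obtain ⟨S', hS'⟩ := exists_suppIn_of_maximal hd hAc fun g hg a =>
    Subsingleton.elim (h := TFOne27.subsingleton_of_not_mem_support (F := TFOne27.OT (X := X) A hA) (x := g) fun h =>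
      hgenZ g (TFOne27.mem_genericPoints.mpr hg) ((TFOne27.support_OT (X := X) A hA).le h).2) _ _
  have hle : A.ncard ≤ Module.finrank k (Coh.HH X (cokernel m) 0) :=
    (ncard_le_h0 hS' (hX.fin _ hAc 0) fun a ha => not_subsingleton_iff_nontrivial.mp
      ((TFOne27.support_OT (X := X) A hA).ge ha)).trans
    (finrank_h0_le_of_epi (k := k) hX w hCc hAc fun g hg => ⟨fun a b => (hC0 g hg a).trans (hC0 g hg b).symm⟩)
  have hdel : TFOne27.delta k I 1 (TFOne27.OT T hT) =
      Curv2.euler k X (CohB1.tensorMod (TFOne27.OT T hT) I) - Curv2.euler k X (TFOne27.OT T hT) := by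
    rw [TFOne27.delta, Nat.cast_one, one_mul]
  have hle' : ((T ∩ (Z.support : Set X)).ncard : ℤ) ≤ (Module.finrank k (Coh.HH X (cokernel m) 0) : ℤ) :=
    Int.ofNat_le.mpr hle
  simp only [I] at hdel e hle' ⊢
  linarith

end Groth.Agent.CurveH1Min27
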