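import Groth.Agent.Lib.CurveH1Min27.Basic

/-!
# A minimal subcurve with nonzero `H¹`
-/

set_option autoImplicit false
set_option linter.style.haveILetI false
set_option backward.isDefEq.respectTransparency false

universe u

open CategoryTheory CategoryTheory.Limits AlgebraicGeometry TopologicalSpace Opposite

namespace Groth.Agent.CurveH1Min27

open Groth.Agent.M1 Groth.Agent.CurveCoh17
open TFOne27 (GenClosed)

variable {X : Scheme.{u}}

/-- A set closed under the given generic points is their span. -/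
theorem eq_span {T : Set X} (hT : IsClosed T) (hTg : GenClosed T) :
    T = span (T ∩ genericPoints (X : Type u)) := by
  refine subset_antisymm (fun x hx => ?_) (Set.iUnion₂_subset fun η hη => closure_minimal (Set.singleton_subset_iff.mpr hη.1) hT)
  obtain ⟨η, hη, hηT, hsp⟩ := hTg x hx
  exact Set.mem_iUnion₂.mpr ⟨η, ⟨hηT, hη⟩, specializes_iff_mem_closure.mp hsp⟩

theorem one_le_dim_of_specializes {Y : Type*} [TopologicalSpace Y] [T0Space Y] {a b : Y} (h : a ⤳ b) (hne : b ≠ a) :
    1 ≤ topologicalKrullDim Y := by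
  let P : Y → TopologicalSpace.IrreducibleCloseds Y := fun y =>
    ⟨closure {y}, isIrreducible_singleton.closure, isClosed_closure⟩
  have hlt : P b < P a := lt_of_le_of_ne
    (fun z hz => closure_minimal (Set.singleton_subset_iff.mpr (specializes_iff_mem_closure.mp h)) isClosed_closure hz)
    fun he => hne (Specializes.antisymm
      (specializes_iff_mem_closure.mpr (by
        have h1 : a ∈ (P a : Set Y) := subset_closure rfl
        rw [← he] at h1; exact h1)) h).eq
  have hp := Order.krullDim_pos_iff.mpr ⟨P b, P a, hlt⟩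
  exact (WithBot.one_le_iff_pos _).mpr hp

variable {k : Type u} [Field k] [X.Over (Spec (CommRingCat.of k))] [IsProper (X ↘ Spec (CommRingCat.of k))]

/-- A minimal subcurve with nonzero `H¹` inside a given one. -/
theorem exists_subcurve_within [AlgebraicGeometry.IsReduced X] (hd : topologicalKrullDim X ≤ 1) {F : X.Modules}
    (hF : TFOne.IsTF1 X F) {S₀ : Set X} (hS₀ : S₀ ⊆ genericPoints (X : Type u)) {G₀ : X.Modules} {π₀ : F ⟶ G₀}
    (hG₀ : TFOne.IsQuotOn X F (span S₀) G₀ π₀) (h1 : Nontrivial (Coh.HH X G₀ 1)) :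
    ∃ (T : Set X) (hT : IsClosed T) (G : X.Modules) (π : F ⟶ G), T ⊆ span S₀ ∧ GenClosed T ∧ TFOne.IsQuotOn X F T G π ∧
      ConnectedSpace (VecSt.subsch X T hT) ∧ topologicalKrullDim (VecSt.subsch X T hT) = 1 ∧
      Curv2.euler k X G ≤ -Curv2.euler k X (TFOne27.OT T hT) := by
  classical
  have hX := CurveAmple18.curveLike k X hd
  haveI := hX.noetherian
  have hfin : (genericPoints (X : Type u)).Finite := genericPoints.finite NoetherianSpace.finite_irreducibleComponents
  let P : ℕ → Prop := fun n => ∃ S ⊆ S₀, S.ncard = n ∧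
    ∃ (G : X.Modules) (π : F ⟶ G), TFOne.IsQuotOn X F (span S) G π ∧ Nontrivial (Coh.HH X G 1)
  have hP : ∃ n, P n := ⟨_, S₀, le_rfl, rfl, G₀, π₀, hG₀, h1⟩
  obtain ⟨S, hS₁, hcard, G, π, hG, hG1⟩ := Nat.find_spec hP
  have hS : S ⊆ genericPoints (X : Type u) := hS₁.trans hS₀
  let T := span S
  have hT : IsClosed T := isClosed_span (hfin.subset hS)
  have hTg : GenClosed T := genClosed_span hS
  obtain ⟨heG, hcG, htG, hsG⟩ := hG
  haveI := heG
  let i := VecSt.subschι X T hT
  letI : (VecSt.subsch X T hT).Over (Spec (CommRingCat.of k)) := ⟨i ≫ (X ↘ Spec (CommRingCat.of k))⟩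
  haveI : IsProper ((VecSt.subsch X T hT) ↘ Spec (CommRingCat.of k)) :=
    inferInstanceAs (IsProper (i ≫ (X ↘ Spec (CommRingCat.of k))))
  have hdT : topologicalKrullDim (VecSt.subsch X T hT) ≤ 1 :=
    i.isClosedEmbedding.isEmbedding.isInducing.topologicalKrullDim_le.trans hd
  have hXT := CurveAmple18.curveLike k (VecSt.subsch X T hT) hdT
  obtain ⟨η, hη, hnc⟩ : ∃ η ∈ T, ¬ IsClosed ({η} : Set X) := by
    by_contra! hcl
    have hfinT : T.Finite := (hfin.subset hS).subset fun x hx => by
      obtain ⟨η, hη, hxη⟩ := Set.mem_iUnion₂.mp hx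
      rw [(hcl η (Set.mem_iUnion₂.mpr ⟨η, hη, subset_closure rfl⟩)).closure_eq] at hxη
      exact hxη ▸ hη
    have hs : SuppIn G hfinT.toFinset := ⟨fun x hx => hcl x (hfinT.mem_toFinset.mp hx),
      fun x hx a => Subsingleton.elim (h := TFOne27.subsingleton_of_not_mem_support (F := G)
        (hsG.symm ▸ fun h => hx (hfinT.mem_toFinset.mpr h))) _ _⟩
    exact not_subsingleton (Coh.HH X G 1) (hs.subsingleton_HH 0)
  haveI : Nonempty (VecSt.subsch X T hT) := by
    obtain ⟨w, -⟩ := (TFOne27.range_sub T hT).ge hη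
    exact ⟨w⟩
  let N := (Scheme.Modules.pullback i).obj G
  have hN := TFOne27.isTF1_pullback hF π hT hTg ⟨heG, hcG, htG, hsG⟩
  haveI := TFOne27.isIso_unit_of_support hcG htG T hT hsG
  let u : G ⟶ (Scheme.Modules.pushforward i).obj N := (Scheme.Modules.pullbackPushforwardAdjunction i).unit.app G
  haveI : N.IsQuasicoherent := hN.1.1
  haveI : IsIso u := TFOne27.isIso_unit_of_support hcG htG T hT hsG
  haveI := hG1
  have hN1 : Nontrivial (Coh.HH (VecSt.subsch X T hT) N 1) :=
    (((hequiv k (asIso u) 1).trans (nonempty_hequiv_push k i rfl N 1).some).symm).toEquiv.nontrivial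
  obtain ⟨hconn, hle⟩ := euler_le_of_minimal hXT hN hN1 fun T' hT' hT'g hne H p hH => by
    obtain ⟨heH, hcH, htH, hsH⟩ := hH
    haveI := heH
    haveI := TFOne27.epi_push_closed i p
    have hq : TFOne.IsQuotOn X F (i '' T') ((Scheme.Modules.pushforward i).obj H)
        (π ≫ u ≫ (Scheme.Modules.pushforward i).map p) :=
      ⟨inferInstance, ProperFormalH7.isCoh_pushforward_of_isProper i hcH, TFOne27.isTorsionFree_push T hT hTg hcH htH,
        by rw [TFOne27.support_push, hsH]⟩
    have hcl : IsClosed (i '' T') := i.isClosedEmbedding.isClosedMap T' hT'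
    have hgc : GenClosed (i '' T') := TFOne27.genClosed_image hT hTg hT'g
    rw [eq_span hcl hgc] at hq
    have hlt : (i '' T' ∩ genericPoints (X : Type u)).ncard < S.ncard := by
      refine Set.ncard_lt_ncard ⟨fun z hz => ?_, fun hsub => hne ?_⟩ (hfin.subset hS)
      · obtain ⟨⟨w, -, rfl⟩, hz⟩ := hz
        exact (mem_span_iff hS hz).mp ((TFOne27.range_sub T hT).le ⟨w, rfl⟩)
      · refine Set.eq_univ_of_forall fun w => ?_
        obtain ⟨ξ, hξ, hwξ⟩ := Set.mem_iUnion₂.mp ((TFOne27.range_sub T hT).le ⟨w, rfl⟩ : i w ∈ span S)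
        have h3 : i w ∈ i '' T' := (specializes_iff_mem_closure.mpr hwξ).mem_closed hcl (hsub hξ).1
        exact i.isClosedEmbedding.injective.mem_set_image.mp h3
    haveI : H.IsQuasicoherent := hcH.1
    by_contra hnt
    haveI : Nontrivial (Coh.HH (VecSt.subsch X T hT) H 1) := not_subsingleton_iff_nontrivial.mp hnt
    exact Nat.find_min hP (hcard ▸ hlt) ⟨_, (fun z hz => hS₁ ((mem_span_iff hS hz.2).mp (by
      obtain ⟨w, -, rfl⟩ := hz.1
      exact (TFOne27.range_sub T hT).le ⟨w, rfl⟩))), rfl, _, _, hq,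
      (nonempty_hequiv_push k i rfl H 1).some.toEquiv.nontrivial⟩
  refine ⟨T, hT, G, π, Set.biUnion_subset_biUnion_left hS₁, hTg, ⟨heG, hcG, htG, hsG⟩, hconn, le_antisymm hdT ?_, ?_⟩
  · obtain ⟨w, hw⟩ := (TFOne27.range_sub T hT).ge hη
    obtain ⟨y, hy, hyne⟩ : ∃ y ∈ closure ({η} : Set X), y ≠ η := by
      by_contra! h
      exact hnc (by
        rw [show ({η} : Set X) = closure {η} from subset_antisymm subset_closure fun z hz => h z hz]
        exact isClosed_closure)
    have hsp : η ⤳ y := specializes_iff_mem_closure.mpr hy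
    obtain ⟨v, hv⟩ := (TFOne27.range_sub T hT).ge (hsp.mem_closed hT hη)
    exact one_le_dim_of_specializes (a := w) (b := v)
      (i.isClosedEmbedding.isInducing.specializes_iff.mp (by rw [hw, hv]; exact hsp))
      fun e => hyne (by rw [← hv, ← hw, e])
  · rw [euler_iso (asIso u), TFOne27.euler_push T hT N hN.1.1,
      show TFOne27.OT T hT = (Scheme.Modules.pushforward i).obj (Coh.structureModule _) from rfl,
      TFOne27.euler_push T hT _ (M1.isQCoh_structureModule _)]
    exact hle

/-- If `H¹(F) ≠ 0`, some connected subcurve carries a quotient with `χ(F_T) ≤ -χ(O_T)`. -/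
theorem exists_subcurve [AlgebraicGeometry.IsReduced X] (hd : topologicalKrullDim X ≤ 1) {F : X.Modules}
    (hF : TFOne.IsTF1 X F) (h1 : Nontrivial (Coh.HH X F 1)) :
    ∃ (T : Set X) (hT : IsClosed T) (G : X.Modules) (π : F ⟶ G), GenClosed T ∧ TFOne.IsQuotOn X F T G π ∧
      ConnectedSpace (VecSt.subsch X T hT) ∧ topologicalKrullDim (VecSt.subsch X T hT) = 1 ∧
      Curv2.euler k X G ≤ -Curv2.euler k X (TFOne27.OT T hT) := by
  have hX := CurveAmple18.curveLike k X hd
  haveI := hX.noetherian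
  have hfin : (genericPoints (X : Type u)).Finite := genericPoints.finite NoetherianSpace.finite_irreducibleComponents
  obtain ⟨G, π, hG⟩ := TFOne27.exists_isQuotOn hF (span (genericPoints (X : Type u))) (isClosed_span hfin)
    (genClosed_span le_rfl)
  haveI := hG.1
  obtain ⟨e, -⟩ := TFOne27.nonempty_iso_of_quot hF.2.2 π (𝟙 F) hG.2.1 hG.2.2.1 hF.1 hF.2.1 fun η hη => by
    simp [hG.2.2.2, (mem_span_iff (le_refl (genericPoints (X : Type u))) hη).mpr hη, TFOne27.mem_support_of_rkOne hF.2.2 hη]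
  haveI := h1
  obtain ⟨T, hT, G', π', -, h⟩ := exists_subcurve_within (k := k) hd hF le_rfl hG (hequiv k e 1).toEquiv.nontrivial
  exact ⟨T, hT, G', π', h⟩

end Groth.Agent.CurveH1Min27
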