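import Groth.Agent.Lib.CurveH1Min27.AnyApps

/-!
# The dualizing degree on rational tails and rational bridges
-/

set_option autoImplicit false
set_option linter.style.haveILetI false
set_option linter.unusedSectionVars false
set_option backward.isDefEq.respectTransparency false

universe u

open CategoryTheory CategoryTheory.Limits AlgebraicGeometry TopologicalSpace Opposite

namespace Groth.Agent.CurveH1Min27

open Groth.Agent.M1 Groth.Agent.CurveCoh17
open TFOne27 (GenClosed)

variable {X : Scheme.{u}} {k : Type u} [Field k] [X.Over (Spec (CommRingCat.of k))]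
  [IsProper (X ↘ Spec (CommRingCat.of k))] [AlgebraicGeometry.IsReduced X] [ConnectedSpace X]

variable (k) in
include k in
theorem component_curve (hd : topologicalKrullDim X = 1) (E : Set X) (hE : E ∈ irreducibleComponents (X : Type u)) :
    ConnectedSpace (vI E (isClosed_of_mem_irreducibleComponents E hE)).subscheme ∧
      topologicalKrullDim (vI E (isClosed_of_mem_irreducibleComponents E hE)).subscheme = 1 := by
  haveI := CohFound.isNoetherian_of_isProper (X ↘ Spec (CommRingCat.of k))
  have hEc := isClosed_of_mem_irreducibleComponents E hE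
  haveI : IrreducibleSpace (vI E hEc).subscheme := irreducibleSpace_of_range (vI E hEc).subschemeι (by
    rw [show Set.range (vI E hEc).subschemeι = E from TFOne27.range_sub E hEc]; exact hE.1)
  refine ⟨inferInstance, ?_⟩
  refine (AmpleFin18.dim_subscheme _ (Scheme.IdealSheafData.coe_support_vanishingIdeal _)).trans ?_
  obtain ⟨η, hη, hgen⟩ := TFOne27.exists_generic_of_component hE
  obtain ⟨z, hz, hzc⟩ := hEc.exists_closed_singleton hE.1.nonempty
  have hzne : z ≠ η := fun e => not_closed_of_generic (k := k) hd hη (e ▸ hzc)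
  exact le_antisymm (Topology.IsInducing.subtypeVal.topologicalKrullDim_le.trans hd.le)
    (one_le_dim_of_specializes (a := (⟨η, hgen.mem⟩ : E)) (b := ⟨z, hz⟩)
      (Topology.IsInducing.subtypeVal.specializes_iff.mp (hgen.specializes hz))
      fun e => hzne (congrArg Subtype.val e))

omit [ConnectedSpace X] in
theorem ker_compl_open (E : Set X) (hEc : IsClosed E) [CompactSpace X] [IsNoetherian X] :
    (Scheme.Opens.ι (⟨Eᶜ, hEc.isOpen_compl⟩ : X.Opens)).ker = vI (closure Eᶜ) isClosed_closure := by
  rw [SchImage.ker_eq_vanishingIdeal, vI]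
  congr 1
  exact Closeds.ext (by
    show closure (Set.range (Scheme.Opens.ι (⟨Eᶜ, hEc.isOpen_compl⟩ : X.Opens))) = closure Eᶜ
    rw [Scheme.Opens.range_ι]; rfl)

/-- A closed immersion onto a reduced point is surjective on global functions when evaluation at the point is. -/
theorem appTop_surjective_of_point {C Q : Scheme.{u}} (j : Q ⟶ C) [IsClosedImmersion j]
    [AlgebraicGeometry.IsReduced Q] [Subsingleton Q] (c : Q)
    (he : Function.Surjective (C.evaluation ⊤ (j c) trivial)) : Function.Surjective j.appTop := fun b => by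
  obtain ⟨g, hg⟩ := j.stalkMap_surjective c (Q.presheaf.germ ⊤ c trivial b)
  obtain ⟨a, ha⟩ := he (C.residue (j c) g)
  refine ⟨a, sub_eq_zero.mp (eq_zero_of_basicOpen_eq_bot _ ?_)⟩
  have hz : Q.evaluation ⊤ c trivial (j.appTop a - b) = 0 := by
    rw [map_sub, sub_eq_zero]
    have h1 : j.residueFieldMap c (C.evaluation ⊤ (j c) trivial a) = Q.evaluation ⊤ c trivial (j.appTop a) :=
      Scheme.Γevaluation_naturality_apply j c a
    rw [← h1, ha]
    have h2 : j.residueFieldMap c (C.residue (j c) g) = Q.residue c (j.stalkMap c g) := by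
      rw [← CategoryTheory.comp_apply, Scheme.residue_residueFieldMap]; rfl
    rw [h2, hg]
    rfl
  exact Opens.ext (Set.eq_empty_iff_forall_notMem.mpr fun w hw => by
    obtain rfl := Subsingleton.elim w c
    exact (Q.evaluation_eq_zero_iff_notMem_basicOpen (U := ⊤) w trivial _).mp hz hw)

variable {ω : X.Modules} (hω : PicF.IsInvertible ω) {t : Coh.HH X ω 1 →ₗ[k] k} (ht : IsTrace k ω t)
  (hd : topologicalKrullDim X = 1)

include hω ht hd

theorem deg_tail_neg (E : Set X) (hE : E ∈ irreducibleComponents (X : Type u))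
    (h : Curv2.IsRationalTail X E hE) :
    TFOne27.delta k ω 1 (TFOne27.OT E (isClosed_of_mem_irreducibleComponents E hE)) < 0 := by
  haveI := CohFound.isNoetherian_of_isProper (X ↘ Spec (CommRingCat.of k))
  have hEc := isClosed_of_mem_irreducibleComponents E hE
  suffices key : ∀ I : X.IdealSheafData, I = vI (closure Eᶜ) isClosed_closure →
      Nonempty (vI E hEc ⊔ I).subscheme → Subsingleton (vI E hEc ⊔ I).subscheme →
      AlgebraicGeometry.IsReduced (vI E hEc ⊔ I).subscheme →
      (∀ c : (vI E hEc ⊔ I).subscheme, Function.Bijective ((vI E hEc).subscheme.evaluation ⊤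
        ((Scheme.IdealSheafData.inclusion (le_sup_left : vI E hEc ≤ vI E hEc ⊔ I)).base c) trivial)) →
      TFOne27.delta k ω 1 (TFOne27.OT E hEc) < 0 from
    key _ (ker_compl_open E hEc) h.2.1 h.2.2.1 h.2.2.2.1 h.2.2.2.2.1
  rintro I rfl ⟨c⟩ hsub hred hbij
  obtain ⟨hc, h1⟩ := component_curve k hd E hE
  obtain ⟨d, a, m, hd0, hdd, ha, hm, hdeg, -, -, -⟩ := sub_data_any k hω ht hd E hEc hc h1
  let IC := vI E hEc
  let Q := IC ⊔ vI (closure Eᶜ) isClosed_closure
  let C := IC.subscheme
  letI : C.Over (Spec (CommRingCat.of k)) := ⟨IC.subschemeι ≫ (X ↘ Spec (CommRingCat.of k))⟩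
  haveI : IsProper (C ↘ Spec (CommRingCat.of k)) :=
    inferInstanceAs (IsProper (IC.subschemeι ≫ (X ↘ Spec (CommRingCat.of k))))
  letI : Q.subscheme.Over (Spec (CommRingCat.of k)) := ⟨Q.subschemeι ≫ (X ↘ Spec (CommRingCat.of k))⟩
  haveI : (Coh.structureModule Q.subscheme).IsQuasicoherent := M1.isQCoh_structureModule _
  have hC := CurveAmple18.curveLike k C h1.le
  haveI := hC.noetherian
  have hf0 := hC.fin _ (CurveCoh17.isCoh_structureModule (X := C)) 0
  have ha0 : a = 0 := by
    rw [ha]
    haveI : Subsingleton (Coh.HH C (Coh.structureModule C) 1) := h.2.2.2.2.2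
    exact Module.finrank_zero_of_subsingleton
  let j := Scheme.IdealSheafData.inclusion (le_sup_left : IC ≤ Q)
  have hsurj : Function.Surjective j.appTop := appTop_surjective_of_point j c (hbij c).2
  have hmd : m ≤ d := by
    have hj : j ≫ (C ↘ Spec (CommRingCat.of k)) = Q.subscheme ↘ Spec (CommRingCat.of k) := by
      show j ≫ IC.subschemeι ≫ _ = Q.subschemeι ≫ _
      rw [← Category.assoc, Scheme.IdealSheafData.inclusion_subschemeι]
    letI := (cst k C).toAlgebra
    letI := (cst k Q.subscheme).toAlgebra
    let fl : Γ(C, (⊤ : C.Opens)) →ₗ[k] Γ(Q.subscheme, (⊤ : Q.subscheme.Opens)) :=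
      { toFun := j.appTop
        map_add' := map_add j.appTop.hom
        map_smul' := fun c x => by
          show j.appTop (cst k C c * x) = cst k Q.subscheme c * j.appTop x
          rw [map_mul]
          congr 1
          simp only [cst, Coh.toGlobal, ← hj, Scheme.Hom.comp_appTop, CommRingCat.hom_comp, RingHom.comp_apply]
          rfl }
    haveI : Module.Finite k Γ(C, (⊤ : C.Opens)) := finite_gamma hf0
    have e : Module.finrank k (Coh.HH X (ClSub.quotMod Q) 0) =
        Module.finrank k (Coh.HH Q.subscheme (Coh.structureModule Q.subscheme) 0) :=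
      (CurveCoh17.nonempty_hequiv_push k Q.subschemeι rfl (Coh.structureModule Q.subscheme) 0).some.finrank_eq
    rw [hm, hdd, e, ← finrank_gamma, ← finrank_gamma]
    exact LinearMap.finrank_le_finrank_of_surjective (f := fl) hsurj
  omega

theorem deg_bridge_eq_zero (E : Set X) (hE : E ∈ irreducibleComponents (X : Type u))
    (h : Curv2.IsRationalBridge k X E hE) :
    TFOne27.delta k ω 1 (TFOne27.OT E (isClosed_of_mem_irreducibleComponents E hE)) = 0 := by
  haveI := CohFound.isNoetherian_of_isProper (X ↘ Spec (CommRingCat.of k))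
  have hEc := isClosed_of_mem_irreducibleComponents E hE
  obtain ⟨hc, h1⟩ := component_curve k hd E hE
  obtain ⟨d, a, m, hd0, hdd, ha, hm, hdeg, -, -, -⟩ := sub_data_any k hω ht hd E hEc hc h1
  letI : (vI E hEc).subscheme.Over (Spec (CommRingCat.of k)) :=
    ⟨(vI E hEc).subschemeι ≫ (X ↘ Spec (CommRingCat.of k))⟩
  haveI : (Coh.structureModule (vI E hEc).subscheme).IsQuasicoherent := M1.isQCoh_structureModule _
  suffices key : ∀ I : X.IdealSheafData, I = vI (closure Eᶜ) isClosed_closure →
      Module.finrank k (Coh.HH X (ClSub.quotMod (vI E hEc ⊔ I)) 0) =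
        2 * Module.finrank k (Coh.HH X (ClSub.quotMod (vI E hEc)) 0) →
      TFOne27.delta k ω 1 (TFOne27.OT E hEc) = 0 from key _ (ker_compl_open E hEc) h.2.1
  rintro I rfl hh
  have ha0 : a = 0 := by
    rw [ha]
    haveI : Subsingleton (Coh.HH (vI E hEc).subscheme (Coh.structureModule _) 1) := h.2.2
    exact Module.finrank_zero_of_subsingleton
  have e : Module.finrank k (Coh.HH X (ClSub.quotMod (vI E hEc)) 0) =
      Module.finrank k (Coh.HH (vI E hEc).subscheme (Coh.structureModule _) 0) :=
    (CurveCoh17.nonempty_hequiv_push k (vI E hEc).subschemeι rfl (Coh.structureModule (vI E hEc).subscheme) 0).some.finrank_eq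
  rw [← hm, e, ← hdd] at hh
  omega

end Groth.Agent.CurveH1Min27
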