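import Groth.Agent.Lib.CurveH1Min27.TreeSeq
import Groth.Agent.Lib.CurveH1Min27.Tails
import Groth.Agent.Lib.CurveH1Min27.Pointed0
import Groth.Agent.Lib.DefAmp1.Basic
import Groth.Agent.Lib.ModM1.ClosedImm

/-!
# `H¹` of a vector bundle on a rational tree is concentrated on a subcurve
-/

set_option autoImplicit false
set_option linter.style.haveILetI false
set_option linter.unusedSectionVars false
set_option backward.isDefEq.respectTransparency false
set_option maxHeartbeats 800000

universe u

open CategoryTheory CategoryTheory.Limits AlgebraicGeometry TopologicalSpace Opposite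

namespace Groth.Agent.CurveH1Min27

open Groth.Agent.M1 Groth.Agent.CurveCoh17
open TFOne27 (GenClosed)

variable {X : Scheme.{u}}

theorem app_injective_of_mono_any {M N : X.Modules} (φ : M ⟶ N) [Mono φ] (U : X.Opens) :
    Function.Injective (φ.app U) := fun a b h => M1.section_ext _ _ fun x hx => by
  apply (M1.mono_iff_stalk φ).1 inferInstance x
  rw [M1.germ_naturality, M1.germ_naturality, h]

theorem connectedSpace_vI {T : Set X} (hT : IsClosed T) (h : _root_.IsConnected T) :
    ConnectedSpace (vI T hT).subscheme := by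
  let i := (vI T hT).subschemeι
  have hr : Set.range i = T := TFOne27.range_sub T hT
  haveI : Nonempty (vI T hT).subscheme := by
    obtain ⟨x, hx⟩ := h.nonempty
    obtain ⟨z, -⟩ := hr.ge hx
    exact ⟨z⟩
  haveI : PreconnectedSpace (vI T hT).subscheme := ⟨by
    rw [← i.isClosedEmbedding.isInducing.isPreconnected_image, Set.image_univ, hr]
    exact h.isPreconnected⟩
  exact { toNonempty := inferInstance }

theorem isConnected_of_connectedSpace_vI {T : Set X} (hT : IsClosed T) [ConnectedSpace (vI T hT).subscheme] :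
    _root_.IsConnected T := by
  rw [← TFOne27.range_sub T hT]
  exact isConnected_range (vI T hT).subschemeι.continuous

variable {k : Type u} [Field k] [IsAlgClosed k] [X.Over (Spec (CommRingCat.of k))]
  [IsProper (X ↘ Spec (CommRingCat.of k))] [AlgebraicGeometry.IsReduced X]

include k

/-- Global functions surject onto those of a connected closed reduced subscheme, so its ideal has no `H¹`. -/
theorem subsingleton_h1_idealMod (hd : topologicalKrullDim X ≤ 1)
    (hg : Subsingleton (Coh.HH X (Coh.structureModule X) 1)) {T : Set X} (hT : IsClosed T) (h : _root_.IsConnected T) :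
    Subsingleton (Coh.HH X (ClSub.idealMod (vI T hT)) 1) := by
  haveI := CohFound.isNoetherian_of_isProper (X ↘ Spec (CommRingCat.of k))
  let J := vI T hT
  haveI := connectedSpace_vI hT h
  haveI : AlgebraicGeometry.IsReduced J.subscheme := inferInstanceAs (AlgebraicGeometry.IsReduced (VecSt.subsch X T hT))
  letI : J.subscheme.Over (Spec (CommRingCat.of k)) := ⟨J.subschemeι ≫ (X ↘ (Spec (CommRingCat.of k)))⟩
  haveI : IsProper (J.subscheme ↘ Spec (CommRingCat.of k)) :=
    inferInstanceAs (IsProper (J.subschemeι ≫ (X ↘ (Spec (CommRingCat.of k)))))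
  have hdJ : topologicalKrullDim J.subscheme ≤ 1 :=
    J.subschemeι.isClosedEmbedding.isInducing.topologicalKrullDim_le.trans hd
  have hXc := CurveAmple18.curveLike k J.subscheme hdJ
  haveI : (Coh.structureModule J.subscheme).IsQuasicoherent := M1.isQCoh_structureModule _
  let OJ := (Scheme.Modules.pushforward J.subschemeι).obj (Coh.structureModule J.subscheme)
  obtain ⟨q⟩ := CurveCoh17.nonempty_hequiv_push k J.subschemeι rfl (Coh.structureModule J.subscheme) 0
  haveI : Module.Finite k (Coh.HH J.subscheme (Coh.structureModule J.subscheme) 0) :=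
    hXc.fin _ CurveCoh17.isCoh_structureModule 0
  haveI : Module.Finite k (Coh.HH X OJ 0) := Module.Finite.equiv q.symm
  have h1 : Module.finrank k (Coh.HH X OJ 0) ≤ 1 := q.finrank_eq.trans_le (h0_le_one hdJ)
  let v : Coh.HH X OJ 0 := hmap k (ClSub.toSubscheme J) 0 ((hh0 (Coh.structureModule X)).symm (M1.one ⊤))
  have hv : v ≠ 0 := fun h0 => by
    have e := congrArg (hh0 OJ) h0
    rw [hh0_hmap, AddEquiv.apply_symm_apply, map_zero] at e
    have e2 : J.subschemeι.appTop (1 : Γ(X, ⊤)) = (0 : Γ(J.subscheme, ⊤)) := e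
    rw [map_one] at e2
    haveI : Nontrivial Γ(J.subscheme, ⊤) :=
      @Scheme.component_nontrivial J.subscheme ⊤ ⟨⟨(‹ConnectedSpace J.subscheme›).toNonempty.some, trivial⟩⟩
    exact one_ne_zero e2
  have hsurj : Function.Surjective (hmap k (ClSub.toSubscheme J) 0) := fun w => by
    obtain ⟨v₀, hv₀⟩ := finrank_le_one_iff.mp h1
    obtain ⟨c, hc⟩ := hv₀ v
    obtain ⟨d, hd⟩ := hv₀ w
    have hc0 : c ≠ 0 := fun h0 => hv (by rw [← hc, h0, zero_smul])
    refine ⟨(d * c⁻¹) • (hh0 (Coh.structureModule X)).symm (M1.one ⊤), ?_⟩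
    rw [map_smul]
    show (d * c⁻¹) • v = w
    rw [← hc, smul_smul, inv_mul_cancel_right₀ hc0, hd]
  refine subsingleton_of_forall_eq 0 fun z => ?_
  have hS := M2.shortExact_idealMod J
  obtain ⟨y, rfl⟩ := (exact_hdelta_hmap k hS 0 z).1 (Subsingleton.elim (α := Coh.HH X (Coh.structureModule X) 1) _ _)
  exact (exact_hmap_hdelta k hS 0 y).2 (hsurj y)

/-- Adding a component on which the bundle is globally generated. -/
theorem van_step (hd : topologicalKrullDim X ≤ 1) (hg : Subsingleton (Coh.HH X (Coh.structureModule X) 1))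
    {F : X.Modules} (hF : FlatMod.IsFinLocFree F) {T E : Set X} (hT : IsClosed T) (hE : IsClosed E)
    (hc : _root_.IsConnected T) (hgg : Curv2.IsGloballyGenerated ((Scheme.Modules.pullback (vI E hE).subschemeι).obj F))
    (h : Subsingleton (Coh.HH X (CohB1.tensorMod (ClSub.idealMod (vI (T ∪ E) (hT.union hE))) F) 1)) :
    Subsingleton (Coh.HH X (CohB1.tensorMod (ClSub.idealMod (vI T hT)) F) 1) := by
  haveI := CohFound.isNoetherian_of_isProper (X ↘ Spec (CommRingCat.of k))
  let J := vI E hE
  let i := J.subschemeι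
  let J' := vI (T ∪ E) (hT.union hE)
  let ρ := rho hE hT
  let Q := Abelian.image ρ
  have hOE : Coh.IsQCoh (TFOne27.OT E hE) := M1.isQCoh_push _ (M1.isQCoh_structureModule _)
  have hQ : Coh.IsQCoh Q :=
    M1.isQCoh_kernel hOE (M1.isQCoh_cokernel (isCoh_idealMod (vI T hT)).1 hOE ρ) (cokernel.π ρ)
  have hQc : Coh.IsCoh Q := ⟨hQ, M1.isFT_of_epi (Abelian.factorThruImage ρ) (isCoh_idealMod (vI T hT)).2⟩
  haveI : IsIso ((Scheme.Modules.pullbackPushforwardAdjunction i).unit.app Q) :=
    M1.isIso_unit_of_ker_smul (i := i) Q hQ fun U a ha s => by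
      rw [J.ker_subschemeι] at ha
      obtain ⟨a', rfl⟩ := (M2.range_idealIncl J U).ge ha
      have hinj : Function.Injective ((Abelian.image.ι ρ).app U.1) := app_injective_of_mono_any _ U.1
      apply hinj
      rw [Scheme.Modules.Hom.app_smul, map_zero]
      show i.app U.1 (M2.idealIncl J a') * _ = 0
      rw [M2.subschemeι_app_idealIncl, zero_mul]
  let N := (Scheme.Modules.pullback i).obj Q
  have hN : Coh.IsCoh N := M1.isCoh_pullback i hQc
  let eQ : Q ≅ (Scheme.Modules.pushforward i).obj N :=
    asIso ((Scheme.Modules.pullbackPushforwardAdjunction i).unit.app Q)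
  letI : J.subscheme.Over (Spec (CommRingCat.of k)) := ⟨i ≫ (X ↘ (Spec (CommRingCat.of k)))⟩
  haveI : IsProper (J.subscheme ↘ Spec (CommRingCat.of k)) :=
    inferInstanceAs (IsProper (i ≫ (X ↘ (Spec (CommRingCat.of k)))))
  haveI := CohFound.isNoetherian_of_isProper (J.subscheme ↘ Spec (CommRingCat.of k))
  haveI := VB17.isSeparated_of_over (k := k) (X := J.subscheme)
  haveI := VB17.isSeparated_of_over (k := k) (X := X)
  have hdJ : topologicalKrullDim J.subscheme ≤ 1 := i.isClosedEmbedding.isInducing.topologicalKrullDim_le.trans hd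
  haveI : N.IsQuasicoherent := hN.1
  obtain ⟨q⟩ := CurveCoh17.nonempty_hequiv_push k i rfl N 1
  have hQv : Subsingleton (Coh.HH X Q 1) :=
    DefAmp1.van_of_epi k hd (isCoh_idealMod (vI T hT)).1 hQ (Abelian.factorThruImage ρ)
      (subsingleton_h1_idealMod (k := k) hd hg hT hc)
  have hNv : Subsingleton (Coh.HH J.subscheme N 1) := q.toEquiv.subsingleton_congr.1 (CMReg18.van_iso k eQ hQv)
  have hFc := CohFound.isCoh_of_isFinLocFree hF
  have hFN : Subsingleton (Coh.HH J.subscheme (CohB1.tensorMod ((Scheme.Modules.pullback i).obj F) N) 1) :=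
    DefAmp1.van_tensor_of_gg k hdJ (M1.isCoh_pullback i hFc) hgg hN.1 hNv
  have h3 : Subsingleton (Coh.HH X (CohB1.tensorMod Q F) 1) := by
    obtain ⟨π⟩ := nonempty_proj_iso J hF N
    haveI : (CohB1.tensorMod ((Scheme.Modules.pullback i).obj F) N).IsQuasicoherent :=
      (CurveCoh17.isCoh_tensor (M1.isCoh_pullback i hFc) hN).1
    obtain ⟨q'⟩ := CurveCoh17.nonempty_hequiv_push k i rfl
      (CohB1.tensorMod ((Scheme.Modules.pullback i).obj F) N) 1
    haveI := q'.toEquiv.subsingleton_congr.2 hFN
    exact CMReg18.van_iso k (M2.tensorIso eQ (Iso.refl F) ≪≫ π).symm (by assumption)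
  -- the kernel of `ρ` is the ideal of the union
  haveI := mono_idealModι (vI T hT)
  haveI := mono_idealModι J'
  have hle : J' ≤ vI T hT :=
    Scheme.IdealSheafData.vanishingIdeal_antimono (show (⟨T, hT⟩ : Closeds X) ≤ ⟨T ∪ E, hT.union hE⟩ from Set.subset_union_left)
  have hle' : J' ≤ J :=
    Scheme.IdealSheafData.vanishingIdeal_antimono (show (⟨E, hE⟩ : Closeds X) ≤ ⟨T ∪ E, hT.union hE⟩ from Set.subset_union_right)
  have hz : ∀ (K : X.IdealSheafData) (U : X.affineOpens) (a : Γ(X, U.1)), a ∈ K.ideal U →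
      (ClSub.toSubscheme K).app U.1 a = 0 := fun K U a ha => by
    obtain ⟨a', rfl⟩ := (M2.range_idealIncl K U).ge ha
    exact M2.subschemeι_app_idealIncl K a'
  obtain ⟨j, hj⟩ := KernelFork.IsLimit.lift' (kernelIsKernel (ClSub.toSubscheme (vI T hT))) (ClSub.idealModι J')
    (idealModι_comp_eq_zero J' _ fun U a ha => hz _ U a (hle U ha))
  change j ≫ ClSub.idealModι (vI T hT) = ClSub.idealModι J' at hj
  have hjρ : j ≫ ρ = 0 := by
    show j ≫ ClSub.idealModι (vI T hT) ≫ ClSub.toSubscheme J = 0
    rw [← Category.assoc, hj]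
    exact idealModι_comp_eq_zero J' _ fun U a ha => hz _ U a (hle' U ha)
  have hback : (kernel.ι ρ ≫ ClSub.idealModι (vI T hT)) ≫ ClSub.toSubscheme J' = 0 := by
    refine Scheme.Modules.hom_ext _ _ fun W => ?_
    ext s
    refine M1.section_ext _ _ fun x hx => ?_
    obtain ⟨U, hU, hxU, hUW⟩ := exists_isAffineOpen_mem_and_subset hx
    have e0 : ((kernel.ι ρ ≫ ClSub.idealModι (vI T hT)) ≫ ClSub.toSubscheme J').app U (M1.mres _ hUW s) = 0 := by
      generalize M1.mres (kernel ρ) hUW s = b
      let a : Γ(X, U) := M2.idealIncl (vI T hT) (U := U) ((kernel.ι ρ).app U b)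
      have haT : a ∈ (vI T hT).ideal ⟨U, hU⟩ := (M2.range_idealIncl _ ⟨U, hU⟩).le ⟨_, rfl⟩
      have haE : a ∈ J.ideal ⟨U, hU⟩ := by
        rw [← J.ker_subschemeι, Scheme.Hom.ker_apply, RingHom.mem_ker]
        exact congrArg (fun φ => φ.app U b) (kernel.condition ρ)
      refine hz J' ⟨U, hU⟩ a (mem_vI_of_forall' _ _ _ fun y hy hyU => ?_)
      rcases hy with hy | hy
      · exact notMem_basicOpen_of_vI' hT ⟨U, hU⟩ hyU hy haT
      · exact notMem_basicOpen_of_vI' hE ⟨U, hU⟩ hyU hy haE
    rw [M1.app_mres] at e0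
    rw [← germ_mres _ hUW hxU, e0, map_zero]
    exact (map_zero _).symm
  obtain ⟨l, hl⟩ := KernelFork.IsLimit.lift' (kernelIsKernel (ClSub.toSubscheme J')) _ hback
  change l ≫ ClSub.idealModι J' = kernel.ι ρ ≫ ClSub.idealModι (vI T hT) at hl
  let κ : ClSub.idealMod J' ≅ kernel ρ :=
    { hom := kernel.lift ρ j hjρ, inv := l
      hom_inv_id := by
        rw [← cancel_mono (ClSub.idealModι J'), Category.assoc, hl, kernel.lift_ι_assoc, hj, Category.id_comp]
      inv_hom_id := by
        rw [← cancel_mono (kernel.ι ρ), Category.assoc, kernel.lift_ι, Category.id_comp,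
          ← cancel_mono (ClSub.idealModι (vI T hT)), Category.assoc, hj, hl] }
  let S : ShortComplex X.Modules := ShortComplex.mk (kernel.ι ρ) (Abelian.factorThruImage ρ) (by
    rw [← cancel_mono (Abelian.image.ι ρ), Category.assoc, Abelian.image.fac, kernel.condition, zero_comp])
  have hS : S.ShortExact :=
    { exact := ShortComplex.exact_of_f_is_kernel _ (KernelFork.IsLimit.ofι _ S.zero
        (fun g hg => kernel.lift ρ g (by
          rw [← Abelian.image.fac ρ, ← Category.assoc]
          exact (congrArg (· ≫ Abelian.image.ι ρ) hg).trans zero_comp))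
        (fun g hg => kernel.lift_ι _ _ _)
        (fun g hg m hm => by
          rw [← cancel_mono (kernel.ι ρ), kernel.lift_ι]; exact hm))
      mono_f := inferInstanceAs (Mono (kernel.ι ρ))
      epi_g := inferInstanceAs (Epi (Abelian.factorThruImage ρ)) }
  exact DefAmp1.van_mid k (CurveCoh17.shortExact_tensorR hS F (flat_stalk_finLocFree hF))
    (CMReg18.van_iso k (M2.tensorIso κ (Iso.refl F)) h) h3

/-- The ideal of a connected subcurve has no `H¹` after twisting, if the bundle is generated on the other components. -/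
theorem van_idealMod_tensor [ConnectedSpace X] (hd : topologicalKrullDim X ≤ 1)
    (hg : Subsingleton (Coh.HH X (Coh.structureModule X) 1))
    {F : X.Modules} (hF : FlatMod.IsFinLocFree F) {R : Set X}
    (hgg : ∀ η ∈ genericPoints (X : Type u), ¬ closure ({η} : Set X) ⊆ R →
      Curv2.IsGloballyGenerated ((Scheme.Modules.pullback (vI (closure ({η} : Set X)) isClosed_closure).subschemeι).obj F)) :
    ∀ (n : ℕ) (T : Set X) (hT : IsClosed T), R ⊆ T → _root_.IsConnected T →
      {η ∈ genericPoints (X : Type u) | η ∉ T}.ncard ≤ n →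
      Subsingleton (Coh.HH X (CohB1.tensorMod (ClSub.idealMod (vI T hT)) F) 1) := by
  classical
  haveI := CohFound.isNoetherian_of_isProper (X ↘ Spec (CommRingCat.of k))
  have hfinG : (genericPoints (X : Type u)).Finite := genericPoints.finite NoetherianSpace.finite_irreducibleComponents
  intro n
  induction n with
  | zero =>
    intro T hT _ _ hn
    have hemp : {η ∈ genericPoints (X : Type u) | η ∉ T} = ∅ :=
      (Set.ncard_eq_zero (hfinG.subset (fun η (h : η ∈ genericPoints (X : Type u) ∧ η ∉ T) => h.1))).mp (Nat.le_zero.mp hn)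
    have huniv : T = Set.univ := Set.eq_univ_of_forall fun x => by
      obtain ⟨η, hη, hgen⟩ := TFOne27.exists_generic_of_component (irreducibleComponent_mem_irreducibleComponents x)
      have hηT : η ∈ T := by
        by_contra h
        exact (Set.eq_empty_iff_forall_notMem.mp hemp η) ⟨hη, h⟩
      exact (hgen.specializes mem_irreducibleComponent).mem_closed hT hηT
    subst huniv
    have h0 : ClSub.idealModι (vI (Set.univ : Set X) hT) = 0 := by
      rw [← Category.comp_id (ClSub.idealModι (vI (Set.univ : Set X) hT))]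
      refine idealModι_comp_eq_zero _ _ fun U a ha => ?_
      have hb : vI (Set.univ : Set X) hT = ⊥ := vI_univ
      rw [hb, Scheme.IdealSheafData.ideal_bot] at ha
      exact ha
    haveI := mono_idealModι (vI (Set.univ : Set X) hT)
    have hid : (M2.tensorR F).map (𝟙 (ClSub.idealMod (vI (Set.univ : Set X) hT))) = 0 := by
      rw [(IsZero.of_mono_eq_zero _ h0).eq_of_src (𝟙 _) 0, Functor.map_zero]
    refine subsingleton_of_forall_eq 0 fun z => ?_
    have e := congrArg (fun φ => hmap k φ 1 z) hid
    simp only [CategoryTheory.Functor.map_id, CurveCoh17.hmap_id, CurveCoh17.hmap_zero] at e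
    exact (CurveCoh17.hmap_id k _ 1 z).symm.trans e
  | succ n ih =>
    intro T hT hRT hc hn
    by_cases hle : {η ∈ genericPoints (X : Type u) | η ∉ T}.ncard ≤ n
    · exact ih T hT hRT hc hle
    let O := {η ∈ genericPoints (X : Type u) | η ∉ T}
    have hOfin : O.Finite := hfinG.subset fun η h => h.1
    obtain ⟨η, hηO, x, hxT, hxη⟩ : ∃ η ∈ O, ∃ x ∈ T, x ∈ closure ({η} : Set X) := by
      by_contra hne
      push Not at hne
      have hU : IsClosed (span O) := isClosed_span hOfin
      have hcov : ∀ x : X, x ∉ T → x ∈ span O := fun x hx => by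
        obtain ⟨η, hη, hgen⟩ := TFOne27.exists_generic_of_component (irreducibleComponent_mem_irreducibleComponents x)
        have hsp := hgen.specializes (mem_irreducibleComponent (x := x))
        exact Set.mem_iUnion₂.mpr ⟨η, ⟨hη, fun h => hx (hsp.mem_closed hT h)⟩, specializes_iff_mem_closure.mp hsp⟩
      have hT' : T = (span O)ᶜ := Set.ext fun x => ⟨fun hx hxs => by
          obtain ⟨η, hη, hxη⟩ := Set.mem_iUnion₂.mp hxs
          exact hne η hη x hx hxη, fun hx => by_contra fun h => hx (hcov x h)⟩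
      rcases isClopen_iff.mp (show IsClopen T from ⟨hT, hT' ▸ hU.isOpen_compl⟩) with h | h
      · exact hc.nonempty.ne_empty h
      · refine hle ?_
        rw [show {η ∈ genericPoints (X : Type u) | η ∉ T} = ∅ from
          Set.eq_empty_iff_forall_notMem.mpr fun η hη => hη.2 (h ▸ Set.mem_univ η), Set.ncard_empty]
        exact Nat.zero_le n
    have hgg' := hgg η hηO.1 fun h => hηO.2 (hRT (h (subset_closure rfl)))
    refine van_step (k := k) hd hg hF hT isClosed_closure hc hgg' (ih (T ∪ closure {η}) _ (hRT.trans Set.subset_union_left)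
      (hc.union ⟨x, hxT, hxη⟩ isIrreducible_singleton.closure.isConnected) ?_)
    have hsub : {ξ ∈ genericPoints (X : Type u) | ξ ∉ T ∪ closure {η}} ⊆ O \ {η} := fun ξ hξ =>
      ⟨⟨hξ.1, fun h => hξ.2 (Or.inl h)⟩, fun h => hξ.2 (Or.inr (by
        rw [Set.mem_singleton_iff.mp h]; exact subset_closure rfl))⟩
    refine (Set.ncard_le_ncard hsub hOfin.diff).trans ?_
    rw [Set.ncard_diff_singleton_of_mem hηO]
    show O.ncard - 1 ≤ n
    have : O.ncard ≤ n + 1 := hn
    omega

/-- `h¹` of a bundle on a rational tree is that of its restriction to a connected subcurve. -/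
theorem finrank_h1_eq_restrict [ConnectedSpace X] (hd : topologicalKrullDim X ≤ 1)
    (hg : Subsingleton (Coh.HH X (Coh.structureModule X) 1))
    {F : X.Modules} (hF : FlatMod.IsFinLocFree F) {R : Set X} (hR : IsClosed R) (hc : _root_.IsConnected R)
    (hgg : ∀ η ∈ genericPoints (X : Type u), ¬ closure ({η} : Set X) ⊆ R →
      Curv2.IsGloballyGenerated ((Scheme.Modules.pullback (vI (closure ({η} : Set X)) isClosed_closure).subschemeι).obj F)) :
    letI : (vI R hR).subscheme.Over (Spec (CommRingCat.of k)) :=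
      ⟨(vI R hR).subschemeι ≫ (X ↘ (Spec (CommRingCat.of k)))⟩
    Module.finrank k (Coh.HH X F 1) =
      Module.finrank k (Coh.HH (vI R hR).subscheme ((Scheme.Modules.pullback (vI R hR).subschemeι).obj F) 1) := by
  haveI := CohFound.isNoetherian_of_isProper (X ↘ Spec (CommRingCat.of k))
  let J₂ := vI R hR
  letI : J₂.subscheme.Over (Spec (CommRingCat.of k)) := ⟨J₂.subschemeι ≫ (X ↘ (Spec (CommRingCat.of k)))⟩
  have hXc := CurveAmple18.curveLike k X hd
  have hFc := CohFound.isCoh_of_isFinLocFree hF
  have hA1 := van_idealMod_tensor (k := k) hd hg hF hgg _ R hR subset_rfl hc le_rfl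
  have hS := shortExact_tensorR (M2.shortExact_idealMod J₂) F (flat_stalk_finLocFree hF)
  have a₁ : Adm k ((M2.tensorR F).obj (ClSub.idealMod J₂)) := hXc.adm (CurveCoh17.isCoh_tensor (isCoh_idealMod J₂) hFc)
  let S := (ShortComplex.mk (ClSub.idealModι J₂) (ClSub.toSubscheme J₂) (kernel.condition _)).map (M2.tensorR F)
  have hinj : Function.Injective (hmap k S.g 1) := (injective_iff_map_eq_zero _).mpr fun z hz => by
    obtain ⟨w, rfl⟩ := (exact_hmap_hmap k hS 1 z).1 hz
    haveI : Subsingleton (Coh.HH X S.X₁ 1) := hA1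
    rw [Subsingleton.elim w 0, map_zero]
  have hsur : Function.Surjective (hmap k S.g 1) := fun z => by
    haveI : Subsingleton (Coh.HH X S.X₁ 2) := a₁.vanish 0
    exact (exact_hmap_hdelta k hS 1 z).1 (Subsingleton.elim _ _)
  have e1 := (LinearEquiv.ofBijective _ ⟨hinj, hsur⟩).finrank_eq
  obtain ⟨π₂⟩ := nonempty_proj_iso J₂ hF (Coh.structureModule J₂.subscheme)
  haveI : ((Scheme.Modules.pullback J₂.subschemeι).obj F).IsQuasicoherent := (M1.isCoh_pullback _ hFc).1
  obtain ⟨q₂⟩ := CurveCoh17.nonempty_hequiv_push k J₂.subschemeι rfl ((Scheme.Modules.pullback J₂.subschemeι).obj F) 1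
  have e2 := (hequiv k (π₂ ≪≫ (Scheme.Modules.pushforward J₂.subschemeι).mapIso
    (M2.tensorRUnit ((Scheme.Modules.pullback J₂.subschemeι).obj F))) 1).finrank_eq
  have e3 := (hequiv k (M2.tensorLUnit F) 1).finrank_eq
  rw [← e3]
  exact e1.trans (e2.trans q₂.finrank_eq)

end Groth.Agent.CurveH1Min27
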