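import Groth.Agent.Lib.NodeMeet1
import Groth.Agent.Lib.CohFound.ProjQuot
import Groth.Agent.Lib.CurveH1Min27.Compl
import Groth.Agent.Lib.AmpleFin18.ProjFree

/-!
# The component sequence of a locally free sheaf on a nodal curve
-/

set_option autoImplicit false
set_option linter.style.haveILetI false
set_option linter.unusedSectionVars false
set_option backward.isDefEq.respectTransparency false

universe u

open CategoryTheory CategoryTheory.Limits AlgebraicGeometry TopologicalSpace Opposite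

namespace Groth.Agent.CurveH1Min27

open Groth.Agent.M1 Groth.Agent.CurveCoh17
open TFOne27 (GenClosed)

variable {X : Scheme.{u}}

theorem flat_stalk_finLocFree {E : X.Modules} (hE : FlatMod.IsFinLocFree E) (x : X) :
    Module.Flat (X.presheaf.stalk x) (E.presheaf.stalk x) := by
  obtain ⟨U, n, hxU, ⟨e⟩⟩ := hE x
  haveI := M1.free_stalk_of_freeMod (CohFound.isCoh_of_isFinLocFree hE).1 e hxU
  infer_instance

/-- Restriction to a closed subscheme as a twist of its structure sheaf. -/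
theorem nonempty_proj_iso (J : X.IdealSheafData) {F : X.Modules} (hF : FlatMod.IsFinLocFree F) (N : J.subscheme.Modules) :
    Nonempty (CohB1.tensorMod ((Scheme.Modules.pushforward J.subschemeι).obj N) F ≅
      (Scheme.Modules.pushforward J.subschemeι).obj
        (CohB1.tensorMod ((Scheme.Modules.pullback J.subschemeι).obj F) N)) := by
  haveI := AmpleFin18.isIso_projHom_of_locFree J.subschemeι F N hF
  exact ⟨M2.tensorComm _ F ≪≫ asIso (AmpleFin18.projHom J.subschemeι F N)⟩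

theorem mem_primeIdealOf' {U : X.Opens} (hU : IsAffineOpen U) {y : X} (hy : y ∈ U) (f : Γ(X, U)) :
    f ∈ (hU.primeIdealOf ⟨y, hy⟩).asIdeal ↔ y ∉ X.basicOpen f := by
  letI := X.presheaf.algebra_section_stalk ⟨y, hy⟩
  haveI := hU.isLocalization_stalk ⟨y, hy⟩
  rw [Scheme.mem_basicOpen X f y hy, iff_not_comm]
  exact IsLocalization.AtPrime.isUnit_to_map_iff (X.presheaf.stalk y) (hU.primeIdealOf ⟨y, hy⟩).asIdeal f

theorem notMem_basicOpen_of_vI' {Z : Set X} (hZ : IsClosed Z) (U : X.affineOpens) {y : X} (hyU : y ∈ U.1)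
    (hy : y ∈ Z) {f : Γ(X, U.1)} (hf : f ∈ (vI Z hZ).ideal U) : y ∉ X.basicOpen f := by
  have h : y ∈ ((vI Z hZ).support : Set X) ∩ (U.1 : Set X) :=
    ⟨(Scheme.IdealSheafData.coe_support_vanishingIdeal _).ge hy, hyU⟩
  rw [Scheme.IdealSheafData.coe_support_inter] at h
  exact (X.mem_zeroLocus_iff _ _).mp h.1 f hf

theorem exists_basicOpen_of_vI' {Z : Set X} (hZ : IsClosed Z) (U : X.affineOpens) {y : X} (hyU : y ∈ U.1)
    (hy : y ∉ Z) : ∃ f ∈ (vI Z hZ).ideal U, y ∈ X.basicOpen f := by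
  by_contra hne
  push Not at hne
  have h : y ∈ X.zeroLocus (U := U.1) ((vI Z hZ).ideal U) ∩ (U.1 : Set X) :=
    ⟨(X.mem_zeroLocus_iff _ _).mpr hne, hyU⟩
  rw [← Scheme.IdealSheafData.coe_support_inter] at h
  exact hy ((Scheme.IdealSheafData.coe_support_vanishingIdeal _).le h.1)

theorem mem_vI_of_forall' {Z : Set X} (hZ : IsClosed Z) (U : X.affineOpens) (f : Γ(X, U.1))
    (h : ∀ y ∈ Z, ∀ hy : y ∈ U.1, y ∉ X.basicOpen f) : f ∈ (vI Z hZ).ideal U := by
  rw [vI, Scheme.IdealSheafData.vanishingIdeal_ideal, PrimeSpectrum.mem_vanishingIdeal]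
  intro p hp
  have hyU : U.2.fromSpec p ∈ U.1 := by
    rw [← SetLike.mem_coe, ← U.2.range_fromSpec]
    exact ⟨p, rfl⟩
  have e : U.2.primeIdealOf ⟨_, hyU⟩ = p :=
    U.2.fromSpec.isOpenEmbedding.injective (U.2.fromSpec_primeIdealOf ⟨_, hyU⟩)
  rw [← e]
  exact (mem_primeIdealOf' U.2 hyU f).mpr (h _ hp hyU)

variable {k : Type u} [Field k] [IsAlgClosed k] [X.Over (Spec (CommRingCat.of k))]

/-- Complementary subcurves of a nodal curve meet scheme theoretically in their common points. -/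
theorem sup_eq_vI (hX : StabUniq18.IsNodalCurve k X) {T T' : Set X} (hT : IsClosed T) (hT' : IsClosed T')
    (hgT : GenClosed T) (hgT' : GenClosed T') (hcov : T ∪ T' = Set.univ)
    (hdis : ∀ η ∈ genericPoints (X : Type u), ¬ (η ∈ T ∧ η ∈ T')) :
    vI T hT ⊔ vI T' hT' = vI (T ∩ T') (hT.inter hT') := by
  haveI := hX.proper
  haveI := CohFound.isNoetherian_of_isProper (X ↘ Spec (CommRingCat.of k))
  haveI := hX.isReduced
  let Q := vI T hT ⊔ vI T' hT'
  have hsT : ((vI T hT).support : Set X) = T := Scheme.IdealSheafData.coe_support_vanishingIdeal _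
  have hsT' : ((vI T' hT').support : Set X) = T' := Scheme.IdealSheafData.coe_support_vanishingIdeal _
  have hQs : (Q.support : Set X) = T ∩ T' := by
    rw [Scheme.IdealSheafData.support_sup, Closeds.coe_inf, hsT, hsT']
  have hclosed : ∀ x ∈ T ∩ T', IsClosed ({x} : Set X) := fun x hx => by
    by_contra hn
    exact hdis x (mem_genericPoints_of_not_closed
      (CurveR1_10.topologicalKrullDim_le_of_components fun Z hZ => (hX.dim Z hZ).le) hn) hx
  have hstalk : ∀ x ∈ T ∩ T', IntMult.stalkIdeal Q x = IsLocalRing.maximalIdeal (X.presheaf.stalk x) :=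
    fun x hx => (NodeMeet1.stalkIdeal_sup _ _ x).trans
      (NodeMeet1.stalk_sup_eq_maximal hT hT' hgT hgT' hcov hdis hx (StabUniq18.mildSing hX (hclosed x hx)))
  have hmem : ∀ z : Q.subscheme, Q.subschemeι z ∈ T ∩ T' := fun z =>
    hQs ▸ (Q.range_subschemeι ▸ Set.mem_range_self z : Q.subschemeι z ∈ (Q.support : Set X))
  haveI : ∀ z : Q.subscheme, _root_.IsReduced (Q.subscheme.presheaf.stalk z) := fun z => by
    haveI : (IntMult.stalkIdeal Q (Q.subschemeι z)).IsMaximal :=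
      (hstalk _ (hmem z)) ▸ IsLocalRing.maximalIdeal.isMaximal _
    letI := Ideal.Quotient.field (IntMult.stalkIdeal Q (Q.subschemeι z))
    exact isReduced_of_injective (IntMult26.quotStalkIdealEquiv Q z).symm
      (IntMult26.quotStalkIdealEquiv Q z).symm.injective
  haveI : AlgebraicGeometry.IsReduced Q.subscheme := isReduced_of_isReduced_stalk Q.subscheme
  have h := eq_vI Q
  simp only [hQs] at h
  exact h

set_option maxHeartbeats 800000 in
/-- If the twisted first part has no `H¹`, the whole curve and the second part have the same `h¹`. -/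
theorem finrank_h1_component_sequence [IsProper (X ↘ Spec (CommRingCat.of k))] [AlgebraicGeometry.IsReduced X]
    (hX : StabUniq18.IsNodalCurve k X) (hd : topologicalKrullDim X ≤ 1) {F : X.Modules} (hF : FlatMod.IsFinLocFree F)
    {T₁ T₂ : Set X} (h₁ : IsClosed T₁) (h₂ : IsClosed T₂) (hcs : IsComplSub T₁ T₂) (hcov : T₁ ∪ T₂ = Set.univ)
    (P : (vI T₁ h₁).subscheme.IdealSheafData) [AlgebraicGeometry.IsReduced P.subscheme]
    (hP : ∀ x, x ∈ (P.support : Set (vI T₁ h₁).subscheme) ↔ (vI T₁ h₁).subschemeι x ∈ T₂)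
    (hvan : Subsingleton (Coh.HH (vI T₁ h₁).subscheme
      (CohB1.tensorMod ((Scheme.Modules.pullback (vI T₁ h₁).subschemeι).obj F) (ClSub.idealMod P)) 1)) :
    letI : (vI T₂ h₂).subscheme.Over (Spec (CommRingCat.of k)) :=
      ⟨(vI T₂ h₂).subschemeι ≫ (X ↘ (Spec (CommRingCat.of k)))⟩
    Module.finrank k (Coh.HH X F 1) =
      Module.finrank k (Coh.HH (vI T₂ h₂).subscheme ((Scheme.Modules.pullback (vI T₂ h₂).subschemeι).obj F) 1) := by
  have hXc := CurveAmple18.curveLike k X hd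
  haveI := hXc.noetherian
  let J₁ := vI T₁ h₁
  let J₂ := vI T₂ h₂
  let i := J₁.subschemeι
  letI : J₁.subscheme.Over (Spec (CommRingCat.of k)) := ⟨i ≫ (X ↘ (Spec (CommRingCat.of k)))⟩
  letI : J₂.subscheme.Over (Spec (CommRingCat.of k)) := ⟨J₂.subschemeι ≫ (X ↘ (Spec (CommRingCat.of k)))⟩
  haveI : IsProper (J₁.subscheme ↘ Spec (CommRingCat.of k)) :=
    inferInstanceAs (IsProper (i ≫ (X ↘ (Spec (CommRingCat.of k)))))
  haveI := CohFound.isNoetherian_of_isProper (J₁.subscheme ↘ Spec (CommRingCat.of k))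
  haveI : (Scheme.Modules.pushforward i).IsRightAdjoint :=
    (Scheme.Modules.pullbackPushforwardAdjunction i).isRightAdjoint
  haveI : PreservesFiniteLimits (Scheme.Modules.pushforward i) := inferInstance
  let G := Scheme.Modules.pushforward i
  haveI := mono_rho h₁ h₂ hcs
  haveI hmι : Mono (ClSub.idealModι P) := inferInstanceAs (Mono (kernel.ι (ClSub.toSubscheme P)))
  haveI : Mono (G.map (ClSub.idealModι P)) := inferInstance
  let e : G.obj (Coh.structureModule J₁.subscheme) ≅ TFOne27.OT T₁ h₁ := Iso.refl _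
  have hsupp₁ : (J₁.support : Set X) = T₁ := Scheme.IdealSheafData.coe_support_vanishingIdeal _
  -- the ideal of the second part maps into the ideal of the meeting points
  have hto : rho h₁ h₂ ≫ G.map (ClSub.toSubscheme P) = 0 := by
    rw [Category.assoc]
    refine idealModι_comp_eq_zero _ _ fun U a ha => ?_
    show (ClSub.toSubscheme P).app (i ⁻¹ᵁ U.1) (i.app U.1 a) = 0
    obtain ⟨hV, -⟩ : IsAffineOpen (i ⁻¹ᵁ U.1) ∧ True := ⟨U.2.preimage i, trivial⟩
    have hmem : i.app U.1 a ∈ P.ideal ⟨i ⁻¹ᵁ U.1, hV⟩ := by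
      rw [eq_vI P]
      refine mem_vI_of_forall' _ ⟨i ⁻¹ᵁ U.1, hV⟩ _ fun y hy hyU hb => ?_
      have hb' : y ∈ i ⁻¹ᵁ X.basicOpen a := by rw [Scheme.preimage_basicOpen]; exact hb
      exact notMem_basicOpen_of_vI' h₂ U hyU ((hP y).mp hy) ha hb'
    obtain ⟨b, hb⟩ := (M2.range_idealIncl P ⟨i ⁻¹ᵁ U.1, hV⟩).ge hmem
    rw [← hb]
    exact M2.subschemeι_app_idealIncl P b
  have hlim := isLimitOfHasKernelOfPreservesLimit G (ClSub.toSubscheme P)
  obtain ⟨l, hl⟩ := KernelFork.IsLimit.lift' hlim (rho h₁ h₂) hto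
  change l ≫ G.map (ClSub.idealModι P) = rho h₁ h₂ at hl
  -- and onto
  have hπ : G.map (ClSub.idealModι P) ≫ cokernel.π (rho h₁ h₂) = 0 := by
    refine Scheme.Modules.hom_ext _ _ fun W => ?_
    ext s
    refine M1.section_ext _ _ fun x hx => ?_
    obtain ⟨U, hU, hxU, hUW⟩ := exists_isAffineOpen_mem_and_subset hx
    have e0 : (G.map (ClSub.idealModι P) ≫ cokernel.π (rho h₁ h₂)).app U (M1.mres _ hUW s) = 0 := by
      generalize M1.mres (G.obj (ClSub.idealMod P)) hUW s = b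
      let b' : Γ(J₁.subscheme, i ⁻¹ᵁ U) := M2.idealIncl P (show Γ(ClSub.idealMod P, i ⁻¹ᵁ U) from b)
      have hV : IsAffineOpen (i ⁻¹ᵁ U) := hU.preimage i
      have hbP : b' ∈ P.ideal ⟨i ⁻¹ᵁ U, hV⟩ := (M2.range_idealIncl P ⟨i ⁻¹ᵁ U, hV⟩).le ⟨_, rfl⟩
      obtain ⟨f, hf⟩ := i.app_surjective U hU b'
      have hfm : f ∈ (vI (T₁ ∩ T₂) (h₁.inter h₂)).ideal ⟨U, hU⟩ := by
        refine mem_vI_of_forall' _ ⟨U, hU⟩ f fun y hy hyU hb => ?_
        obtain ⟨z, rfl⟩ : y ∈ Set.range i := (J₁.range_subschemeι.trans hsupp₁).ge hy.1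
        have hz : z ∈ J₁.subscheme.basicOpen b' := by
          rw [← hf, ← Scheme.preimage_basicOpen]; exact hb
        refine notMem_basicOpen_of_vI' P.support.isClosed ⟨i ⁻¹ᵁ U, hV⟩ hyU ((hP z).mpr hy.2) ?_ hz
        exact (eq_vI P) ▸ hbP
      rw [← sup_eq_vI hX h₁ h₂ hcs.1 hcs.2.1 hcov (fun η hη h => (hcs.2.2 η hη).1 h.2 h.1),
        Scheme.IdealSheafData.ideal_sup, Pi.sup_apply] at hfm
      obtain ⟨f₁, hf₁, f₂, hf₂, rfl⟩ := Submodule.mem_sup.mp hfm
      obtain ⟨b₁, hb₁⟩ := (M2.range_idealIncl J₁ ⟨U, hU⟩).ge hf₁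
      obtain ⟨b₂, hb₂⟩ := (M2.range_idealIncl J₂ ⟨U, hU⟩).ge hf₂
      have z1 : i.app U f₁ = 0 := by rw [← hb₁]; exact M2.subschemeι_app_idealIncl J₁ b₁
      have hb' : b' = (rho h₁ h₂).app U b₂ := by
        rw [← hf, map_add, z1, zero_add, ← hb₂]; rfl
      show (cokernel.π (rho h₁ h₂)).app U b' = 0
      rw [hb']
      exact congrArg (fun g => g.app U b₂) (cokernel.condition (rho h₁ h₂))
    rw [M1.app_mres] at e0
    rw [← germ_mres _ hUW hxU, e0, map_zero]
    exact (map_zero _).symm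
  obtain ⟨m, hm⟩ := KernelFork.IsLimit.lift'
    (Abelian.monoIsKernelOfCokernel _ (cokernelIsCokernel (rho h₁ h₂))) (G.map (ClSub.idealModι P)) hπ
  change m ≫ rho h₁ h₂ = G.map (ClSub.idealModι P) at hm
  let κ : ClSub.idealMod J₂ ≅ G.obj (ClSub.idealMod P) :=
    { hom := l, inv := m
      hom_inv_id := by rw [← cancel_mono (rho h₁ h₂), Category.assoc, hm, hl, Category.id_comp]
      inv_hom_id := by rw [← cancel_mono (G.map (ClSub.idealModι P)), Category.assoc, hl, hm, Category.id_comp] }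
  -- cohomology
  have hFc := CohFound.isCoh_of_isFinLocFree hF
  have hflat := flat_stalk_finLocFree hF
  have hS := shortExact_tensorR (M2.shortExact_idealMod J₂) F hflat
  have hPc : Coh.IsCoh (ClSub.idealMod P) :=
    CurveCoh17.isCoh_kernel CurveCoh17.isCoh_structureModule (M1.isQCoh_push _ (M1.isQCoh_structureModule _)) _
  haveI : (CohB1.tensorMod ((Scheme.Modules.pullback i).obj F) (ClSub.idealMod P)).IsQuasicoherent :=
    (CurveCoh17.isCoh_tensor (M1.isCoh_pullback i hFc) hPc).1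
  obtain ⟨π₁⟩ := nonempty_proj_iso J₁ hF (ClSub.idealMod P)
  obtain ⟨q₁⟩ := CurveCoh17.nonempty_hequiv_push k i rfl
    (CohB1.tensorMod ((Scheme.Modules.pullback i).obj F) (ClSub.idealMod P)) 1
  have hA1 : Subsingleton (Coh.HH X (CohB1.tensorMod (ClSub.idealMod J₂) F) 1) := by
    haveI := hvan
    haveI := q₁.toEquiv.subsingleton
    exact (hequiv k (M2.tensorIso κ (Iso.refl F) ≪≫ π₁) 1).toEquiv.subsingleton
  have a₁ : Adm k ((M2.tensorR F).obj (ClSub.idealMod J₂)) := hXc.adm (CurveCoh17.isCoh_tensor (isCoh_idealMod J₂) hFc)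
  haveI := a₁.vanish 0
  let S := (ShortComplex.mk (ClSub.idealModι J₂) (ClSub.toSubscheme J₂) (kernel.condition _)).map (M2.tensorR F)
  have hinj : Function.Injective (hmap k S.g 1) := (injective_iff_map_eq_zero _).mpr fun z hz => by
    obtain ⟨w, rfl⟩ := (exact_hmap_hmap k hS 1 z).1 hz
    haveI : Subsingleton (Coh.HH X S.X₁ 1) := hA1
    rw [Subsingleton.elim w 0, map_zero]
  have hsur : Function.Surjective (hmap k S.g 1) := fun z => by
    haveI : Subsingleton (Coh.HH X S.X₁ 2) := a₁.vanish 0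
    exact (exact_hmap_hdelta k hS 1 z).1 (Subsingleton.elim _ _)
  have e1 := (LinearEquiv.ofBijective _ ⟨hinj, hsur⟩).finrank_eq
  obtain ⟨π₂⟩ := nonempty_proj_iso J₂ hF (Coh.structureModule J₂.subscheme)
  haveI : ((Scheme.Modules.pullback J₂.subschemeι).obj F).IsQuasicoherent := (M1.isCoh_pullback _ hFc).1
  obtain ⟨q₂⟩ := CurveCoh17.nonempty_hequiv_push k J₂.subschemeι rfl ((Scheme.Modules.pullback J₂.subschemeι).obj F) 1
  have e2 := (hequiv k (π₂ ≪≫ (Scheme.Modules.pushforward J₂.subschemeι).mapIso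
    (M2.tensorRUnit ((Scheme.Modules.pullback J₂.subschemeι).obj F))) 1).finrank_eq
  have e3 := (hequiv k (M2.tensorLUnit F) 1).finrank_eq
  rw [← e3]
  exact e1.trans (e2.trans q₂.finrank_eq)

end Groth.Agent.CurveH1Min27
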